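import Cfsg.Agent.FS.Sw.Fa
import Cfsg.Agent.FS.Gen.K6_m3
import Cfsg.Agent.H754.MpSat
import Cfsg.Agent.H802.FusEss
import Cfsg.Agent.H802.FusCentric
import Mathlib.GroupTheory.Perm.Cycle.Type
import Mathlib.GroupTheory.Nilpotent
import Mathlib.GroupTheory.Sylow
import Cfsg.Agent.H759.FusNormal
import Cfsg.Agent.FS.Real.Math
import Cfsg.Agent.FS.Sw.D7g_m3
import Cfsg.Agent.S5265
import Cfsg.Prelude.Def_FusionReduction
import Cfsg.Agent.H767.FusTransfer
import Cfsg.Agent.H802.FusAlp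
import Cfsg.Agent.H802.FusNorm
import Cfsg.Agent.FastGrp
import Cfsg.Agent.Prune
set_option linter.all false

section
prune_inst 0x7ffcfef9afb88ddfffff7e7fffffdffe3ad4dfffffdffb0bfffdfbffffff236f7be5fbaf1de4d8ffded7e0be30b87813f9ffceffef6bdc7ffffd5ff45ffbee1fe5ffbf8d71d6bc340ffe6ffffbf37fffffffffffffffffffffffffffffffffffffffffffffff

-- part: FS/Sw/D7c
section
set_option linter.all false

/-! The filter on the pairs for the order 256, part 3 (generated; helper79, project FS) -/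

set_option autoImplicit false
set_option maxRecDepth 100000
set_option Elab.async false

namespace Cfsg.Agent.FS.Sw

open Gen

noncomputable def sp7_13_1 : F7.Pt S8 b7_13 := ⟨_,
F7.e 26 0 544 0xfc7d7e7ff8797a7bf4757677cc4d4e4fc8494a4bc445464790111213838281 0x0 [] (by decide +kernel) <|
F7.e 25 0 892 0xf0717273cc4d4e4fc8494a4bc445464790111213838281 0x0 [] (by decide +kernel) <|
F7.e 24 0 892 0xfc7d7e7ff8797a7bf4757677cc4d4e4fc8494a4bc445464791139012838281 0x807000a07000c07003007003207003407017a02017c07017e0201800202e80302ea0702ec02 [] (by decide +kernel) <|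
F7.e 23 0 892 0xf0717273c041424391139012838281 0x807000a07000c02003007003207003407017a02017c07017e0701800202e80502ea0202ec07 [] (by decide +kernel) <|
F7.e 22 906 726 0xfc7d7e7ff8797a7bf4757677c041424391139012838281 0x7ca0507cc0507ce0507d005080a05080c05080e05081005 [] (by decide +kernel) <|
F7.e 22 181 725 0xfc7d7e7ff8797a7bf4757677c041424391139012838281 0x20a02020c07020e02021002024a07024c05024e07025002028a02028c05028e0502900202ca0502cc0202ce0502d002040a05040c07040e0604100604ca0204cc0704ce0704d007050a03050c03050e03051003064a05064c05064e05065005068a05068c05068e07069002 [] (by decide +kernel) <|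
F7.e 22 0 181 0xfc7d7e7ff8797a7bf4757677c041424391139012838281 0xa05000c05000e05001005004a05004c05004e05005005008a06008c06008e0700900500ca0600cc0600ce0500d007 [] (by decide +kernel) <|
F7.e 21 0 892 0xfc7d7e7fcc4d4e4f9c1d1e1f8a0b880986078405838281 0x1205001407002e06003207003805005c06005e07006407007605007807008a06008c0700a60500aa0700b00600d40600d60700dc0400ee0600f007 [] (by decide +kernel) <|
F7.e 20 1557 779 0xfc7d7e7fcc4d4e4f9c1d1e1f8a0b880986078405838281 0x0 [] (by decide +kernel) <|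
F7.e 20 778 779 0xfc7d7e7fcc4d4e4f9c1d1e1f8a0b880986078405838281 0x0 [] (by decide +kernel) <|
F7.e 20 0 778 0xfc7d7e7fcc4d4e4f9c1d1e1f8a0b880986078405838281 0x1a07001e05002405004207004606004c05007807007c0500840500900500b80700bc0600c40600d00400ea0400ee0600f405011207011605011c03013a07013e06014406016207016605016c04019807019c0601a40501b00701d80701dc0501e40501f005020a07020e06021405023207023606023c05 [] (by decide +kernel) <|
F7.e 19 3560 792 0xfc7d7e7fcc4d4e4f98191a1b94151617901112138a0b880986078405838281 0x0 [] (by decide +kernel) <|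
F7.e 19 2769 791 0xfc7d7e7fcc4d4e4f98191a1b94151617901112138a0b880986078405838281 0x0 [] (by decide +kernel) <|
F7.e 19 1978 791 0xfc7d7e7fcc4d4e4f98191a1b94151617901112138a0b880986078405838281 0x0 [] (by decide +kernel) <|
F7.e 19 1186 792 0xfc7d7e7fcc4d4e4f98191a1b94151617901112138a0b880986078405838281 0x0 [] (by decide +kernel) <|
F7.e 19 395 791 0xfc7d7e7fcc4d4e4f98191a1b94151617901112138a0b880986078405838281 0x31804031c06034407035007035807035c05038403039003039807039c0403c40503d00303d80703dc06 [] (by decide +kernel) <|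
F7.e 19 0 395 0xfc7d7e7fcc4d4e4f98191a1b94151617901112138a0b880986078405838281 0x405001003001803001c03004407005003005803005c04008404009003009803009c0400c40400d00300d80700dc07010406011005011807011c07014407015005015804015c07018405019003019804019c0501c40501d00301d80301dc07020406021003021803021c03024406025003025807025c03028405029007029807029c0502c40402d00702d80402dc06030406031007 [] (by decide +kernel) <|
F7.e 18 1557 779 0xf8797a7bf4757677f0717273cc4d4e4f98191a1b94151617901112138a0b880986078405838281 0x0 [] (by decide +kernel) <|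
F7.e 18 778 779 0xf8797a7bf4757677f0717273cc4d4e4f98191a1b94151617901112138a0b880986078405838281 0x0 [] (by decide +kernel) <|
F7.e 18 0 778 0xf8797a7bf4757677f0717273cc4d4e4f98191a1b94151617901112138a0b880986078405838281 0x804000c05001407003004003405003c03004805007004007403007c0700880700b00400b40700bc0300d80700dc0500e404010003010406010c04012803012c05013403015007015405015c04016806019003019403019c0701a80601d00401d40601dc0401f80601fc05020407022004022406022c07 [] (by decide +kernel) <|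
F7.e 17 1557 779 0xfc7d7e7fcc4d4e4f98191a1b94151617911390128a0b880986078405838281 0x0 [] (by decide +kernel) <|
F7.e 17 778 779 0xfc7d7e7fcc4d4e4f98191a1b94151617911390128a0b880986078405838281 0x0 [] (by decide +kernel) <|
F7.e 17 0 778 0xfc7d7e7fcc4d4e4f98191a1b94151617911390128a0b880986078405838281 0x406000805000a05000c07001403002c06003005003205003407003c06005202005406005607005807006003006806006c0300940600a00300a80300ac0700d40700dc0300e40600fc03010403010c06012406012c03013403014c06015403015c07017407018003018807018c0701b40601c00301c80601cc0601f40601fc03020403021c07022403022c07024805024a02024c05026a05026c05026e0202700502aa0602ac0602ae0602b00602b20702b40702b60702b80702ea0602ec0602ee0602f00702f20702f407031206031406031606031807031a07031c0703ca0603cc0603ce0603d00603d20703d40703d60703d807040a06040c06040e06041007041207041407043206043406043606043807043a07043c0704620204640504660504680204a00504a20204a405 [] (by decide +kernel) <|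
F7.e 16 1557 779 0xf8797a7bf4757677f0717273c8494a4bc4454647c041424398191a1b94151617911390128a0b880986078405838281 0x0 [] (by decide +kernel) <|
F7.e 16 778 779 0xf8797a7bf4757677f0717273c8494a4bc4454647c041424398191a1b94151617911390128a0b880986078405838281 0x0 [] (by decide +kernel) <|
F7.e 16 0 778 0xf8797a7bf4757677f0717273c8494a4bc4454647c041424398191a1b94151617911390128a0b880986078405838281 0x206000805000a07000c05001205002a04003005003207003405003a06005206005406005606005806005e07006605006a05009206009e0400a60600aa0400d20400da0400e20400fa06010207010a04012206012a04013204014a06015207015a04017206017e07018605018a0701b20401be0701c60401ca0401f20401fa07020206021a06022204022a05024802024a02024c02026a02026c07026e0202700702aa0602ac0602ae0602b00602b20702b40702b60702b80702ea0602ec0602ee0602f00702f20702f407031206031406031606031807031a07031c0703ca0603cc0603ce0603d00603d20703d40703d60703d807040a06040c06040e06041007041207041407043206043406043606043807043a07043c0704620204640704660704680204a00504a20204a407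 [] (by decide +kernel) <|
F7.e 15 353 883 0xfc7d7e7fc8494a4bc4454647c143c04298191a1b94151617911390128a0b880986078405838281 0x2ca0602cc0602ce0602d00602d20702d40702d60702d807030a06030c06030e06031007031207031407034606034806034a06034c07034e07035007043606043806043a07043c07046a06046c06046e0704700704a20604a40704ce0604d007 [] (by decide +kernel) <|
F7.e 15 0 353 0xfc7d7e7fc8494a4bc4454647c143c04298191a1b94151617911390128a0b880986078405838281 0x604000a07000c07000e05001005001a04002e04003207003407003605003805003a04004607006a07006c06006e05007e03008e05009006009205009a0400a60600ce0700d20700e20400f60300fa04010a07012a04014207014e07017e04019207019e0401c60301ca0701da0401ee0401f20402020402a20602a40602a60602a80602aa0702ac0702ae0702b007 [] (by decide +kernel) <|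
F7.e 14 3560 792 0xfc7d7e7fc8494a4bc4454647c041424398191a1b94151617911390128a0b880986078405838281 0x0 [] (by decide +kernel) <|
F7.e 14 2769 791 0xfc7d7e7fc8494a4bc4454647c041424398191a1b94151617911390128a0b880986078405838281 0x0 [] (by decide +kernel) <|
F7.e 14 1978 791 0xfc7d7e7fc8494a4bc4454647c041424398191a1b94151617911390128a0b880986078405838281 0x0 [] (by decide +kernel) <|
F7.e 14 1186 792 0xfc7d7e7fc8494a4bc4454647c041424398191a1b94151617911390128a0b880986078405838281 0x0 [] (by decide +kernel) <|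
F7.e 14 593 593 0xfc7d7e7fc8494a4bc4454647c041424398191a1b94151617911390128a0b880986078405838281 0x4c20404c40404c60404c80404ca0504cc0504ce0504d005050204050404050604050804050a05050c05050e05051005054204054404054604054804054a05054c05054e05055005058204058404058604058804058a05058c05058e0505900506c20406c40406c60406c80406ca0506cc0506ce0506d005070204070404070604070804070a05070c05070e05071005074204074404074604074804074a05074c05074e05075005078204078404078604078804078a05078c05078e05079005 [] (by decide +kernel) <|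
F7.c0⟩

end Cfsg.Agent.FS.Sw
end

-- part: FS/Sw/D7o
section
set_option linter.all false

/-! The filter on the pairs for the order 256, part 15 (generated; helper79, project FS) -/

set_option autoImplicit false
set_option maxRecDepth 100000
set_option Elab.async false

namespace Cfsg.Agent.FS.Sw

open Gen

noncomputable def sp7_51_1 : F7.Pt S8 b7_51 := ⟨_,
F7.e 29 0 38 0x9c1d9a1b961790118c0d8a0b878681 0x602002602002e02003002 [] (by decide +kernel) <|
F7.e 28 0 44 0x9c1d9a1b979691908c0d8a0b878681 0x402000602002a02002c02003a02003c02 [] (by decide +kernel) <|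
F7.e 27 0 30 0x9c1d9a1b961791908c0d8a0b860781 0x402002602002802002a02 [] (by decide +kernel) <|
F7.e 26 0 31 0x9e1f9c1d921390118f8e8d8c838281 0x602000e03001003001a03001c01001e03002003002202002402002603002803 [] (by decide +kernel) <|
F7.e 25 0 52 0x9e1f9c1d921390118f8e8d8c838281 0x402001e03002003002602002802002a03002c03002e00003003004603004803006602006802 [(22, ⟨295, 0xc00080008000f000a0008000808100, 0x3c440201e090401⟩)] (by decide +kernel) <|
F7.e 24 0 48 0x9f9e9d9c939291908f8e8d8c838281 0x402000602002000002202003202 [(15, ⟨296, 0x4000c0002000040008001e0002000201, 0x3d880201c081002⟩)] (by decide +kernel) <|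
F7.e 23 0 128 0x961794159213919086078405820381 0x202000402000602000802000a02000c02001601001801001a01001c01002203002403002603002803002a03002c03002e03003003003201003401003601003801003a01003c01003e01004001004202004402004601004801004a01004c01004e01005001005402005602005802005a01005c01005e03006003006601006801006a01006c01007203007403007603007803007a01007c01 [] (by decide +kernel) <|
F7.e 22 0 48 0x961794159213901186078405838281 0x602000e01001001001201001401001603001803001a03002202002402002603002803 [] (by decide +kernel) <|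
F7.e 21 0 52 0x961794159392919086078405838281 0x402000602001603001803001a03002202002402 [] (by decide +kernel) <|
F7.e 20 0 48 0x8e0f8c0d8a0b880986078405838281 0x202000602000803000a03000c03000e02001003001203001402002202002402002602002a02003002003402003602003802003a01003c01003e01004001004203004601005003005403005601005801005a01 [] (by decide +kernel) <|
F7.e 19 0 70 0x9e1f9c1d9a1b981996179415939291908e0f8c0d8a0b880986078405838281 0x200000404000600000a01000c01002200002400002a00002e00003401003801004200004400004601004805004a00004c00004e01005006006201006601006e01007201008201008401008601008801 [(37, ⟨297, 0x80004000200010000800040002000001, 0x180402010080402⟩), (36, ⟨298, 0x80004000200010000800040002000001, 0x180402010080402⟩), (33, ⟨299, 0x80004000200010000800040002000001, 0x180402010080402⟩), (32, ⟨300, 0x80004000200010000800040002000001, 0x180402010080402⟩), (22, ⟨295, 0x40008000300004000801100000010200, 0x2408024040a1001⟩), (20, ⟨296, 0x40008000200004000801100000010200,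 0x2408020040a1001⟩), (17, ⟨301, 0x80004000200010000800040002000001, 0x180402010080402⟩), (16, ⟨302, 0x80004000200010000800040002000001, 0x180402010080402⟩), (2, ⟨288, 0x40008000200004000800100000010200, 0x240802004081001⟩), (0, ⟨91, 0x80004000200000011000080004000200, 0x1080402008040201⟩)] (by decide +kernel) <|
F7.e 18 0 80 0x9a1b9819921390118a0b8988820381 0x202000402000602000802000a02000c02001203001403001602001801001a02001c02001e02002002002203002403002a02002c02002e02003002003601003801003a03003c03003e03004003004202004402004602004802004e03005003006203006403006603006803008a02008c03008e03009003 [] (by decide +kernel) <|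
F7.e 17 0 80 0x9a1b9998921391908a0b8988820381 0x200000400000602000802000a00000c00001203001403001601001802001a00001c00001e02002002002603002803002a00002c00002e02003002003201003401003a03003c03003e03004003004201004401004602004802004e03005003006203006403006603006803008a02008c03008e03009003 [(21, ⟨295, 0x800080008000800080008000800001, 0x180402010080402⟩), (20, ⟨296, 0x800080008000800080008000800001, 0x180402010080402⟩), (13, ⟨294, 0x800080008000800080008000008100, 0x280402010080401⟩), (12, ⟨293, 0x800080008000800080008000008100, 0x280402010080401⟩), (5, ⟨292, 0x800080008000800080008000008100, 0x280402010080401⟩), (4, ⟨291, 0x800080008000800080008000008100, 0x280402010080401⟩), (1, ⟨290, 0x800080008000800080008000008100, 0x280402010080401⟩), (0, ⟨93, 0x800080008000001100010001000100, 0x1080402008040201⟩)] (by decide +kernel) <|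
F7.e 16 0 48 0x961794159213901187868584838281 0x602001201001401001601001801001a02001c02002202002402003602003802 [] (by decide +kernel) <|
F7.e 15 0 34 0x961794159213901187868584838281 0x402000e01001001001200001401001602001802001e02002002 [(8, ⟨294, 0x800080008000800080008000800001, 0x180402010080402⟩)] (by decide +kernel) <|
F7.e 14 0 46 0x979695949392919087868584838281 0x402000602000e01001001001200001401001602001802001e02002002004c01004e01005001005201005801 [(8, ⟨293, 0x80004000200010000800040002000001, 0x180402010080402⟩)] (by decide +kernel) <|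
F7.e 13 0 72 0x9a1b9819921391908a0b8809820381 0x202000402000602000802000a02000e02001002001202001402001602001802001a02001c02001e03002003002203002403002601002802002a02002c01003203003403003603003803004202004402004602004802004e03005003005203005402005603005a03005c03005e03006003006203006403006603006803 [] (by decide +kernel) <|
F7.e 12 0 45 0x8f8e8d8c8b8a898887868584838281 0x801000e00001001001202001602001a01004401004a01004c01005201005601 [(6, ⟨292, 0x80004000200010000800040002000001, 0x180402010080402⟩)] (by decide +kernel) <|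
F7.e 11 0 22 0x8f8e8d8c8b8a898887868584838281 0x601000e00001001001202001601002601002801002a01002c01 [(6, ⟨291, 0x80004000200010000800040002000001, 0x180402010080402⟩)] (by decide +kernel) <|
F7.e 10 0 87 0x9e1f9c1d9a1b981996179415921390118f8e8d8c8b8a898887868584838281 0x204000a01000c01000e01001404001800001a01001c04002000002205002804002c00002e0100320100341e003601003c00004001004200004400004a01004c00004e00005201005401005c01005e01006a01006c01007801007a01008012008613008801008e01009001009404009600009c06009e0500a40100a60100aa0100ac01 [(74, ⟨282, 0x800010000200004000080001000020000001, 0x180402010080402⟩), (38, ⟨283, 0x800010000200004000080001000020000001, 0x180402010080402⟩), (37, ⟨284, 0x800010000200004000080001000020000001, 0x180402010080402⟩), (33, ⟨285, 0x800010000200004000080001000020000001, 0x180402010080402⟩), (32, ⟨286, 0x800010000200004000080001000020000001, 0x180402010080402⟩), (29, ⟨287, 0x800010000200004000080001000020000001, 0x180402010080402⟩),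 (21, ⟨288, 0x800010000200004000080001000020000001, 0x180402010080402⟩), (15, ⟨289, 0x800010000200004000080001000020000001, 0x180402010080402⟩), (11, ⟨290, 0x800010000200004000080001000020000001, 0x180402010080402⟩)] (by decide +kernel) <|
F7.e 9 0 48 0xf8797a7b7c7d7e7f901112131415161787868584838281 0x0 [] (by decide +kernel) <|
F7.e 8 0 128 0x87868584838281 0x0 [] (by decide +kernel) <|
F7.e 7 0 128 0xf07172737475767787868584838281 0x0 [] (by decide +kernel) <|
F7.e 6 0 128 0x87868584838281 0x0 [] (by decide +kernel) <|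
F7.e 5 0 128 0xf8797a7b7c7d7e7f87868584838281 0x0 [] (by decide +kernel) <|
F7.e 4 0 128 0x87868584838281 0x0 [] (by decide +kernel) <|
F7.e 3 0 128 0xc04142434445464787868584838281 0x0 [] (by decide +kernel) <|
F7.e 2 0 128 0x87868584838281 0x0 [] (by decide +kernel) <|
F7.e 1 0 128 0xc04142434445464787868584838281 0x0 [] (by decide +kernel) <|
F7.e 0 0 28 0x87868584838281 0x0 [] (by decide +kernel) <|
F7.c0⟩

noncomputable def sp7_52_0 : F7.Pt S8 b7_52 := ⟨_,
F7.e 31 0 34 0x9c1d1e1f98191a1b95169417911390128e0f8c0d8a0b880986078405838281 0x200000405000600001202001402001601001801002602002802002e04003004003604003801 [(2, ⟨332, 0x800080008000800080008000008100, 0x280402010080401⟩), (0, ⟨100, 0x800080008000001100010001000100, 0x1080402008040201⟩)] (by decide +kernel) <|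
F7.e 30 0 19 0x86078405820381 0x0 [] (by decide +kernel) <|
F7.e 29 0 19 0x9c1d1e1f98191a1b941516179011121386078405820381 0x0 [] (by decide +kernel) <|
F7.e 28 0 22 0x9c1d1e1f901112138f8e8d8c838281 0x1603002402002601002c03 [] (by decide +kernel) <|
F7.e 27 0 20 0x9d1f9c1e911390128f8e8d8c838281 0x202000402001203001e02002003002618 [] (by decide +kernel) <|
F7.e 26 0 25 0x9d1f9c1e911390128f8e8d8c838281 0x402001403002401002602002803 [] (by decide +kernel) <|
F7.e 25 0 16 0x941516179011121387868584838281 0x1203001403001601001801001a02001c02 [] (by decide +kernel) <|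
F7.e 24 0 24 0x951794169113901287868584838281 0x402001203001403001600001800001a02001c02002801002a01002c01 [(11, ⟨335, 0x9000a0008000900080208040008100, 0x2905020110a0601⟩), (10, ⟨336, 0x800080008000800080008000008100, 0x280402010080401⟩)] (by decide +kernel) <|
F7.e 23 0 40 0x9c1d1e1f901112138a0b8809820381 0x200000400000602000802000a00000c00000e02001002001a00001c00001e02002002003e02004002004e02005002 [(13, ⟨335, 0x8001000200040008001000200001, 0x180402010080402⟩), (12, ⟨336, 0x8001000200040008001000200001, 0x180402010080402⟩), (5, ⟨333, 0x800180020004000c001000004080, 0x2806220100c0401⟩), (4, ⟨334, 0x8001000200040008001000004080, 0x280402010080401⟩), (1, ⟨282, 0x8001000200040008001010400080, 0x680402010080201⟩), (0, ⟨101, 0x8001000200000110002000400080, 0x1080402008040201⟩)] (by decide +kernel) <|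
F7.e 22 0 28 0x94151617901112138e0f8c0d8a0b880986078405820381 0x1e03002003002203002403 [] (by decide +kernel) <|
F7.e 21 0 32 0x98191a1b911390128a0b8809838281 0x402002c03 [] (by decide +kernel) <|
F7.e 20 0 37 0x8f8e8d8c8b8a898887868584838281 0x801000a01000c01001001001201001402001601001c01001e02002c01003417003601003801003a01003c01004001004201004401004a01 [] (by decide +kernel) <|
F7.e 19 0 40 0x8f8e8d8c8b8a898887868584838281 0x801000a01000c00001201001401001602001800001a01001e01002001002202002401002a03003001003201003401003c01003e01004001004801004a01004c01004e01005001 [(11, ⟨333, 0x80004000200010000800040002000001, 0x180402010080402⟩), (5, ⟨334, 0x80004000200010000800040002000001, 0x180402010080402⟩)] (by decide +kernel) <|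
F7.e 18 0 58 0x9c1d1e1f98191a1b94151617901112138f8e8d8c8b8a898887868584838281 0x801000a01000c01001001001601001801001a00001e06002001002401002801002e02003007003201003801003e01004201004402004601004a01004e04005007005401005800005a01005e06006201006401006601006c11006e01007001007201 [(43, ⟨331, 0x8000200008000200008000200008000001, 0x180402010080402⟩), (12, ⟨332, 0x8000200008000200008000200008000001, 0x180402010080402⟩)] (by decide +kernel) <|
F7.e 17 0 30 0xba3b3c3db0313637aa2b2e2fa02124259c1d1e1f9011121386078405820381 0x0 [] (by decide +kernel) <|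
F7.e 16 0 60 0xb8393e3fb0313637a8292c2da021242598191a1b901112138e0f8c0d8a0b898886078405820381 0x210000400000610000810000a00001810001a00001c10002400002600002802003601003801003e00004000004200004400004a00005201005401005601005a01005e00006001006201006400006c01007001007201007400007601007801 [(57, ⟨323, 0x8000200008000200008000200008000001, 0x180402010080402⟩), (49, ⟨324, 0x8000200008000200008000200008000001, 0x180402010080402⟩), (46, ⟨325, 0x8000200008000200008000200008000001, 0x180402010080402⟩), (36, ⟨326, 0x8000200008000200008000200008000001, 0x180402010080402⟩), (33, ⟨327, 0x8000200008000200008000200008000001, 0x180402010080402⟩), (32, ⟨328, 0x8000200008000200008000200008000001, 0x180402010080402⟩), (31, ⟨329, 0x8000200008000200008000200008000001, 0x180402010080402⟩), (30, ⟨330, 0x8000200008000200008000200008000001, 0x180402010080402⟩), (18, ⟨322, 0x8000200008000200008000200000020400, 0x280402010080401⟩), (17, ⟨318, 0x8000200008000200008000200000020400,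 0x280402010080401⟩), (12, ⟨308, 0xa00033005100028000c000500008000401, 0x3e02d601d060d02⟩), (4, ⟨306, 0x8000200008000200008000200000020400, 0x280402010080401⟩), (1, ⟨286, 0x8000200008000200008000000410000400, 0x480402010080201⟩)] (by decide +kernel) <|
F7.e 15 0 46 0xaa2b2e2fa8292c2da2232627a0212425941516179011121386078405838281 0x4803 [] (by decide +kernel) <|
F7.e 14 0 30 0x951694179113901286078405838281 0x202000402001202001802002402002602002e03003003003403003602 [] (by decide +kernel) <|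
F7.e 13 0 33 0xba3b3c3db8393e3fb2333435b0313637aa2b2e2fa8292c2da2232627a0212425951694179113901286078405838281 0x202002802003800 [(27, ⟨314, 0x80002000400010000400080000010200, 0x280204010040801⟩)] (by decide +kernel) <|
F7.e 12 0 68 0xa8292c2da223262794151617901112138c0d8809840581 0x401000601000a01001002002e02004803004a03 [] (by decide +kernel) <|
F7.e 11 0 68 0xba3b3c3db8393e3fb2333435b0313637aa2b2e2fa021242594151617901112138c0d8809840581 0x202000802000c01000e02002e02004803004a03006200 [(48, ⟨311, 0xa0006000400016010e01080002010200, 0x3e020601e040e01⟩)] (by decide +kernel) <|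
F7.e 10 0 52 0xba3b3c3db8393e3fa2232627a02124258e0f8c0d8a0b880986078405838281 0x3001003201003400003602003c00003e00004201004400004601004801004c01004e01005001005201005803 [(33, ⟨319, 0x8000200008000200008000200008000001, 0x180402010080402⟩), (30, ⟨320, 0x8000200008000200008000200008000001, 0x180402010080402⟩), (29, ⟨321, 0x8000200008000200008000200008000001, 0x180402010080402⟩), (25, ⟨322, 0x8000200008000200008000200008000001, 0x180402010080402⟩)] (by decide +kernel) <|
F7.e 9 0 78 0xb2333435b0313637a2232627a02124259c1d1e1f98191a1b95169417911390128e0f8c0d8a0b880986078405838281 0x200000600002c00002e03003400003600004000004c00005801005a01006401006601008000009200 [(72, ⟨314, 0x8000200008000200008000200008000001, 0x180402010080402⟩), (63, ⟨315, 0x8000200008000200008000200008000001, 0x180402010080402⟩), (37, ⟨316, 0x8000200008000200008000200008000001, 0x180402010080402⟩), (31, ⟨317, 0x8000200008000200008000200008000001, 0x180402010080402⟩), (26, ⟨309, 0x800030001000020000c008400008020400,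 0x380206010040c01⟩), (25, ⟨318, 0x8000200008000200008000200008000001, 0x180402010080402⟩), (21, ⟨311, 0x8000100010000200004000400000020400, 0x280204010040801⟩), (2, ⟨305, 0x8000200008000200008000200000020400, 0x280402010080401⟩), (0, ⟨95, 0x8000200008000000110000400010000400, 0x1080402008040201⟩)] (by decide +kernel) <|
F7.e 8 0 72 0xb2333435b0313637a8292c2da021242598191a1b901112138c0d8a0b860781 0xe03004602004802004a02005c01008a03 [] (by decide +kernel) <|
F7.e 7 0 52 0xaa2b2e2fa8292c2da2232627a02124259c1d1e1f901112138f8e8d8c838281 0xa03002802002a03003402004c0300600300620200641a006602 [] (by decide +kernel) <|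
F7.e 6 0 34 0x9d1f9c1e911390128f8e8d8c838281 0x202000402001403001603002203002401002602002e02003003003403003602004000004202 [(31, ⟨308, 0xe000660144001c010e010a0100010201, 0x2cd2f6018050f03⟩)] (by decide +kernel) <|
F7.e 5 0 56 0xba3b3c3db8393e3fb2333435b0313637aa2b2e2fa8292c2da2232627a02124259d1f9c1e911390128f8e8d8c838281 0x200000e00001e00002a01002c02002e03003800004401004a0200540000681a006a1a006c1a [(41, ⟨311, 0x8000200008000200008000200008000001, 0x180402010080402⟩), (27, ⟨312, 0x8000200008000200008000200008000001, 0x180402010080402⟩), (14, ⟨310, 0x8000200008000200008000200000020401, 0x280402010080403⟩), (6, ⟨313, 0x8000200008000200008000200008000001, 0x180402010080402⟩), (0, ⟨97, 0x8000200008000000110000400010000400, 0x1080402008040201⟩)] (by decide +kernel) <|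
F7.e 4 0 19 0xba3b3c3db8393e3fa2232627a0212425941516179011121387868584838281 0x1603 [] (by decide +kernel) <|
F7.e 3 0 27 0xb335b234b137b036a327a226a125a024951794169113901287868584838281 0x202000a03001403002002 [] (by decide +kernel) <|
F7.e 2 0 58 0xa8292c2da22326279c1d1e1f901112138f8e8809860781 0x41f000603000c03001603002403002601003402004802004a0200540200560300661f006803006a03 [] (by decide +kernel) <|
F7.e 1 0 62 0xba3b3c3db8393e3fb2333435b0313637aa2b2e2fa02124259c1d1e1f901112138f8e8809860781 0x21c00081c000a00001600002a03002c03003a00004e02005002005a00006e1d00701c007200007800 [(59, ⟨307, 0x80004000200010000800040002000001, 0x180402010080402⟩), (56, ⟨308, 0x80004000200010000800040002000001, 0x180402010080402⟩), (44, ⟨309, 0x80004000200010000800040002000001, 0x180402010080402⟩), (28, ⟨306, 0x800020006000100004000c0102000201, 0x3806040100d0802⟩), (10, ⟨310, 0x80004000200010000800040002000001, 0x180402010080402⟩), (4, ⟨283, 0x8000200060001000040000010c000200,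 0x4806440100b0801⟩)] (by decide +kernel) <|
F7.e 0 0 64 0xb2333435b0313637a2232627a021242598191a1b911390128a0b8809838281 0x202001603002202002a03004a02005200005402 [(40, ⟨306, 0x80004000200010000800040002000001, 0x180402010080402⟩)] (by decide +kernel) <|
F7.c0⟩

noncomputable def sp7_53_0 : F7.Pt S8 b7_53 := ⟨_,
F7.e 31 0 40 0xa8292a2b2c2d2e2fa0212223242526279c1d1e1f98191a1b94151617901112138a0b8988820381 0x200000400000600001200001402002200002400002600002a00 [(20, ⟨372, 0x800080008000800080008000808100, 0x380402010080401⟩), (18, ⟨364, 0x8800800080008000a0208000808100, 0x3884020100a0401⟩), (17, ⟨362, 0x800080008000800080008000808100, 0x380402010080401⟩), (16, ⟨360, 0x800080008000800080008000808100, 0x380402010080401⟩), (8, ⟨353, 0x800080008000800080008000008100, 0x280402010080401⟩), (2, ⟨303, 0x800080008000800080000041000100, 0x480402010080201⟩), (1, ⟨283, 0x600100008000201080020001000100, 0x1240a02004080201⟩), (0, ⟨106, 0x800080008000001100010001000100,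 0x1080402008040201⟩)] (by decide +kernel) <|
F7.e 30 0 39 0x94151617901112138e0f8c0d820381 0x401000801000c01001001001603001e03002003003203003603003803 [] (by decide +kernel) <|
F7.e 29 0 39 0xa8292a2b2c2d2e2fa02122232425262794151617901112138e0f8c0d820381 0x202000602000a02000e02001603001e03002003003203003603003803 [] (by decide +kernel) <|
F7.e 28 0 52 0xa1232526a02224279c1d1e1f9011121386078405820381 0x202000602000a02000e02001a03001c03001e03002203002403004203004403004a03004c03 [] (by decide +kernel) <|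
F7.e 27 0 42 0xa0212223242526278a0b8809820381 0x4a02004c02 [] (by decide +kernel) <|
F7.e 26 0 42 0xa0212223242526279c1d1e1f98191a1b94151617901112138a0b8809820381 0x200000400001200001400001602001802002a00002c00003200003400004a02004c03 [(25, ⟨371, 0x8000a0008000800080008000008100, 0x280502010080401⟩), (24, ⟨372, 0x800080008000800080008000008100, 0x280402010080401⟩), (21, ⟨361, 0x800080008000800080008000008100, 0x280402010080401⟩), (20, ⟨358, 0x800080008000800080008000808100, 0x380402010080401⟩), (9, ⟨354, 0x8000a0008000800080008000808100, 0x380502010080401⟩), (8, ⟨355, 0x800080008000800080008000808100, 0x380402010080401⟩), (1, ⟨285, 0x600100008000201080020001000100, 0x1240a02004080201⟩), (0, ⟨107, 0x800080008000001100010001000100, 0x1080402008040201⟩)] (by decide +kernel) <|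
F7.e 25 0 45 0x98191a1b901112138e0f8c0d8a0b898886078405820381 0x210000400000803000c03001003001200001402002001002401002600002800002c03003600003a01003c03004c03005003005202005a01 [(26, ⟨373, 0x800080008000800080008000008100, 0x280402010080401⟩), (19, ⟨362, 0x800080008000800080008000008100, 0x280402010080401⟩), (18, ⟨359, 0x800080008000800080008000008100, 0x280402010080401⟩), (8, ⟨354, 0x800080008000800080008000008100, 0x280402010080401⟩), (1, ⟨286, 0x400100008000101080020001000100, 0x1140802004080201⟩)] (by decide +kernel) <|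
F7.e 24 0 63 0xa92b2d2ea82a2c2fa1232526a022242798191a1b901112138e0f8c0d8a0b898886078405820381 0x200000400000600000a00000e00001200001402001e01002201002600002800002a00003600003a02003c02004a00004c00004e10005010005600005a00005e02006401006810006a00006c00006e10 [(53, ⟨375, 0x80004000200010000800040002000001, 0x180402010080402⟩), (52, ⟨376, 0x80004000200010000800040002000001, 0x180402010080402⟩), (44, ⟨377, 0x80004000200010000800040002000001, 0x180402010080402⟩), (42, ⟨378, 0x80004000200010000800040002000001, 0x180402010080402⟩), (37, ⟨379, 0x80004000200010000800040002000001, 0x180402010080402⟩), (36, ⟨380, 0x80004000200010000800040002000001, 0x180402010080402⟩), (26, ⟨374, 0x80004000200010000800040000010200, 0x280402010080401⟩), (20, ⟨364, 0x80004000200010000800040000010200, 0x280402010080401⟩), (19, ⟨363, 0x80004000200010000800040000010200, 0x280402010080401⟩), (18, ⟨360, 0x80004000200010000800040000010200, 0x280402010080401⟩), (8, ⟨355, 0x80004000200010000800040000010200,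 0x280402010080401⟩), (6, ⟨344, 0x80004000200010000800040000010200, 0x280402010080401⟩), (4, ⟨338, 0x80004000200010000800040000010200, 0x280402010080401⟩), (2, ⟨304, 0x80004000200010000800000104000200, 0x480402010080201⟩), (1, ⟨286, 0x40008000200000010800100004000200, 0x1040802004080201⟩), (0, ⟨108, 0x80004000200000011000080004000200, 0x1080402008040201⟩)] (by decide +kernel) <|
F7.e 23 0 48 0x941516179113901286078405838281 0x202000402001a03003202003402003a02003e03004203004403004a02004c02005603 [] (by decide +kernel) <|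
F7.e 22 0 48 0xa8292a2b2c2d2e2fa021222324252627941516179113901286078405838281 0x202000402001a03003202003402003a02003e03004203004403004a02004c02005603 [] (by decide +kernel) <|
F7.e 21 0 64 0xa0212223242526279c1d1e1f911390128e0f8c0d838281 0x202000402003203003403004202004402004602004a02004c02005203005403005a03005c03005e01006202006402007a03007c03 [] (by decide +kernel) <|
F7.e 20 0 48 0xa0212223242526278e0f8c0d8a0b880986078405838281 0x202000402000a03000c03000e03001003001202001402001e02002003004e01005001 [] (by decide +kernel) <|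
F7.e 19 0 72 0xa0212223242526279c1d1e1f991a981b94151617911390128e0f8c0d8a0b880986078405838281 0x200000400000600000800000e01001001001200001400001e01002001003200003400003a00003c00004a00004c00004e04005005005200005400005604005805006a00006c00008201008401008a01008c01 [(53, ⟨365, 0x80004000200010000800040002000001, 0x180402010080402⟩), (52, ⟨366, 0x80004000200010000800040002000001, 0x180402010080402⟩), (41, ⟨367, 0x80004000200010000800040002000001, 0x180402010080402⟩), (40, ⟨368, 0x80004000200010000800040002000001, 0x180402010080402⟩), (37, ⟨369, 0x80004000200010000800040002000001, 0x180402010080402⟩), (36, ⟨370, 0x80004000200010000800040002000001, 0x180402010080402⟩), (29, ⟨371, 0x80004000200010000800040002000001, 0x180402010080402⟩), (28, ⟨372, 0x80004000200010000800040002000001, 0x180402010080402⟩), (25, ⟨373, 0x80004000200010000800040002000001, 0x180402010080402⟩), (24, ⟨374, 0x80004000200010000800040002000001, 0x180402010080402⟩), (9, ⟨356, 0x80005000200010000800040002010200,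 0x380502010080401⟩), (8, ⟨357, 0x80004000200010000800040002010200, 0x380402010080401⟩), (3, ⟨332, 0x80004000200010000800000104000200, 0x480402010080201⟩), (2, ⟨305, 0x80004000200010000800000104000200, 0x480402010080201⟩), (1, ⟨288, 0x40008000200000010800100004000200, 0x1040802004080201⟩), (0, ⟨109, 0x80004000200000011000080004000200, 0x1080402008040201⟩)] (by decide +kernel) <|
F7.e 18 0 36 0x98191a1b901112138b8a8988838281 0x1203001403001602001801002602002803002a02002c03002e02003002003201003403003602 [] (by decide +kernel) <|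
F7.e 17 0 36 0xa8292a2b2c2d2e2fa02122232425262798191a1b901112138b8a8988838281 0x1203001403001602001802002600002a02002e02003002003403 [(18, ⟨364, 0x800080008000800080008000800001, 0x180402010080402⟩)] (by decide +kernel) <|
F7.e 16 0 36 0x991b981a911390128b8a8988838281 0x210000402001200001403002600002800002a02002c02002e00003001003201003403003601003810003a02004003 [(22, ⟨361, 0x800080008000800080008000800001, 0x180402010080402⟩), (19, ⟨362, 0x800080008000800080008000800001, 0x180402010080402⟩), (18, ⟨363, 0x800080008000800080008000800001, 0x180402010080402⟩), (8, ⟨356, 0x800080008000800080008000008100, 0x280402010080401⟩)] (by decide +kernel) <|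
F7.e 15 0 57 0xa8292a2b2c2d2e2fa021222324252627991b981a911390128b8a8988838281 0x202000402002600002802003800003a00003c02004401004801004c00005202005602005802006a02 [(37, ⟨358, 0x80004000200010000800040002000001, 0x180402010080402⟩), (28, ⟨359, 0x80004000200010000800040002000001, 0x180402010080402⟩), (27, ⟨360, 0x80004000200010000800040002000001, 0x180402010080402⟩), (18, ⟨357, 0x80004000200010000800040000010201, 0x280402010080403⟩)] (by decide +kernel) <|
F7.e 14 0 34 0x9c1d1e1f901112138f8e8d8c838281 0x1e02002001002202002402003203 [] (by decide +kernel) <|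
F7.e 13 0 34 0xa8292a2b2c2d2e2fa0212223242526279c1d1e1f901112138f8e8d8c838281 0x1e02002003002202003203 [] (by decide +kernel) <|
F7.e 12 0 34 0x9d1f9c1e911390128f8e8d8c838281 0x202000402001e02002001002202002402002602002a02002c02003202003402003602004202 [] (by decide +kernel) <|
F7.e 11 0 55 0xa8292a2b2c2d2e2fa0212223242526279d1f9c1e911390128f8e8d8c838281 0x202000402002201002402002603003402003602003801003c03004402004601004a03004c03005202005402006201006402 [] (by decide +kernel) <|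
F7.e 10 0 44 0xa1232527a0222426941516179011121387868584838281 0x2202002a02002e01003602003e03 [] (by decide +kernel) <|
F7.e 9 0 58 0xa1232527a0222426951794169113901287868584838281 0x202000402002202002402002a02002c02002e02003002003602003802003e02004002004202004402005202005402006e01007001007201007401 [] (by decide +kernel) <|
F7.e 8 0 48 0xa02122232425262798191a1b901112138a0b8809838281 0x202000402000a02000c02001a03001c03001e03002003002201002402004a02004c02004e02005002 [] (by decide +kernel) <|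
F7.e 7 0 48 0xa021222324252627991a981b911390128a0b8809838281 0x200000400000a00000c00001a00001c00001e03002003002201002401003200003400003e00004000004a00004c00004e00005000005600005800 [(43, ⟨346, 0x800080008000800080008000800001, 0x180402010080402⟩), (42, ⟨347, 0x800080008000800080008000800001, 0x180402010080402⟩), (39, ⟨348, 0x800080008000800080008000800001, 0x180402010080402⟩), (38, ⟨349, 0x800080008000800080008000800001, 0x180402010080402⟩), (37, ⟨350, 0x800080008000800080008000800001, 0x180402010080402⟩), (36, ⟨351, 0x800080008000800080008000800001, 0x180402010080402⟩), (31, ⟨352, 0x800080008000800080008000800001, 0x180402010080402⟩), (30, ⟨353, 0x800080008000800080008000800001, 0x180402010080402⟩), (25, ⟨354, 0x800080008000800080008000800001, 0x180402010080402⟩), (24, ⟨355, 0x800080008000800080008000800001, 0x180402010080402⟩), (13, ⟨356, 0x800080008000800080008000800001, 0x180402010080402⟩), (12, ⟨357, 0x800080008000800080008000800001, 0x180402010080402⟩),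 (5, ⟨341, 0x800080008000800080008000008100, 0x280402010080401⟩), (4, ⟨339, 0x800080008000800080008000008100, 0x280402010080401⟩), (1, ⟨290, 0x4001000080000010a0020001000100, 0x1040802004090201⟩), (0, ⟨111, 0x800080008000001100010001000100, 0x1080402008040201⟩)] (by decide +kernel) <|
F7.e 6 0 57 0x8f8e8d8c8b8a898887868584838281 0xa01001402002001002c01003002003201003401003601003801003a02003c01003e03004001004203004401004603004802004a00004c01004e01005001005601005801005a01005e03006001006203006410006601006801006c02006e01007001 [(36, ⟨345, 0x80004000200010000800040002000001, 0x180402010080402⟩)] (by decide +kernel) <|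
F7.e 5 0 109 0xa92b2d2fa82a2c2ea1232527a02224268f8e8d8c8b8a898887868584838281 0x1a02001c01002210002401002601002801002a11002c12002e01003001003200003a01003e00004200004401004601004e01005001005610005a03005c01005e01006201006401006601006801006a10006c10006e01007001007201008201008401008810009001009801009a0100aa0100ac0100b01800b20100b40100b61800b81000ba0100bc0100be0100c00100c40100c60100c80100d40100d601 [(32, ⟨342, 0x8000200008000200008000200008000001, 0x180402010080402⟩), (30, ⟨343, 0x8000200008000200008000200008000001, 0x180402010080402⟩), (24, ⟨344, 0x8000200008000200008000200008000001, 0x180402010080402⟩)] (by decide +kernel) <|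
F7.e 4 0 51 0x8f8e8d8c8b8a898887868584838281 0xa00000c01001a02001c01002002002203002401002603002802002a03002c02002e01003003003600003801003c12003e03004001004203004801004a01004c01004e01005001005201005401005601005a01005c01005e01006001006201006601 [(26, ⟨340, 0x80004000200010000800040002000001, 0x180402010080402⟩), (4, ⟨341, 0x80004000200010000800040002000001, 0x180402010080402⟩)] (by decide +kernel) <|
F7.e 3 0 47 0xa92b2d2fa82a2c2ea1232527a02224268f8e8d8c8b8a898887868584838281 0xa00000c01001e02002001002600002a03002e01003202003602003801003a01003e01004001004200004401004601004811004a01004c01004e01005001005201005401005a01005c01 [(32, ⟨337, 0x8000200008000200008000200008000001, 0x180402010080402⟩), (18, ⟨338, 0x8000200008000200008000200008000001, 0x180402010080402⟩), (4, ⟨339, 0x8000200008000200008000200008000001, 0x180402010080402⟩)] (by decide +kernel) <|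
F7.e 2 0 16 0x941516179011121386078405838281 0x1003001201001401001603001803 [] (by decide +kernel) <|
F7.e 1 0 22 0x951694179113901286078405838281 0x202000402001403001c03001e03 [] (by decide +kernel) <|
F7.e 0 0 18 0x8e0f8c0d8a0b880986078405838281 0x803000a03000c01000e01001001001201002403 [] (by decide +kernel) <|
F7.c0⟩

noncomputable def sp7_54_0 : F7.Pt S8 b7_54 := ⟨_,
F7.e 31 0 42 0xa2232627a02124258e0f8c0d8a0b880986078405838281 0xe04001004001205001404001604001804001a04001c05002a04002e05003204003601004e01005001005201005401 [] (by decide +kernel) <|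
F7.e 30 0 24 0x8f8e8d8c838281 0x2204002406 [] (by decide +kernel) <|
F7.e 29 0 29 0xaa2b2e2fa8292c2da2232627a02124258f8e8d8c838281 0x204000604001a01001c00002806002a0600340100361a [(13, ⟨383, 0x800080008000800080008000800001, 0x180402010080402⟩)] (by decide +kernel) <|
F7.e 28 0 24 0x8f8e8d8c838281 0x2204002404 [] (by decide +kernel) <|
F7.e 27 0 36 0xaa2b2e2fa8292c2da2232627a02124258f8e8d8c838281 0x204000604001204001604002804002a06002c04004001004201004401 [] (by decide +kernel) <|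
F7.e 26 0 24 0xa2232627a021242587868584838281 0x2204 [] (by decide +kernel) <|
F7.e 25 0 21 0xa327a226a125a02487868584838281 0x202000602000e03001203001601001801001a01001c02002001002201 [] (by decide +kernel) <|
F7.e 24 0 25 0xa327a226a125a02487868584838281 0x202000602000e03001203001606 [] (by decide +kernel) <|
F7.e 23 0 30 0xa2232627a02124258a0b8809838281 0x202000402000602000802000a02000c02000e02001002001203001603003201003401003601003801003a01003c01 [] (by decide +kernel) <|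
F7.e 22 0 30 0xa2232627a02124258a0b8809838281 0x200000400000602000802000a00000c00000e02001002001203001603003201003401003601003801003a01003c01 [(5, ⟨341, 0x8001800200040008000010400080, 0x480622010080201⟩), (4, ⟨339, 0x8001000200040008000010400080, 0x480402010080201⟩), (1, ⟨291, 0x400200020000010a004000400080, 0x1040802004090201⟩), (0, ⟨114, 0x8001000200000110002000400080, 0x1080402008040201⟩)] (by decide +kernel) <|
F7.e 21 0 48 0x94151617901112138e0f8a0b840581 0x401000801000c01001001001603003603003803 [] (by decide +kernel) <|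
F7.e 20 0 48 0xa8292a2b2c2d2e2fa02122232425262794151617901112138e0f8a0b840581 0x202000602000a02000e02001603003603003803 [] (by decide +kernel) <|
F7.e 19 0 64 0xa0212223242526279c1d1e1f901112138c0d8a0b860781 0x2203002403004203004403005202 [] (by decide +kernel) <|
F7.e 18 0 52 0xa0212223242526278c0d8809840581 0xa01000c01000e01001001001202001402001601001801 [] (by decide +kernel) <|
F7.e 17 0 52 0xa0212223242526279c1d1e1f98191a1b94151617901112138c0d8809840581 0x200000400000602000802001200001400001602001803003200003400004203004403 [(25, ⟨365, 0x8000a0008000800080008000808100, 0x380502010080401⟩), (24, ⟨366, 0x800080008000800080008000808100, 0x380402010080401⟩), (9, ⟨346, 0x8000a0008000800080008000808100, 0x380502010080401⟩), (8, ⟨347, 0x800080008000800080008000808100, 0x380402010080401⟩), (1, ⟨287, 0x600100008000301080020001800100, 0x1340a02004080301⟩), (0, ⟨103, 0x800080008000001100010001000100, 0x1080402008040201⟩)] (by decide +kernel) <|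
F7.e 16 0 54 0x98191a1b901112138e0f8988860781 0x403000803000c11001003001200001401001602001803002603002810004a02004e02005201005403 [(8, ⟨346, 0x800080008000800080008000008100, 0x280402010080401⟩)] (by decide +kernel) <|
F7.e 15 0 54 0xa8292a2b2c2d2e2fa02122232425262798191a1b901112138e0f8988860781 0x210000611000a11000e10001200001402001602001803002603002803004a00004e00005203005403 [(38, ⟨377, 0xac008000a0008010e020c000808100, 0x3a4402f130e0501⟩), (36, ⟨378, 0xa000800080008000e0208000808100, 0x3a04020100f0401⟩), (8, ⟨347, 0x800080008000800080008000008100, 0x280402010080401⟩)] (by decide +kernel) <|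
F7.e 14 0 50 0x9c1d1e1f901112138d8c8a0b860781 0x1a03001c03003203003401003603004202004402005a03 [] (by decide +kernel) <|
F7.e 13 0 50 0xa8292a2b2c2d2e2fa0212223242526279c1d1e1f901112138d8c8a0b860781 0x1a03001c03003203003403003603004202005a02 [] (by decide +kernel) <|
F7.e 12 0 64 0xa02122232425262794151617901112138e0f8a0b858481 0x202000402000602000802000a02000c02000e02001002001a03001c03003a03004a03004c03005202007202 [] (by decide +kernel) <|
F7.e 11 0 72 0xa02122232425262798191a1b901112138e0f8809860781 0x200000400000602000802000a00000c00000e02001002001200001400001603001803001a00001c00001e03002003003203003403 [(13, ⟨348, 0x8000a000a00080008000c040808100, 0x380502a10080601⟩), (12, ⟨349, 0x80008000a00080008000c040808100, 0x380402a10080601⟩), (9, ⟨350, 0x8000a0008000800080008000808100, 0x380502010080401⟩), (8, ⟨351, 0x800080008000800080008000808100, 0x380402010080401⟩), (5, ⟨340, 0x800080008000800080008000008100, 0x280402010080401⟩), (4, ⟨337, 0x200080020000001060014004000100,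 0x1020408002050901⟩), (1, ⟨289, 0xe00100008000e010a0020001800100, 0x1e40ed2004090301⟩), (0, ⟨104, 0x800080008000001100010001000100, 0x1080402008040201⟩)] (by decide +kernel) <|
F7.e 10 0 40 0x8d8c8988858481 0x1200001401002a03002c02003402003603003803003a02004a03 [(8, ⟨348, 0x800080008000800080008000008100, 0x280402010080401⟩)] (by decide +kernel) <|
F7.e 9 0 40 0xa8292a2b2c2d2e2fa0212223242526278d8c8988858481 0x1200001401002a03002c02003400003803003a02004a03 [(25, ⟨377, 0x800080008000800080008000008100, 0x280402010080401⟩), (8, ⟨349, 0x800080008000800080008000008100, 0x280402010080401⟩)] (by decide +kernel) <|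
F7.e 8 0 40 0x9c1d1e1f98191a1b94151617901112138d8c8988858481 0x210000410001200001401002a00003402003603003801004a03 [(20, ⟨365, 0x800080008000800080008000008100, 0x280402010080401⟩), (8, ⟨350, 0x800080008000800080008000008100, 0x280402010080401⟩)] (by decide +kernel) <|
F7.e 7 0 70 0xa8292a2b2c2d2e2fa0212223242526279c1d1e1f98191a1b94151617901112138d8c8988858481 0x210000410001200001401002a00003400003801004a03005210005410005a01005c01005e18006600006a01006c01007400007801007a01007e10008010008601008801008a01 [(57, ⟨381, 0x80004000200010000800040002000001, 0x180402010080402⟩), (50, ⟨382, 0x80004000200010000800040002000001, 0x180402010080402⟩), (25, ⟨378, 0x80004000200010000800040000010200, 0x280402010080401⟩), (20, ⟨366, 0x80004000200010000800040000010200, 0x280402010080401⟩), (8, ⟨351, 0x80004000200010000800040000010200, 0x280402010080401⟩)] (by decide +kernel) <|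
F7.e 6 0 41 0x9c1d1e1f9011121386078405820381 0x1603001a03001c03003603003a03003c03 [] (by decide +kernel) <|
F7.e 5 0 41 0xa8292a2b2c2d2e2fa0212223242526279c1d1e1f9011121386078405820381 0x1603001a03001c03003603003a03003c03 [] (by decide +kernel) <|
F7.e 4 0 52 0xa02122232425262794151617901112138e0f8c0d820381 0x202000402000602000802000a02000c02000e02001002001a03001c03001e03002a03002c03004203004403004603004a03004c03 [] (by decide +kernel) <|
F7.e 3 0 60 0xa02122232425262798191a1b901112138e0f8c0d8a0b880986078405820381 0x200000400001200001400001602001802002a01002c01002e03003003003200003400004200004400004a02004c01004e02005003006203006403006603006803006a01006c02 [(33, ⟨373, 0x8000a0008000800080008000808100, 0x380502010080401⟩), (32, ⟨374, 0x800080008000800080008000808100, 0x380402010080401⟩), (25, ⟨361, 0x8000a0008000800080008000808100, 0x380502010080401⟩), (24, ⟨358, 0x800080008000800080008000008100, 0x280402010080401⟩), (9, ⟨352, 0x8000a0008000800080008000808100,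 0x380502010080401⟩), (8, ⟨353, 0x800080008000800080008000808100, 0x380402010080401⟩), (1, ⟨284, 0x400100008000001080020001000100, 0x1040802004080201⟩), (0, ⟨105, 0x800080008000001100010001000100, 0x1080402008040201⟩)] (by decide +kernel) <|
F7.e 2 0 34 0x8a0b8988820381 0xc03001003002403002803 [] (by decide +kernel) <|
F7.e 1 0 37 0xa8292a2b2c2d2e2fa0212223242526278a0b8988820381 0xa03000e00002203002603 [(6, ⟨343, 0x8800800080008000a0008000808100, 0x388402010090401⟩)] (by decide +kernel) <|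
F7.e 0 0 35 0x9c1d1e1f98191a1b94151617901112138a0b8988820381 0x210000400000803001200001402002200002400002803002a00 [(20, ⟨371, 0x800080008000800080008000808100, 0x380402010080401⟩), (17, ⟨363, 0x800080008000800080008000808100, 0x380402010080401⟩), (16, ⟨359, 0x800080008000800080008000808100, 0x380402010080401⟩), (8, ⟨352, 0x800080008000800080008000008100, 0x280402010080401⟩), (1, ⟨283, 0x600100008000301080020001000100, 0x1340a02004080201⟩)] (by decide +kernel) <|
F7.c0⟩

noncomputable def sp7_55_0 : F7.Pt S8 b7_55 := ⟨_,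
F7.e 31 0 31 0xb1333436b0323537a1232527a022242687868584838281 0x2202003601003e01 [] (by decide +kernel) <|
F7.e 30 0 36 0xb1333537b0323436a1232527a022242687868584838281 0x2002004401004601004801 [] (by decide +kernel) <|
F7.e 29 0 27 0xb031323334353637a0212223242526278a0b8809838281 0x202000402000602000802000a02000c02002603002803002a03002c02002e03003002003202003401003602 [] (by decide +kernel) <|
F7.e 28 0 27 0xb031323334353637a0212223242526278a0b8809838281 0x200000400000602000802000a00000c02002601002803002a01002c01002e03003002003201003401003601 [(4, ⟨339, 0x8001000200040008001010400080, 0x680402010080201⟩), (1, ⟨292, 0x400200020000010a004000400080, 0x1040802004090201⟩), (0, ⟨118, 0x8001000200000110002000400080, 0x1080402008040201⟩)] (by decide +kernel) <|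
F7.e 27 0 30 0xa8292c2da02124258e0f8a0b840581 0x0 [] (by decide +kernel) <|
F7.e 26 0 30 0xaa2b2e2fa02124258c0d8809840581 0x0 [] (by decide +kernel) <|
F7.e 25 0 32 0xa8292c2da02124258d8c8a0b860781 0x1a02001e02003202003402 [] (by decide +kernel) <|
F7.e 24 0 32 0xa8292c2da02124258d8c8a0b860781 0x1a02001e02 [] (by decide +kernel) <|
F7.e 23 0 18 0xaa2b2e2fa02124258e0f8a0b858481 0x0 [] (by decide +kernel) <|
F7.e 22 0 21 0xab2eaa2fa125a0248e0f8a0b858481 0x202000602001802001c02 [] (by decide +kernel) <|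
F7.e 21 0 48 0xaa2b2e2fa02124258e0f8809860781 0x2202002602 [] (by decide +kernel) <|
F7.e 20 0 23 0xa8292c2da02124258d8c8988858481 0x2802 [] (by decide +kernel) <|
F7.e 19 0 26 0xa92da82ca125a0248d8c8988858481 0x202000602001402001802001c02 [] (by decide +kernel) <|
F7.e 18 0 19 0xa92da82ca125a0248d8c8988858481 0x202000602001001001201001802001c02 [] (by decide +kernel) <|
F7.e 17 0 28 0x86078405838281 0x0 [] (by decide +kernel) <|
F7.e 16 0 30 0xaa2b2e2fa8292c2da2232627a021242586078405838281 0x0 [] (by decide +kernel) <|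
F7.e 15 0 48 0xa2232627a02124258e0f8c0d8a0b880986078405838281 0x204000404000604000804000a04000c04002a04002c05002e04003005003204003404003604003805 [] (by decide +kernel) <|
F7.e 14 0 26 0x8f8e8d8c838281 0x1e04002004 [] (by decide +kernel) <|
F7.e 13 0 31 0xaa2b2e2fa8292c2da2232627a02124258f8e8d8c838281 0x204000604001e06002006002201002401003a01003c00 [(29, ⟨384, 0x800080008000800080008000800001, 0x180402010080402⟩)] (by decide +kernel) <|
F7.e 12 0 26 0x8f8e8d8c838281 0x1e04002004 [] (by decide +kernel) <|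
F7.e 11 0 41 0xaa2b2e2fa8292c2da2232627a02124258f8e8d8c838281 0x204000604001204001604002406002606002804003c01003e1a004401004601004801004e01 [] (by decide +kernel) <|
F7.e 10 0 18 0xa2232627a021242587868584838281 0x1604 [] (by decide +kernel) <|
F7.e 9 0 31 0xa327a226a125a02487868584838281 0x202000602000e03001203001602001a02003601003801003a01003c01003e01 [] (by decide +kernel) <|
F7.e 8 0 48 0xa2232627a02124258a0b8809838281 0x1203001603002207002404002607002804002a04002c07002e04003007 [] (by decide +kernel) <|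
F7.e 7 0 30 0xaa2b2e2fa02124258c0d8809840581 0x202000402000602000802000a02000c02000e02001002001202001402 [] (by decide +kernel) <|
F7.e 6 0 36 0xaa2b2e2fa02124258f8e8809860781 0x202000402000602000802000a02000c02000e02001002001202001402001602001802002202002602003e02004002 [] (by decide +kernel) <|
F7.e 5 0 36 0xaa2b2e2fa02124258f8e8809860781 0x202000402000602000802000a02000c02000e02001002001202001402001602001802002202002602003e02004002 [] (by decide +kernel) <|
F7.e 4 0 27 0xa8292c2da02124258d8c8988858481 0x1202001402003002003202 [] (by decide +kernel) <|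
F7.e 3 0 21 0xa92da82ca125a0248d8c8988858481 0x202000602000e02001002001401001c02002002002601 [] (by decide +kernel) <|
F7.e 2 0 24 0xa92da82ca125a0248d8c8988858481 0x202000602000e02001002001802001c02002c01002e01003001 [] (by decide +kernel) <|
F7.e 1 0 22 0x86078405838281 0x0 [] (by decide +kernel) <|
F7.e 0 0 24 0xaa2b2e2fa8292c2da2232627a021242586078405838281 0x0 [] (by decide +kernel) <|
F7.c0⟩

noncomputable def sp7_56_0 : F7.Pt S8 b7_56 := ⟨_,
F7.e 31 0 14 0x8f8e8d8c838281 0x1a06001c06 [] (by decide +kernel) <|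
F7.e 30 0 23 0x8f8e8d8c838281 0x2206002406 [] (by decide +kernel) <|
F7.e 29 0 18 0x87868584838281 0x1e06002004002202 [] (by decide +kernel) <|
F7.e 28 0 22 0x87868584838281 0x1c06001e04002002 [] (by decide +kernel) <|
F7.e 27 0 16 0x8a0b8809838281 0x202000402000602000802000a02000c02 [] (by decide +kernel) <|
F7.e 26 0 16 0x8a0b8809838281 0x200000400000602000802000a00000c02 [(4, ⟨341, 0x80020008002000800204100040, 0x680402010080201⟩), (1, ⟨292, 0x40040008000810a00800100040, 0x1240802004090201⟩), (0, ⟨120, 0x80020008000011000400100040, 0x1080402008040201⟩)] (by decide +kernel) <|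
F7.e 25 0 48 0xb8393a3b3c3d3e3fa0212223242526278c0d8809840581 0x202000402000602000802000a02000c02000e02001003001202001402001602001803 [] (by decide +kernel) <|
F7.e 24 0 32 0x8e0f8988860781 0xe02001001 [] (by decide +kernel) <|
F7.e 23 0 32 0xb8393a3b3c3d3e3fb031323334353637a8292a2b2c2d2e2fa0212223242526278e0f8988860781 0xe02001002 [] (by decide +kernel) <|
F7.e 22 0 40 0xa8292a2b2c2d2e2fa0212223242526278e0f8988860781 0x1202001401 [] (by decide +kernel) <|
F7.e 21 0 36 0xb8393a3b3c3d3e3fa0212223242526278e0f8809878681 0x202000402000602000802000a02000c02000e01001001001201001403001601001803003a02 [] (by decide +kernel) <|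
F7.e 20 0 36 0xb8393a3b3c3d3e3fa0212223242526278e0f8809878681 0x202000402000602000802000a02000c02000e02001001001202001402001601001803003a02 [] (by decide +kernel) <|
F7.e 19 0 24 0x8d8c8988858481 0xe01001001002803 [] (by decide +kernel) <|
F7.e 18 0 28 0xb8393a3b3c3d3e3fb031323334353637a8292a2b2c2d2e2fa0212223242526278d8c8988858481 0xe03001003001201002e01 [] (by decide +kernel) <|
F7.e 17 0 24 0x8d8c8988858481 0xe02001001002803 [] (by decide +kernel) <|
F7.e 16 0 36 0xb8393a3b3c3d3e3fb031323334353637a8292a2b2c2d2e2fa0212223242526278d8c8988858481 0xe02001003002803003e01004001004801 [] (by decide +kernel) <|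
F7.e 15 0 30 0xa8292a2b2c2d2e2fa0212223242526278d8c8988858481 0x1203001403003202 [] (by decide +kernel) <|
F7.e 14 0 30 0xa8292a2b2c2d2e2fa0212223242526278d8c8988858481 0x1202001403 [] (by decide +kernel) <|
F7.e 13 0 30 0xa8292a2b2c2d2e2fa02122232425262786078405838281 0x0 [] (by decide +kernel) <|
F7.e 12 0 24 0x86078405838281 0x0 [] (by decide +kernel) <|
F7.e 11 0 24 0xb8393a3b3c3d3e3fb031323334353637a8292a2b2c2d2e2fa02122232425262786078405838281 0x0 [] (by decide +kernel) <|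
F7.e 10 0 36 0xb031323334353637a0212223242526278e0f8c0d838281 0x2603002803002a03002c03002e03003003 [] (by decide +kernel) <|
F7.e 9 0 54 0xb031323334353637a0212223242526278e0f8c0d8a0b880986078405838281 0x204000404000604000804000a04000c04000e04001004001201001402001604001801003805003a05003c05003e05004005004205006201006401006601006801006a01006c01 [] (by decide +kernel) <|
F7.e 8 0 30 0xa8292a2b2c2d2e2fa0212223242526278b8a8988838281 0x1204001403 [] (by decide +kernel) <|
F7.e 7 0 24 0x8b8a8988838281 0xe04001002 [] (by decide +kernel) <|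
F7.e 6 0 36 0xb8393a3b3c3d3e3fb031323334353637a8292a2b2c2d2e2fa0212223242526278b8a8988838281 0x2004002202004601 [] (by decide +kernel) <|
F7.e 5 0 23 0xa8292a2b2c2d2e2fa0212223242526278f8e8d8c838281 0x1e02 [] (by decide +kernel) <|
F7.e 4 0 24 0xa8292a2b2c2d2e2fa0212223242526278f8e8d8c838281 0x1e02 [] (by decide +kernel) <|
F7.e 3 0 19 0x8f8e8d8c838281 0x1802 [] (by decide +kernel) <|
F7.e 2 0 22 0xb8393a3b3c3d3e3fb031323334353637a8292a2b2c2d2e2fa0212223242526278f8e8d8c838281 0x1c02 [] (by decide +kernel) <|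
F7.e 1 0 21 0x8f8e8d8c838281 0x1802 [] (by decide +kernel) <|
F7.e 0 0 37 0xb8393a3b3c3d3e3fb031323334353637a8292a2b2c2d2e2fa0212223242526278f8e8d8c838281 0x2602 [] (by decide +kernel) <|
F7.c0⟩

noncomputable def sp7_57_0 : F7.Pt S8 b7_57 := ⟨_,
F7.e 31 0 36 0xb031323334353637a021222324252627890b880a838281 0xe05001003001205001405001606001803 [] (by decide +kernel) <|
F7.e 30 0 24 0x890b880a838281 0x202000402000604000802000a02000c04 [] (by decide +kernel) <|
F7.e 29 0 27 0xb031323334353637a021222324252627890b880a838281 0x202000402000602000802000a02000c02003201003401003601 [] (by decide +kernel) <|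
F7.e 28 0 32 0xa021222324252627890b880a838281 0x1205001405001605001803001a05001c05001e06002006 [] (by decide +kernel) <|
F7.e 27 0 32 0xa021222324252627890b880a838281 0x202000402000602000804000a02000c02000e02001004 [] (by decide +kernel) <|
F7.e 26 0 48 0xa02122232425262798191a1b92139011890b880a838281 0x206000406000e06001006001207001407001601001807001a07001c07001e06002006002207002407002607002807002a06002e01005206005406005606005806 [] (by decide +kernel) <|
F7.e 25 0 48 0xa021222324252627991a981b92139011890b880a838281 0x200000400000606000806000a00000c00000e06001006004200004400004600004800004a01004c07004e01005006 [(35, ⟨397, 0x8001000200040008001000200001, 0x180402010080402⟩), (34, ⟨398, 0x8001000200040008001000200001, 0x180402010080402⟩), (33, ⟨399, 0x8001000200040008001000200001, 0x180402010080402⟩), (32, ⟨400, 0x8001000200040008001000200001, 0x180402010080402⟩), (5, ⟨356, 0x8001800200040008000810400080, 0x580602010080201⟩), (4, ⟨357, 0x8001000200040008000810400080,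 0x580402010080201⟩), (1, ⟨295, 0x400200020000010e004000600080, 0x10408020040a0301⟩), (0, ⟨138, 0x8001000200000110002000400080, 0x1080402008040201⟩)] (by decide +kernel) <|
F7.e 24 0 36 0x98191a1b92139011890b880a838281 0x406000602000e07001001001207001407001606001801 [] (by decide +kernel) <|
F7.e 23 0 36 0xb031323334353637a02122232425262798191a1b92139011890b880a838281 0x206000606000e07001007001207001407001606001807 [] (by decide +kernel) <|
F7.e 22 0 36 0x991b981a93929190890b880a838281 0x200000400000602000806000a00000c06001a00001c00001e00002001002201002401003e06004007004206004401004601004806 [(14, ⟨394, 0x8001000200040008001000200001, 0x180402010080402⟩), (13, ⟨395, 0x8001000200040008001000200001, 0x180402010080402⟩), (12, ⟨396, 0x8001000200040008001000200001, 0x180402010080402⟩), (4, ⟨356, 0x8001000200040008000010400080, 0x480402010080201⟩), (1, ⟨296, 0x400200020000810e004000600080, 0x11408020040a0301⟩), (0, ⟨139, 0x8001000200000110002000400080, 0x1080402008040201⟩)]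 (by decide +kernel) <|
F7.e 21 0 54 0xb031323334353637a021222324252627991b981a93929190890b880a838281 0x200000400000606000806000a00000c06004a00004c00004e00005006005201005406005601005801005a01005c06006407006801 [(38, ⟨391, 0x800080008000800080008000800001, 0x180402010080402⟩), (37, ⟨392, 0x800080008000800080008000800001, 0x180402010080402⟩), (36, ⟨393, 0x800080008000800080008000800001, 0x180402010080402⟩), (4, ⟨357, 0x800080008000800080000041000100, 0x480402010080201⟩), (1, ⟨296, 0x4001000080000010e0020001800100, 0x10408020040a0301⟩), (0, ⟨140, 0x800080008000001100010001000100, 0x1080402008040201⟩)] (by decide +kernel) <|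
F7.e 20 0 24 0x98191a1b838281 0x0 [] (by decide +kernel) <|
F7.e 19 0 24 0xb031323334353637a02122232425262798191a1b838281 0x0 [] (by decide +kernel) <|
F7.e 18 0 24 0x991a981b838281 0xa06001a05001c02 [] (by decide +kernel) <|
F7.e 17 0 36 0xb031323334353637a021222324252627991a981b838281 0xa04003204003404 [] (by decide +kernel) <|
F7.e 16 0 32 0xa1232527a022242698191a1b838281 0x1206001606 [] (by decide +kernel) <|
F7.e 15 0 40 0xa1232527a0222426991b981a838281 0xa04000c06001206001606002205002402 [] (by decide +kernel) <|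
F7.e 14 0 32 0xa02122232425262792139011838281 0xe04001006002e07003005 [] (by decide +kernel) <|
F7.e 13 0 32 0xa02122232425262792139011838281 0xa04000c06002a02002c05 [] (by decide +kernel) <|
F7.e 12 0 24 0x92139011838281 0x606001e05 [] (by decide +kernel) <|
F7.e 11 0 26 0xb1333436b0323537a1232527a022242692139011838281 0x206000606001e05003200003400 [(25, ⟨389, 0x8001000200040008001000200001, 0x180402010080402⟩), (24, ⟨390, 0x8001000200040008001000200001, 0x180402010080402⟩)] (by decide +kernel) <|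
F7.e 10 0 32 0x93929190838281 0x606000804000a06000c06001e05002007002207002407 [] (by decide +kernel) <|
F7.e 9 0 48 0xb1333537b0323436a1232527a022242693929190838281 0x206000606000a04000c04001a00001c00001e00002000002604002a04002c04004207004607004e06005206 [(15, ⟨385, 0x800080008000800080008000800001, 0x180402010080402⟩), (14, ⟨386, 0x800080008000800080008000800001, 0x180402010080402⟩), (13, ⟨387, 0x800080008000800080008000800001, 0x180402010080402⟩), (12, ⟨388, 0x800080008000800080008000800001, 0x180402010080402⟩)] (by decide +kernel) <|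
F7.e 8 0 16 0x86078405838281 0x1203001403 [] (by decide +kernel) <|
F7.e 7 0 20 0x86078405838281 0x1607001807001a07001c07 [] (by decide +kernel) <|
F7.e 6 0 24 0x8e0f8c0d838281 0x2607002804002a07002c04002e03003003 [] (by decide +kernel) <|
F7.e 5 0 36 0x8e0f8c0d8a0b880986078405838281 0x204000404000606000804000a04000c04000e04001004001205001404001604001801003805003a04003c05003e05004004004205 [] (by decide +kernel) <|
F7.e 4 0 16 0x8b8a8988838281 0x1204001403 [] (by decide +kernel) <|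
F7.e 3 0 17 0x8b8a8988838281 0x1804001a04 [] (by decide +kernel) <|
F7.e 2 0 21 0x8b8a8988838281 0x1e04002006 [] (by decide +kernel) <|
F7.e 1 0 12 0x8f8e8d8c838281 0x1802 [] (by decide +kernel) <|
F7.e 0 0 12 0x8f8e8d8c838281 0x1802 [] (by decide +kernel) <|
F7.c0⟩

noncomputable def sp7_58_0 : F7.Pt S8 b7_58 := ⟨_,
F7.e 31 0 32 0xa021222324252627890b880a838281 0x1205001403001605001803001a06001c06001e06002006 [] (by decide +kernel) <|
F7.e 30 0 32 0xa021222324252627890b880a838281 0x204000402000602000804000a02000c04000e02001004 [] (by decide +kernel) <|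
F7.e 29 0 48 0xa021222324252627991a981b90111213890b880a838281 0xe06001006001201001407001601001807001a06001c06001e06002006 [] (by decide +kernel) <|
F7.e 28 0 48 0xa02122232425262798191a1b90111213890b880a838281 0x206000406000606000806000a06000c06000e06001006002207002407002606002806002a06002c06002e06003007005206005601 [] (by decide +kernel) <|
F7.e 27 0 36 0x98191a1b91129013890b880a838281 0x602000e01001001001202001401001606001801001a07001c06001e07002001002201002407003e06004007004206004401004601004806 [] (by decide +kernel) <|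
F7.e 26 0 36 0xb031323334353637a02122232425262798191a1b91129013890b880a838281 0x606000e07001007001206001407001606001807003200003606003a06003e06004607 [(24, ⟨401, 0x8001000200040008001000200001, 0x180402010080402⟩)] (by decide +kernel) <|
F7.e 25 0 36 0x991b981a91139012890b880a838281 0x206000406000602000806000a06000c06001a07001c07001e06002007002207002407003e06004006004206 [] (by decide +kernel) <|
F7.e 24 0 54 0xb031323334353637a021222324252627991b981a91139012890b880a838281 0x206000406000606000806000a06000c06002607002807002a07002c07002e07003007003201005c06005e06006006006801 [] (by decide +kernel) <|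
F7.e 23 0 24 0x991a981b838281 0xc06001a05001c07 [] (by decide +kernel) <|
F7.e 22 0 36 0xb031323334353637a021222324252627991a981b838281 0xc04003604003804 [] (by decide +kernel) <|
F7.e 21 0 24 0x98191a1b838281 0x0 [] (by decide +kernel) <|
F7.e 20 0 24 0xb031323334353637a02122232425262798191a1b838281 0x0 [] (by decide +kernel) <|
F7.e 19 0 32 0xa1232527a022242698191a1b838281 0x1206001606 [] (by decide +kernel) <|
F7.e 18 0 40 0xa1232527a0222426991b981a838281 0xe04001006001206001606002205002402 [] (by decide +kernel) <|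
F7.e 17 0 32 0xa02122232425262790111213838281 0x0 [] (by decide +kernel) <|
F7.e 16 0 32 0xa02122232425262790111213838281 0x0 [] (by decide +kernel) <|
F7.e 15 0 24 0x91129013838281 0x606000804001a05001c03 [] (by decide +kernel) <|
F7.e 14 0 36 0xb1333436b0323537a1232527a022242691129013838281 0x206000606001a07001e07002606002a06 [] (by decide +kernel) <|
F7.e 13 0 32 0x91139012838281 0x606001c02 [] (by decide +kernel) <|
F7.e 12 0 32 0xb1333537b0323436a1232527a022242691139012838281 0x206000606001a05 [] (by decide +kernel) <|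
F7.e 11 0 16 0x98191a1b838281 0x0 [] (by decide +kernel) <|
F7.e 10 0 18 0xb031323334353637a02122232425262798191a1b838281 0x0 [] (by decide +kernel) <|
F7.e 9 0 24 0x991a981b838281 0xa06002a06002c06 [] (by decide +kernel) <|
F7.e 8 0 27 0xb031323334353637a021222324252627991a981b838281 0xa02002a06002c03003201 [] (by decide +kernel) <|
F7.e 7 0 32 0xa02122232425262798191a1b838281 0x0 [] (by decide +kernel) <|
F7.e 6 0 32 0xa02122232425262792139011838281 0xe04001006002206002405 [] (by decide +kernel) <|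
F7.e 5 0 32 0xa02122232425262792139011838281 0xa02000c06002206002405 [] (by decide +kernel) <|
F7.e 4 0 24 0x92139011838281 0x606001c06 [] (by decide +kernel) <|
F7.e 3 0 24 0xb031323334353637a02122232425262792139011838281 0x606001a06 [] (by decide +kernel) <|
F7.e 2 0 16 0x93929190838281 0x606000806000a06001606001806 [] (by decide +kernel) <|
F7.e 1 0 21 0xb031323334353637a02122232425262793929190838281 0x606000a02001806001c03002a01 [] (by decide +kernel) <|
F7.e 0 0 24 0x890b880a838281 0xe05001005001205001405001606001805 [] (by decide +kernel) <|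
F7.c0⟩

noncomputable def sp7_59_0 : F7.Pt S8 b7_59 := ⟨_,
F7.e 31 0 24 0xb8393a3b3c3d3e3fa02122232425262786078405838281 0x1204001604 [] (by decide +kernel) <|
F7.e 30 0 36 0x941516179112901386078405838281 0x204000404000804000a04001a04001c04001e04002604002804002a04 [] (by decide +kernel) <|
F7.e 29 0 36 0xb8393a3b3c3d3e3fa021222324252627941516179112901386078405838281 0x204000404000606000a04003204003404003604003e04004004004204 [] (by decide +kernel) <|
F7.e 28 0 48 0xa021222324252627941516179113901286078405838281 0xa04000c04000e04 [] (by decide +kernel) <|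
F7.e 27 0 18 0x86078405838281 0x1207 [] (by decide +kernel) <|
F7.e 26 0 20 0xb2333435b0313637a2232627a021242586078405838281 0x1004 [] (by decide +kernel) <|
F7.e 25 0 24 0xa2232627a021242586078405838281 0xe04001204002a01002c01002e01003001 [] (by decide +kernel) <|
F7.e 24 0 32 0xa2232627a0212425941516179011121386078405838281 0xa04002a04002e05003201003604 [] (by decide +kernel) <|
F7.e 23 0 26 0x951694179113901286078405838281 0x202000404000602000804001405001604001801001a01001c01001e01002004002204002401002601 [] (by decide +kernel) <|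
F7.e 22 0 30 0xb2333435b0313637a2232627a0212425951694179113901286078405838281 0x206000606002600002a04002e01003204003a01 [(18, ⟨403, 0x8001000200040008001000200001, 0x180402010080402⟩)] (by decide +kernel) <|
F7.e 21 0 30 0xb2333637a021242594159011840581 0xa02002c02003002 [] (by decide +kernel) <|
F7.e 20 0 30 0xb0313435a021242594159190840581 0x602000a02002c02003002003402 [] (by decide +kernel) <|
F7.e 19 0 48 0xb0313435a021242596179011860781 0x602000c02001a02001e02004e02005202005402 [] (by decide +kernel) <|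
F7.e 18 0 48 0xb0313435a021242596179190860781 0x602000a02000c02001a02001e02004e02005202005402 [] (by decide +kernel) <|
F7.e 17 0 30 0xb2333637a021242594159011858481 0xa02003202003602 [] (by decide +kernel) <|
F7.e 16 0 21 0xb134b035a125a02494159011858481 0x202000602001402001802002002 [] (by decide +kernel) <|
F7.e 15 0 28 0xb135b034a125a02495949190858481 0x202000602000a02001402001802002002002402 [] (by decide +kernel) <|
F7.e 14 0 22 0x86078405838281 0x1207 [] (by decide +kernel) <|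
F7.e 13 0 24 0xb2333637b0313435a2232627a021242586078405838281 0x1004 [] (by decide +kernel) <|
F7.e 12 0 26 0xa2232627a021242586078405838281 0xe07001204 [] (by decide +kernel) <|
F7.e 11 0 42 0xa2232627a0212425961794159213901186078405838281 0x204000404000a04000c04002a04002c04002e04003004003204003404003604003804 [] (by decide +kernel) <|
F7.e 10 0 36 0x961794159392919086078405838281 0x404000602000804000a04001405001604001801001a01001c01001e05002004002204002401002601003c01003e01004001004201 [] (by decide +kernel) <|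
F7.e 9 0 40 0xb2333637b0313435a2232627a0212425961794159392919086078405838281 0x206000606000a04002600002a04002e01003204003a05 [(18, ⟨402, 0x800080008000800080008000800001, 0x180402010080402⟩)] (by decide +kernel) <|
F7.e 8 0 16 0x98191a1b838281 0x0 [] (by decide +kernel) <|
F7.e 7 0 18 0xb031323334353637a02122232425262798191a1b838281 0x0 [] (by decide +kernel) <|
F7.e 6 0 32 0xa02122232425262790111213838281 0x0 [] (by decide +kernel) <|
F7.e 5 0 16 0x91129013838281 0x606000806001606 [] (by decide +kernel) <|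
F7.e 4 0 21 0xb031323334353637a02122232425262791129013838281 0x606001801 [] (by decide +kernel) <|
F7.e 3 0 24 0x890b880a838281 0xe05001005001202001405001606001805 [] (by decide +kernel) <|
F7.e 2 0 36 0xb031323334353637a021222324252627890b880a838281 0xe03001003001206001403001606001803 [] (by decide +kernel) <|
F7.e 1 0 24 0x890b880a838281 0x204000402000604000802000a04000c04 [] (by decide +kernel) <|
F7.e 0 0 27 0xb031323334353637a021222324252627890b880a838281 0x202000402000602000802000a02000c02001a01001c01001e01 [] (by decide +kernel) <|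
F7.c0⟩

noncomputable def sp7_60_0 : F7.Pt S8 b7_60 := ⟨_,
F7.e 31 0 24 0x90111213838281 0x0 [] (by decide +kernel) <|
F7.e 30 0 16 0x91129013838281 0x606 [] (by decide +kernel) <|
F7.e 29 0 24 0xa8292a2b2c2d2e2fa02122232425262790111213838281 0x0 [] (by decide +kernel) <|
F7.e 28 0 24 0xa8292a2b2c2d2e2fa02122232425262790111213838281 0x0 [] (by decide +kernel) <|
F7.e 27 0 20 0x91129013838281 0x606000806001a07 [] (by decide +kernel) <|
F7.e 26 0 17 0xb8393a3b3c3d3e3fb031323334353637a8292a2b2c2d2e2fa02122232425262791129013838281 0x606 [] (by decide +kernel) <|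
F7.e 25 0 24 0x92139011838281 0xe06001002002203 [] (by decide +kernel) <|
F7.e 24 0 24 0x92139011838281 0xa06000c04002203 [] (by decide +kernel) <|
F7.e 23 0 20 0x92139011838281 0x606000806001a03 [] (by decide +kernel) <|
F7.e 22 0 20 0x92139011838281 0x606000806001a07 [] (by decide +kernel) <|
F7.e 21 0 17 0x93929190838281 0x606000806000a04001a07001c05 [] (by decide +kernel) <|
F7.e 20 0 36 0xa8292a2b2c2d2e2fa02122232425262792139011838281 0xe04001004003204 [] (by decide +kernel) <|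
F7.e 19 0 36 0xa8292a2b2c2d2e2fa02122232425262792139011838281 0xa04000c04003204 [] (by decide +kernel) <|
F7.e 18 0 30 0x92139011838281 0x604 [] (by decide +kernel) <|
F7.e 17 0 30 0xb8393a3b3c3d3e3fb031323334353637a8292a2b2c2d2e2fa02122232425262792139011838281 0x604 [] (by decide +kernel) <|
F7.e 16 0 30 0x93929190838281 0x604000804000a04000c04002804002a04002c04 [] (by decide +kernel) <|
F7.e 15 0 30 0xb8393a3b3c3d3e3fb031323334353637a8292a2b2c2d2e2fa02122232425262793929190838281 0x604000a04001401001e04 [] (by decide +kernel) <|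
F7.e 14 0 48 0xa8292a2b2c2d2e2fa0212223242526279c1d90118c0d81 0xa02000c02000e02001002001203001603005203005603005803 [] (by decide +kernel) <|
F7.e 13 0 40 0x9c1d91908c0d81 0x602000802000a02000c02004402004603004803 [] (by decide +kernel) <|
F7.e 12 0 40 0xb8393a3b3c3d3e3fb031323334353637a8292a2b2c2d2e2fa0212223242526279c1d91908c0d81 0x200000600000a02000c02004603004803 [(2, ⟨312, 0x8001000200040008000010400080, 0x480402010080201⟩), (0, ⟨141, 0x8001000200000110002000400080, 0x1080402008040201⟩)] (by decide +kernel) <|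
F7.e 11 0 48 0xb031323334353637a0212223242526279e1f90118e0f81 0x602000a02001a03001c03003203003603 [] (by decide +kernel) <|
F7.e 10 0 48 0xb031323334353637a0212223242526279e1f91908e0f81 0x602000a02000c02001a03001c03001e03002203002403003203003603 [] (by decide +kernel) <|
F7.e 9 0 48 0xb031323334353637a0212223242526279c1d90118c0d81 0x602000c02001a02001e02004a02004c02005202 [] (by decide +kernel) <|
F7.e 8 0 48 0xb031323334353637a0212223242526279c1d91908c0d81 0x602000a02000c02001a02001e02004e02005002005202005402 [] (by decide +kernel) <|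
F7.e 7 0 32 0xa8292a2b2c2d2e2fa0212223242526279e1f90118f8e81 0xe02001002001203001603002a03002c03 [] (by decide +kernel) <|
F7.e 6 0 32 0xa8292a2b2c2d2e2fa0212223242526279e1f90118f8e81 0xa02000c02001203001603002a03 [] (by decide +kernel) <|
F7.e 5 0 26 0x9e1f90118f8e81 0x602 [] (by decide +kernel) <|
F7.e 4 0 26 0xb8393a3b3c3d3e3fb031323334353637a8292a2b2c2d2e2fa0212223242526279e1f90118f8e81 0x200000600 [(2, ⟨313, 0x8001000200040008000810400080, 0x580402010080201⟩), (0, ⟨142, 0x8001000200000110002000400080, 0x1080402008040201⟩)] (by decide +kernel) <|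
F7.e 3 0 26 0x9f9e91908f8e81 0x602000802000a02000c02002203002403 [] (by decide +kernel) <|
F7.e 2 0 39 0xb8393a3b3c3d3e3fb031323334353637a8292a2b2c2d2e2fa0212223242526279f9e91908f8e81 0x200000600000a02000c02001a00001e00003602003802003e00 [(30, ⟨404, 0x800080008000800080008000800001, 0x180402010080402⟩), (14, ⟨405, 0x800080008000800080008000800001, 0x180402010080402⟩), (12, ⟨406, 0x800080008000800080008000800001, 0x180402010080402⟩), (2, ⟨313, 0x800080008000800080000041000100, 0x480402010080201⟩), (0, ⟨143, 0x800080008000001100010001000100, 0x1080402008040201⟩)] (by decide +kernel) <|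
F7.e 1 0 32 0xa02122232425262786078405838281 0x1207001607 [] (by decide +kernel) <|
F7.e 0 0 24 0x86078405838281 0x1407001807 [] (by decide +kernel) <|
F7.c0⟩

noncomputable def sp7_61_0 : F7.Pt S8 b7_61 := ⟨_,
F7.e 31 0 12 0x87868584838281 0xc01000e01001001 [] (by decide +kernel) <|
F7.e 30 0 11 0x87868584838281 0xa01000c01000e01001001 [] (by decide +kernel) <|
F7.e 29 0 14 0x87868584838281 0xa01000c01001a01001c01 [] (by decide +kernel) <|
F7.e 28 0 10 0x8c0d8809840581 0x202000402000602000802000a02000c02000e02001002001202001402 [] (by decide +kernel) <|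
F7.e 27 0 11 0x87868584838281 0xa01 [] (by decide +kernel) <|
F7.e 26 0 13 0x87868584838281 0xa01000c01 [] (by decide +kernel) <|
F7.e 25 0 10 0x87868584838281 0x0 [] (by decide +kernel) <|
F7.e 24 0 30 0x9c1d1e1f98191a1b94151617820381 0x2003002803002a03003603003a03003c03 [] (by decide +kernel) <|
F7.e 23 0 30 0xb031323334353637a0212223242526279c1d1e1f98191a1b94151617820381 0x2003002803002a03003603003a03003c03 [] (by decide +kernel) <|
F7.e 22 0 40 0xa0212223242526279c1d1e1f98191a1b94151617820381 0x2a03002c03002e03003603003803004603004803004a03004e03005003 [] (by decide +kernel) <|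
F7.e 21 0 40 0xa02122232425262792139011820381 0xa02000c02 [] (by decide +kernel) <|
F7.e 20 0 30 0x92139190820381 0x602000803000a02001603001803001a03001c02001e02002e03003003003203003402 [] (by decide +kernel) <|
F7.e 19 0 30 0xb031323334353637a02122232425262792139190820381 0x602000a02001403001803001c02001e02002c03003003003402 [] (by decide +kernel) <|
F7.e 18 0 30 0x941516178c0d0e0f88090a0b820381 0x202000401000a01001403001602001c01 [] (by decide +kernel) <|
F7.e 17 0 30 0xb031323334353637a021222324252627941516178c0d0e0f88090a0b820381 0x202000403000a03001402001602001c02 [] (by decide +kernel) <|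
F7.e 16 0 40 0xa021222324252627941516178c0d0e0f88090a0b820381 0x202000402000a01000c03000e03001203001a03001c02002202002403002a03002e03 [] (by decide +kernel) <|
F7.e 15 0 48 0xa0212223242526279c1d1e1f98191a1b921390118c0d0e0f88090a0b820381 0x200000400000a00000c00001201001403001603001803001a00001c00003a00003c00003e01004001004200004400004a00004c00005603005803005e01006001 [(37, ⟨399, 0x8000c000c00080008000c041000100, 0x780703010080201⟩), (36, ⟨400, 0x80008000c00080008000c041000100, 0x780403010080201⟩), (33, ⟨394, 0x8000e00080008000a0008041000100, 0x680702010090201⟩), (32, ⟨391, 0x80008000800080008000c041000100, 0x780402010080201⟩), (29, ⟨413, 0x800080008000800080008000800001, 0x180402010080402⟩), (28, ⟨414, 0x800080008000800080008000800001, 0x180402010080402⟩), (13, ⟨415, 0x800080008000800080008000800001, 0x180402010080402⟩), (12, ⟨416, 0x800080008000800080008000800001, 0x180402010080402⟩), (5, ⟨367, 0x8000c0008000800080004041000100, 0x580602010080201⟩),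 (4, ⟨368, 0x800080008000800080004041000100, 0x580402010080201⟩), (1, ⟨297, 0x8000a00080008000a000c041000100, 0x780502010090201⟩), (0, ⟨144, 0x800080008000001100010001000100, 0x1080402008040201⟩)] (by decide +kernel) <|
F7.e 14 0 42 0x9c1d1e1f98191a1b921391908c0d0e0f88090a0b820381 0x200000400000602000803000a00000e01001003001201001420001600001801001a01003201003401003600003800003a02003e00004401004a01004c01004e20005000005201005401 [(39, ⟨411, 0x800080008000800080008000800001, 0x180402010080402⟩), (30, ⟨397, 0x8000c000c00080008000c001000101, 0x780703010080206⟩), (27, ⟨392, 0x80008000800080008000c001000101, 0x780402010080206⟩), (26, ⟨396, 0x8000a00080008000a0208041000101, 0x680502010090207⟩), (10, ⟨412, 0x800080008000800080008000800001, 0x180402010080402⟩), (4, ⟨367, 0x800080008000800080000041000100, 0x480402010080201⟩), (1, ⟨298, 0x8000a00080008000a0008041000100, 0x680502010090201⟩), (0, ⟨145, 0x800080008000001100010001000100, 0x1080402008040201⟩)] (by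 decide +kernel) <|
F7.e 13 0 48 0xb031323334353637a0212223242526279c1d1e1f98191a1b921391908c0d0e0f88090a0b820381 0x200000400000600000a00000e01001003001203001420001620001800001a01001c01001e01003e20004020004200004401004601004801004a00004c00004e00005200005801005e01006001 [(40, ⟨398, 0x80008000c00080008000c041000100, 0x780403010080201⟩), (38, ⟨401, 0x80008000900080008000c041000100, 0x780402210080201⟩), (37, ⟨395, 0x8000a00080008000a0008041000100, 0x680502010090201⟩), (36, ⟨393, 0x80008000800080008000c041000100, 0x780402010080201⟩), (32, ⟨409, 0x800080008000800080008000800001, 0x180402010080402⟩), (11, ⟨410, 0x800080008000800080008000800001, 0x180402010080402⟩), (4, ⟨368, 0x800080008000800080000041000100, 0x480402010080201⟩), (2, ⟨316, 0x800080008000800080000041000100, 0x480402010080201⟩), (1, ⟨298, 0x8000a00080008000a000c041000100, 0x780502010090201⟩), (0, ⟨146, 0x800080008000001100010001000100, 0x1080402008040201⟩)] (by decide +kernel) <|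
F7.e 12 0 48 0x9c1d1e1f88090a0b84050607820381 0x202000401000a01001a01001c02002201002603002e03003003003e03004603004803 [] (by decide +kernel) <|
F7.e 11 0 48 0xb031323334353637a0212223242526279c1d1e1f88090a0b84050607820381 0x202000403000a03001a02001c02002202002603002e03003003003e03004603004803 [] (by decide +kernel) <|
F7.e 10 0 64 0xa1232526a02224279c1d1e1f88090a0b84050607820381 0x202000402000602000a01000c03001203001603002201002402002a02002c03003203003403003603003e03004003004202004602005203005403005603005e03006003 [] (by decide +kernel) <|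
F7.e 9 0 64 0xa02122232425262798191a1b941516179213901188090a0b84050607820381 0x200000400000a00000c00000e02001002001601001803001e03002003002200002400002a00002c00003601003803003e03004003 [(21, ⟨397, 0x8001800300040008001010400080, 0x680703010080201⟩), (20, ⟨398, 0x8001000300040008001010400080, 0x680403010080201⟩), (17, ⟨394, 0x800140020004000a001810400080, 0x780502010090201⟩), (16, ⟨391, 0x8001000200040008001010400080, 0x680402010080201⟩), (5, ⟨369, 0x8001800200040008000810400080, 0x580602010080201⟩), (4, ⟨370, 0x8001000200040008000810400080, 0x580402010080201⟩), (1, ⟨299, 0x8001000200040008000010400080, 0x480402010080201⟩), (0, ⟨147, 0x8001000200000110002000400080, 0x1080402008040201⟩)] (by decide +kernel) <|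
F7.e 8 0 48 0x98191a1b941516179213919088090a0b84050607820381 0x200000400000602000803000a00000c02001003001603001801001a00001c00002003002200002801002e03003001003403003803 [(16, ⟨399, 0x8001000300040008001010400080, 0x680403010080201⟩), (13, ⟨395, 0x800140020004000a001810400080, 0x780502010090201⟩), (12, ⟨392, 0x8001000200040008001010400080, 0x680402010080201⟩), (4, ⟨369, 0x8001000200040008000010400080, 0x480402010080201⟩), (1, ⟨300, 0x8001000200040008000810400080, 0x580402010080201⟩), (0, ⟨148, 0x8001000200000110002000400080, 0x1080402008040201⟩)] (by decide +kernel) <|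
F7.e 7 0 64 0xb1333536b0323437a1232526a022242798191a1b941516179213919088090a0b84050607820381 0x200000400000600000a00000c02001001001603001803001a20001c00001e01002001002200002600004220004400004601004801004a00004c00004e00005200005801005e03006003 [(40, ⟨400, 0x80008000c000800080008041000100, 0x680403010080201⟩), (38, ⟨401, 0x800080008000800080008041000100, 0x680402010080201⟩), (37, ⟨396, 0x8000a00080008000a000c041000100, 0x780502010090201⟩), (36, ⟨393, 0x800080008000800080008041000100, 0x680402010080201⟩), (33, ⟨407, 0x800080008000800080008000800001, 0x180402010080402⟩), (18, ⟨403, 0x800080008000800080000041000100, 0x480402010080201⟩), (16, ⟨402, 0x800080008000800080000041000100, 0x480402010080201⟩), (13, ⟨408, 0x800080008000800080008000800001, 0x180402010080402⟩), (4, ⟨370, 0x800080008000800080000041000100, 0x480402010080201⟩), (2, ⟨317, 0x800080008000800080000041000100, 0x480402010080201⟩), (1, ⟨300, 0x800080008000800080000041000100, 0x480402010080201⟩),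 (0, ⟨149, 0x800080008000001100010001000100, 0x1080402008040201⟩)] (by decide +kernel) <|
F7.e 6 0 16 0x90111213838281 0x0 [] (by decide +kernel) <|
F7.e 5 0 18 0xa8292a2b2c2d2e2fa02122232425262790111213838281 0x0 [] (by decide +kernel) <|
F7.e 4 0 16 0x90111213838281 0x0 [] (by decide +kernel) <|
F7.e 3 0 18 0xa8292a2b2c2d2e2fa02122232425262790111213838281 0x0 [] (by decide +kernel) <|
F7.e 2 0 24 0x91129013838281 0xa06000c06002207 [] (by decide +kernel) <|
F7.e 1 0 27 0xa8292a2b2c2d2e2fa02122232425262791129013838281 0xa06000c04002204003201 [] (by decide +kernel) <|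
F7.e 0 0 24 0x90111213838281 0x0 [] (by decide +kernel) <|
F7.c0⟩

noncomputable def sp7_62_0 : F7.Pt S8 b7_62 := ⟨_,
F7.e 31 0 18 0x941516179011121387868584838281 0x1402001602 [] (by decide +kernel) <|
F7.e 30 0 25 0x951794169113901287868584838281 0x202000402001402001602001802001a02002002002202002c01002e01003001003201 [] (by decide +kernel) <|
F7.e 29 0 46 0x8f8e8d8c8b8a898887868584838281 0x801000c01001401001601001801001a01001c01001e01002201002401002601002810002a12002c01002e01003012003201003401003601003c01003e01004001004601004801004a01005001005212005401005601005817005a00 [(44, ⟨417, 0x80004000200010000800040002000001, 0x180402010080402⟩)] (by decide +kernel) <|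
F7.e 28 0 26 0x8f8e8d8c8b8a898887868584838281 0x1001001201001410001601001801001a01001c10001e10002001002601002811003401 [] (by decide +kernel) <|
F7.e 27 0 8 0x90111213838281 0x0 [] (by decide +kernel) <|
F7.e 26 0 12 0x90111213838281 0x0 [] (by decide +kernel) <|
F7.e 25 0 8 0x90111213838281 0x0 [] (by decide +kernel) <|
F7.e 24 0 14 0x92139011838281 0x802000a02 [] (by decide +kernel) <|
F7.e 23 0 10 0x92139011838281 0x602 [] (by decide +kernel) <|
F7.e 22 0 13 0x94159011840581 0x202000402000602000802000a02000c02000e02 [] (by decide +kernel) <|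
F7.e 21 0 14 0x94159190840581 0x202000402000602000802000a02000c02000e02 [] (by decide +kernel) <|
F7.e 20 0 18 0x94159011858481 0x802000a02 [] (by decide +kernel) <|
F7.e 19 0 15 0x94159011858481 0x602000802 [] (by decide +kernel) <|
F7.e 18 0 14 0x95949190858481 0x602000802001201001401 [] (by decide +kernel) <|
F7.e 17 0 16 0x95949190858481 0x602000802 [] (by decide +kernel) <|
F7.e 16 0 15 0x92139011838281 0x802000a02 [] (by decide +kernel) <|
F7.e 15 0 13 0x92139011838281 0x602000802 [] (by decide +kernel) <|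
F7.e 14 0 15 0x93929190838281 0x602000802 [] (by decide +kernel) <|
F7.e 13 0 10 0x93929190838281 0x602 [] (by decide +kernel) <|
F7.e 12 0 18 0x8e0f8988860781 0x202000402000602000802000a02000c02000e01001001001201 [] (by decide +kernel) <|
F7.e 11 0 18 0x8e0f8988860781 0x202000402000602000802000a02000c02000e01001001001201 [] (by decide +kernel) <|
F7.e 10 0 12 0x8e0f8a0b858481 0x0 [] (by decide +kernel) <|
F7.e 9 0 13 0x8e0f8a0b858481 0x0 [] (by decide +kernel) <|
F7.e 8 0 17 0x8d8c8988858481 0xe01001601 [] (by decide +kernel) <|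
F7.e 7 0 18 0x8d8c8988858481 0x2201002401 [] (by decide +kernel) <|
F7.e 6 0 13 0x8d8c8988858481 0x1a01 [] (by decide +kernel) <|
F7.c0⟩

end Cfsg.Agent.FS.Sw
end

-- part: FS/Th/Shape
section
prune_inst 0x10002104020000000018000000001c5282000002004f0000000000000480080020000e21a0000212002008440030000000000000001000000000000041180080000000020000a000000000008000000000000000000000000000000000000000000000000
set_option linter.all false
open scoped Cfsg.Agent.FastGrp

-- part: FS/Th/Fail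
section
/-!
# The first failure principle (helper80, project FS)

`Closed F M`: a property `M P f` of maps of `F` that is closed under restriction, composition and inverses and holds
for the conjugations by elements of `S`.  If it fails for some map of the saturated system `F`, then it fails either
for an element of odd prime power order of `Aut_F(S)` or, at an essential subgroup `P` such that it holds on all larger
subgroups, for an element of `Aut_F(P)`; the elements of `Aut_F(P)` with the property form a proper subgroup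
containing all automorphisms that extend to a larger subgroup.
-/

set_option autoImplicit false

namespace Cfsg.Agent.FS.Th

open Cfsg Cfsg.FusionSystem Cfsg.Agent.H802 Cfsg.Agent.H752

universe u v

/-- An element outside a subgroup has a power of prime power order outside the subgroup whose `r`-th power is
inside. -/
theorem exists_primePow_not_mem {A : Type*} [Group A] [Finite A] (H : Subgroup A) :
    ∀ (n : ℕ) (a : A), orderOf a = n → a ∉ H →
      ∃ (r k m : ℕ), r.Prime ∧ orderOf (a ^ m) = r ^ k ∧ a ^ m ∉ H ∧ (a ^ m) ^ r ∈ H := by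
  intro n
  induction n using Nat.strong_induction_on with
  | _ n ih =>
  intro a hn ha
  have hpos : 0 < n := hn ▸ orderOf_pos a
  have hn1 : n ≠ 1 := by
    rintro rfl
    rw [orderOf_eq_one_iff] at hn
    exact ha (hn ▸ H.one_mem)
  -- if some proper power lies outside `H`, use induction
  by_cases hex : ∃ q : ℕ, q.Prime ∧ q ∣ n ∧ a ^ q ∉ H
  · obtain ⟨q, hq, hqn, hqa⟩ := hex
    have h1 : orderOf (a ^ q) < n := by
      rw [orderOf_pow_of_dvd hq.ne_zero (hn ▸ hqn), hn]
      exact Nat.div_lt_self hpos hq.one_lt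
    obtain ⟨r, k, m, hr, h2, h3, h4⟩ := ih _ h1 (a ^ q) rfl hqa
    exact ⟨r, k, q * m, hr, by rw [pow_mul]; exact h2, by rw [pow_mul]; exact h3, by rw [pow_mul]; exact h4⟩
  · push Not at hex
    obtain ⟨r, hr, hrn⟩ := Nat.exists_prime_and_dvd hn1
    have huniq : ∀ q : ℕ, q.Prime → q ∣ n → q = r := by
      intro q hq hqn
      by_contra hne
      have hc : Nat.Coprime q r := (Nat.coprime_primes hq hr).2 hne
      apply ha
      have h1 : a = (a ^ q) ^ (Nat.gcdA q r) * (a ^ r) ^ (Nat.gcdB q r) := by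
        rw [← zpow_natCast, ← zpow_natCast, ← zpow_mul, ← zpow_mul, ← zpow_add, ← Nat.gcd_eq_gcd_ab, hc]
        simp
      rw [h1]
      exact H.mul_mem (H.zpow_mem (hex q hq hqn) _) (H.zpow_mem (hex r hr hrn) _)
    obtain ⟨k, hk⟩ : ∃ k, n = r ^ k :=
      ⟨_, Nat.eq_prime_pow_of_unique_prime_dvd hpos.ne' (fun {d} hd hdn => huniq d hd hdn)⟩
    exact ⟨r, k, 1, hr, by rw [pow_one, hn, hk], by rwa [pow_one], by rw [pow_one]; exact hex r hr hrn⟩

variable {Ω : Type u} [Group Ω] {S : Subgroup Ω}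

/-- an automorphism of `P` as a function on the ambient group -/
noncomputable abbrev fn {P : Subgroup Ω} (α : MulAut P) : Ω → Ω := ex fun x => ((α x : P) : Ω)

theorem fn_apply {P : Subgroup Ω} (α : MulAut P) {x : Ω} (hx : x ∈ P) : fn α x = (α ⟨x, hx⟩ : P) :=
  ex_apply _ hx

theorem fn_mem {P : Subgroup Ω} (α : MulAut P) {x : Ω} (hx : x ∈ P) : fn α x ∈ P := by
  rw [fn_apply α hx]
  exact (α _).2

theorem fn_mul {P : Subgroup Ω} (α β : MulAut P) {x : Ω} (hx : x ∈ P) : fn (α * β) x = fn α (fn β x) := by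
  rw [fn_apply _ hx, fn_apply α (fn_mem β hx)]
  show ((α (β _) : P) : Ω) = _
  congr 2
  exact Subtype.ext (fn_apply β hx).symm

theorem fn_one {P : Subgroup Ω} {x : Ω} (hx : x ∈ P) : fn (1 : MulAut P) x = x := by
  rw [fn_apply _ hx]
  rfl

theorem fn_inv_fn {P : Subgroup Ω} (α : MulAut P) {x : Ω} (hx : x ∈ P) : fn α⁻¹ (fn α x) = x := by
  rw [← fn_mul _ _ hx, inv_mul_cancel, fn_one hx]

theorem fn_fn_inv {P : Subgroup Ω} (α : MulAut P) {x : Ω} (hx : x ∈ P) : fn α (fn α⁻¹ x) = x := by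
  rw [← fn_mul _ _ hx, mul_inv_cancel, fn_one hx]

theorem mp_fn {F : FusionSystem S} {P : Subgroup Ω} (hP : P ≤ S) {α : MulAut P} (hα : α ∈ F.autGroup P) :
    Mp F P (fn α) := (mp_iff_autGroup hP α).1 hα

/-- A property of maps closed under the operations of a fusion system. -/
structure Closed (F : FusionSystem S) (M : Subgroup Ω → (Ω → Ω) → Prop) : Prop where
  congr : ∀ (P : Subgroup Ω) (f g : Ω → Ω), Mp F P f → M P f → (∀ x ∈ P, g x = f x) → M P g
  comp : ∀ (P Q : Subgroup Ω) (f g : Ω → Ω), Mp F P f → Mp F Q g → M P f → M Q g →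
    (∀ x ∈ P, f x ∈ Q) → M P (fun x => g (f x))
  inv : ∀ (P R : Subgroup Ω) (f g : Ω → Ω), Mp F P f → M P f → Mp F R g →
    (∀ y ∈ R, ∃ x ∈ P, f x = y ∧ g y = x) → (∀ x ∈ P, f x ∈ R) → M R g
  conj : ∀ P : Subgroup Ω, P ≤ S → ∀ s ∈ S, M P (fun x => s * x * s⁻¹)

namespace Closed

variable {F : FusionSystem S} {M : Subgroup Ω → (Ω → Ω) → Prop}

/-- the subsystem of the maps with the property -/
def sys (h : Closed F M) : FusionSystem S where
  Hom P := {φ | φ ∈ F.Hom P ∧ M P (ex φ)}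
  le_of_mem hφ := F.le_of_mem hφ.1
  injective_of_mem hφ := F.injective_of_mem hφ.1
  conj_mem := fun {P g} hP hg => ⟨F.conj_mem hP hg, h.congr P _ _ (mp_conj F hP hg) (h.conj P hP g hg)
    (fun x hx => ex_apply _ hx)⟩
  comp_mem := fun {P Q φ ψ} hφ hψ hPQ => by
    have h1 : ∀ x ∈ P, ex φ x ∈ Q := fun x hx => by
      rw [ex_apply _ hx]
      exact hPQ _
    refine ⟨F.comp_mem hφ.1 hψ.1 hPQ, h.congr P _ _ ((mp_ex hφ.1).comp (mp_ex hψ.1) h1)
      (h.comp P Q _ _ (mp_ex hφ.1) (mp_ex hψ.1) hφ.2 hψ.2 h1) fun x hx => ?_⟩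
    rw [ex_apply _ hx, ex_apply (φ : P → Ω) hx, ex_apply _ (hPQ ⟨x, hx⟩)]
    rfl
  inv_mem := fun {P φ} hφ => by
    obtain ⟨ψ, hψ, h1⟩ := F.inv_mem hφ.1
    refine ⟨ψ, ⟨hψ, h.inv P _ _ _ (mp_ex hφ.1) hφ.2 (mp_ex hψ) ?_ ?_⟩, h1⟩
    · rintro _ ⟨x, rfl⟩
      refine ⟨x, x.2, ex_coe _ x, ?_⟩
      rw [ex_apply _ (⟨x, rfl⟩ : φ x ∈ φ.range)]
      exact h1 x
    · intro x hx
      rw [ex_apply _ hx]
      exact ⟨_, rfl⟩

theorem mp_sys_iff (h : Closed F M) {P : Subgroup Ω} {f : Ω → Ω} : Mp h.sys P f ↔ Mp F P f ∧ M P f := by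
  constructor
  · rintro ⟨φ, hφ, h1⟩
    exact ⟨⟨φ, hφ.1, h1⟩, h.congr P _ _ (mp_ex hφ.1) hφ.2 fun x hx => by rw [ex_apply _ hx, h1]⟩
  · rintro ⟨⟨φ, hφ, h1⟩, h2⟩
    exact ⟨φ, ⟨hφ, h.congr P _ _ ⟨φ, hφ, h1⟩ h2 fun x hx => by rw [ex_apply _ hx, h1]⟩, h1⟩

theorem res (h : Closed F M) {P R : Subgroup Ω} {f : Ω → Ω} (hf : Mp F P f) (hM : M P f) (hR : R ≤ P) :
    M R f := (h.mp_sys_iff.1 ((h.mp_sys_iff.2 ⟨hf, hM⟩).res hR)).2

theorem mem_autGroup_iff (h : Closed F M) {P : Subgroup Ω} (hP : P ≤ S) (α : MulAut P) :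
    α ∈ h.sys.autGroup P ↔ α ∈ F.autGroup P ∧ M P (fn α) := by
  rw [mp_iff_autGroup hP, mp_iff_autGroup hP, h.mp_sys_iff]

end Closed

/-- In `Aut_F(S)` the elements of `p`-power order are inner. -/
theorem mem_autInducedBy_of_orderOf {p : ℕ} [Fact p.Prime] [Finite S] (hS : IsPGroup p S) {F : FusionSystem S}
    (hF : F.IsSaturated p) {α : MulAut S} (hα : α ∈ F.autGroup S) {k : ℕ} (hk : orderOf α = p ^ k) :
    α ∈ autInducedBy S S := by
  obtain ⟨φ, hφ, g, hg, h1⟩ := exists_conj_of_orderOf hF le_rfl hα (k := k) (by rw [← hk, pow_orderOf_eq_one])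
  obtain ⟨β, hβ, h2⟩ := exists_aut hφ (range_eq_of_mapsTo hφ (hom_apply_mem hφ))
  rw [mem_autInducedBy_iff]
  refine ⟨(β.symm ⟨g, hg⟩ : S), (β.symm ⟨g, hg⟩).2, fun x => ?_⟩
  have h3 : β (α x) = ⟨g, hg⟩ * β x * (⟨g, hg⟩ : S)⁻¹ := by
    apply Subtype.ext
    rw [h2, h1]
    simp only [Subgroup.coe_mul, Subgroup.coe_inv, h2]
  have h4 : α x = β.symm ⟨g, hg⟩ * x * (β.symm ⟨g, hg⟩)⁻¹ := by
    apply β.injective
    rw [h3, map_mul, map_mul, map_inv, MulEquiv.apply_symm_apply]
  rw [h4]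
  simp only [Subgroup.coe_mul, Subgroup.coe_inv]

/-- The data at the first essential subgroup where a closed property fails. -/
structure Failure (F : FusionSystem S) (p : ℕ) (M : Subgroup Ω → (Ω → Ω) → Prop) (P : Subgroup Ω)
    (H : Subgroup (MulAut P)) : Prop where
  ess : F.IsEssential p P
  big : ∀ (R : Subgroup Ω) (f : Ω → Ω), Mp F R f → Nat.card P < Nat.card R → M R f
  mem : ∀ α : MulAut P, α ∈ H ↔ α ∈ F.autGroup P ∧ M P (fn α)
  ext : ∀ α ∈ F.autGroup P, Extends F P α → α ∈ H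
  not_le : ¬ F.autGroup P ≤ H

/-- **First failure.** -/
theorem first_failure {p : ℕ} [Fact p.Prime] [Finite S] (hS : IsPGroup p S) {F : FusionSystem S}
    (hF : F.IsSaturated p) {M : Subgroup Ω → (Ω → Ω) → Prop} (h : Closed F M)
    (htop : ∀ f : Ω → Ω, Mp F S f → M S f) {P₀ : Subgroup Ω} {f₀ : Ω → Ω} (hf₀ : Mp F P₀ f₀)
    (hM₀ : ¬ M P₀ f₀) : ∃ (P : Subgroup Ω) (H : Subgroup (MulAut P)), Failure F p M P H := by
  by_contra hcon
  push Not at hcon
  have key := le_of_essential hS hF h.sys (fun α hα => (h.mem_autGroup_iff le_rfl α).2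
    ⟨hα, htop _ (mp_fn le_rfl hα)⟩) (fun Q hQ hbig => by
      have hQS : Q ≤ S := hQ.1.1
      have hb : ∀ (R : Subgroup Ω) (f : Ω → Ω), Mp F R f → Nat.card Q < Nat.card R → M R f := by
        rintro R f ⟨φ, hφ, h1⟩ hlt
        exact (h.mp_sys_iff.1 ⟨φ, hbig R hlt hφ, h1⟩).2
      by_contra hne
      refine hcon Q (h.sys.autGroup Q) ⟨hQ, hb, h.mem_autGroup_iff hQS, ?_, hne⟩
      rintro α hα ⟨R, hQR, hlt, ψ, hψ, h1⟩
      refine (h.mem_autGroup_iff hQS α).2 ⟨hα, ?_⟩
      refine h.congr Q _ _ ((mp_ex hψ).res hQR) (h.res (mp_ex hψ) (hb R _ (mp_ex hψ) hlt) hQR) fun x hx => ?_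
      rw [fn_apply _ hx, ex_apply _ (hQR hx)]
      exact (h1 ⟨x, hx⟩).symm) P₀
  obtain ⟨φ, hφ, h1⟩ := hf₀
  exact hM₀ (h.mp_sys_iff.1 ⟨φ, key hφ, h1⟩).2

/-- **First failure, with the top case.**  A closed property which fails somewhere fails for an element of
`Aut_F(S)` of prime power order `r ^ k`, `r ≠ p`, whose `r`-th power has it, or first at an essential subgroup. -/
theorem first_failure' {p : ℕ} [Fact p.Prime] [Finite S] (hS : IsPGroup p S) {F : FusionSystem S}
    (hF : F.IsSaturated p) {M : Subgroup Ω → (Ω → Ω) → Prop} (h : Closed F M)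
    {P₀ : Subgroup Ω} {f₀ : Ω → Ω} (hf₀ : Mp F P₀ f₀) (hM₀ : ¬ M P₀ f₀) :
    (∃ α ∈ F.autGroup S, ∃ r k : ℕ, r.Prime ∧ r ≠ p ∧ orderOf α = r ^ k ∧ ¬ M S (fn α) ∧ M S (fn (α ^ r))) ∨
      ((∀ f : Ω → Ω, Mp F S f → M S f) ∧ ∃ (P : Subgroup Ω) (H : Subgroup (MulAut P)), Failure F p M P H) := by
  by_cases htop : ∀ f : Ω → Ω, Mp F S f → M S f
  · exact Or.inr ⟨htop, first_failure hS hF h htop hf₀ hM₀⟩
  · left
    push Not at htop
    obtain ⟨f, hf, hM⟩ := htop
    obtain ⟨α, hα, h1⟩ := hf.exists_aut (fun x hx => hf.mem hx)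
    have h2 : α ∉ h.sys.autGroup S := fun h2 => hM (h.congr S _ _ (mp_fn le_rfl hα)
      ((h.mem_autGroup_iff le_rfl α).1 h2).2 fun x hx => by rw [h1 x hx, fn_apply _ hx])
    obtain ⟨r, k, m, hr, h3, h4, h5⟩ := exists_primePow_not_mem (h.sys.autGroup S) _ α rfl h2
    have hαm : α ^ m ∈ F.autGroup S := Subgroup.pow_mem _ hα m
    refine ⟨α ^ m, hαm, r, k, hr, ?_, h3, fun h6 => h4 ((h.mem_autGroup_iff le_rfl _).2 ⟨hαm, h6⟩),
      ((h.mem_autGroup_iff le_rfl _).1 h5).2⟩
    rintro rfl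
    exact h4 (autInducedBy_le_autGroup h.sys le_rfl (mem_autInducedBy_of_orderOf hS hF hαm h3))

end Cfsg.Agent.FS.Th
end

-- part: FS/Th/Viol
section
/-!
# Saturation axioms in element form (V1) (helper80, project FS)
-/

set_option autoImplicit false

namespace Cfsg.Agent.FS.Th

open Cfsg Cfsg.FusionSystem Cfsg.Agent.H802 Cfsg.Agent.H752

universe u v

variable {Ω : Type u} [Group Ω] {S : Subgroup Ω}

/-- A subgroup normalized by `S` is fully normalized. -/
theorem isFullyNormalized_of_normal [Finite S] (F : FusionSystem S) {T : Subgroup Ω} (hT : T ≤ S)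
    (hn : ∀ s ∈ S, ∀ x ∈ T, s * x * s⁻¹ ∈ T) : F.IsFullyNormalized T := by
  refine ⟨hT, fun Q _ => ?_⟩
  have h1 : normalizerIn S T = S := by
    refine inf_eq_left.2 fun s hs => Subgroup.mem_normalizer_iff.2 fun x => ⟨hn s hs x, fun h => ?_⟩
    have h2 := hn s⁻¹ (S.inv_mem hs) _ h
    have h3 : s⁻¹ * (s * x * s⁻¹) * s⁻¹⁻¹ = x := by group
    rwa [h3] at h2
  rw [h1]
  exact Subgroup.card_le_of_le inf_le_left

/-- A centric subgroup is fully centralized. -/
theorem isFullyCentralized_of_isCentric [Finite S] {F : FusionSystem S} {T : Subgroup Ω} (hT : F.IsCentric T) :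
    F.IsFullyCentralized T := by
  refine ⟨hT.1, fun Q hQ => ?_⟩
  have hQC := hT.2 Q hQ
  obtain ⟨φ, hφ, hφr⟩ := hQ
  obtain ⟨ψ, hψ, hψr, h1, h2⟩ := exists_inv hφ hφr
  have hfin : Finite (centralizerIn S T) := finite_of_le inf_le_left
  refine card_le_of_maps (F.injective_of_mem hψ) hQC fun x hx => ⟨hom_apply_mem hψ _, ?_⟩
  refine Subgroup.mem_centralizer_iff.2 fun y hy => ?_
  have hy' : y ∈ ψ.range := by rw [hψr]; exact hy
  obtain ⟨z, rfl⟩ := hy'
  rw [← map_mul, ← map_mul]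
  congr 1
  exact Subtype.ext (Subgroup.mem_centralizer_iff.1 hx.2 z z.2)

/-- A `p`-subgroup of `Aut_F(T)` containing `Aut_S(T)`, `T` fully normalized, is `Aut_S(T)`. -/
theorem le_autInducedBy_of_isPGroup {p : ℕ} [Fact p.Prime] [Finite S] (hS : IsPGroup p S) {F : FusionSystem S}
    (hF : F.IsSaturated p) {T : Subgroup Ω} (hT : F.IsFullyNormalized T) {B : Subgroup (MulAut T)}
    (hB : B ≤ F.autGroup T) (hBp : IsPGroup p B) (hle : autInducedBy S T ≤ B) : B ≤ autInducedBy S T := by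
  obtain ⟨-, R, hR⟩ := isFullyAutomized_of_isFullyNormalized hS hF hT
  have h1 : IsPGroup p (B.subgroupOf (F.autGroup T)) := hBp.comap_of_injective _ (Subgroup.subtype_injective _)
  have h2 := R.is_maximal' h1 (by
    rw [hR]
    exact fun x hx => hle hx)
  intro α hα
  have h3 : (⟨α, hB hα⟩ : F.autGroup T) ∈ B.subgroupOf (F.autGroup T) := hα
  rw [h2, hR] at h3
  exact h3

/-- A `p`-subgroup of `Aut_F(T)`, `T` fully normalized, is conjugate into `Aut_S(T)`. -/
theorem exists_conj_le_autInducedBy {p : ℕ} [Fact p.Prime] [Finite S] (hS : IsPGroup p S) {F : FusionSystem S}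
    (hF : F.IsSaturated p) {T : Subgroup Ω} (hT : F.IsFullyNormalized T) {B : Subgroup (MulAut T)}
    (hB : B ≤ F.autGroup T) (hBp : IsPGroup p B) :
    ∃ β ∈ F.autGroup T, ∀ α ∈ B, β * α * β⁻¹ ∈ autInducedBy S T := by
  obtain ⟨β, hβ, h⟩ := exists_aut_conj_le_of_isPGroup (subtype_mem F hT.1) (Subgroup.range_subtype T)
    (isFullyAutomized_of_isFullyNormalized hS hF hT) B hB hBp
  refine ⟨β, hβ, fun α hα => ?_⟩
  have h1 := h α hα
  rwa [congr_isoOf_subtype] at h1

/-- **V1.**  `T` fully normalized, `ψ ∈ Aut_F(T)` normalizing `Aut_S(T)` with `ψ ^ (p ^ k) ∈ Aut_S(T)`.  Then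
`ψ ∈ Aut_S(T)`. -/
theorem mem_autInducedBy_of_normalizes {p : ℕ} [Fact p.Prime] [Finite S] (hS : IsPGroup p S) {F : FusionSystem S}
    (hF : F.IsSaturated p) {T : Subgroup Ω} (hT : F.IsFullyNormalized T) {ψ : MulAut T} (hψ : ψ ∈ F.autGroup T)
    (hn : ∀ δ ∈ autInducedBy S T, ψ * δ * ψ⁻¹ ∈ autInducedBy S T) {k : ℕ} (hk : ψ ^ p ^ k ∈ autInducedBy S T) :
    ψ ∈ autInducedBy S T := by
  have hfin : Finite T := finite_of_le hT.1
  have hAp := isPGroup_autInducedBy hS T
  have hψp : IsPGroup p (Subgroup.zpowers ψ) := by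
    obtain ⟨l, hl⟩ := hAp ⟨_, hk⟩
    have hl' : (ψ ^ p ^ k) ^ p ^ l = 1 := congrArg Subtype.val hl
    rintro ⟨b, hb⟩
    obtain ⟨m, rfl⟩ := Subgroup.mem_zpowers_iff.1 hb
    refine ⟨k + l, Subtype.ext ?_⟩
    show (ψ ^ m) ^ p ^ (k + l) = 1
    rw [← zpow_natCast, ← zpow_mul, mul_comm, zpow_mul, zpow_natCast, pow_add, pow_mul, hl', one_zpow]
  have hN : Subgroup.zpowers ψ ≤ Subgroup.normalizer (autInducedBy S T : Set (MulAut T)) := by
    rw [Subgroup.zpowers_le]
    exact Subgroup.mem_normalizer_fintype (fun δ hδ => hn δ hδ)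
  have hsup : IsPGroup p (Subgroup.zpowers ψ ⊔ autInducedBy S T : Subgroup (MulAut T)) :=
    IsPGroup.to_sup_of_normal_right' hψp hAp hN
  exact le_autInducedBy_of_isPGroup hS hF hT
    (sup_le (Subgroup.zpowers_le.2 hψ) (autInducedBy_le_autGroup F hT.1)) hsup le_sup_right
    ((le_sup_left : _ ≤ Subgroup.zpowers ψ ⊔ autInducedBy S T) (Subgroup.mem_zpowers ψ))

/-- **V1, function form.**  `f` a map of `F` from the fully normalized subgroup `T` to itself, normalizing the action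
of `N_S(T)`, with `f ∘ f` induced by an element of `S`.  Then `f` is induced by an element of `S` (`p = 2`). -/
theorem exists_conj_of_sq [Finite S] (hS : IsPGroup 2 S) {F : FusionSystem S}
    (hF : F.IsSaturated 2) {T : Subgroup Ω} (hT : F.IsFullyNormalized T) {f : Ω → Ω} (hf : Mp F T f)
    (hfT : ∀ x ∈ T, f x ∈ T)
    (hn : ∀ s ∈ normalizerIn S T, ∃ s' ∈ S, ∀ x ∈ T, f (s * x * s⁻¹) = s' * f x * s'⁻¹)
    (hsq : ∃ s ∈ S, ∀ x ∈ T, f (f x) = s * x * s⁻¹) : ∃ s ∈ S, ∀ x ∈ T, f x = s * x * s⁻¹ := by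
  have : Fact (Nat.Prime 2) := ⟨Nat.prime_two⟩
  have hfin : Finite T := finite_of_le hT.1
  obtain ⟨ψ, hψ, h1⟩ := hf.exists_aut hfT
  have h2 := mem_autInducedBy_of_normalizes hS hF hT hψ (k := 1) (by
    intro δ hδ
    obtain ⟨g, hg, h2⟩ := (mem_autInducedBy_iff S T δ).1 hδ
    obtain ⟨s', hs', h3⟩ := hn g ⟨hg, mem_normalizer_of_aut h2⟩
    refine (mem_autInducedBy_iff S T _).2 ⟨s', hs', fun x => ?_⟩
    have h4 := h3 _ (ψ⁻¹ x).2
    rw [← h2, h1 _ (δ _).2, h1 _ (ψ⁻¹ x).2] at h4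
    have h5 : ψ (⟨((ψ⁻¹ x : T) : Ω), (ψ⁻¹ x).2⟩ : T) = x := ψ.apply_symm_apply x
    rw [h5] at h4
    exact h4) (by
    obtain ⟨s, hs, h2⟩ := hsq
    refine (mem_autInducedBy_iff S T _).2 ⟨s, hs, fun x => ?_⟩
    rw [← h2 x x.2, h1 x x.2, h1 _ (ψ _).2, pow_one, pow_two]
    rfl)
  obtain ⟨g, hg, h3⟩ := (mem_autInducedBy_iff S T ψ).1 h2
  exact ⟨g, hg, fun x hx => by rw [h1 x hx, h3]⟩

/-- **Extension axiom.**  `f : P → Q` an isomorphism of `F` onto a fully centralized subgroup, `N` a subgroup of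
`N_S(P)` containing `P` whose action on `P` is carried into the action of `S` on `Q`.  Then `f` extends to `N`. -/
theorem mp_extend_of_fullyCentralized {p : ℕ} [Fact p.Prime] [Finite S] (hS : IsPGroup p S) {F : FusionSystem S}
    (hF : F.IsSaturated p) {Q : Subgroup Ω} (hQ : F.IsFullyCentralized Q) {P N : Subgroup Ω} {f : Ω → Ω}
    (hf : Mp F P f) (hfQ : ∀ y, y ∈ Q ↔ ∃ x ∈ P, f x = y) (hPN : P ≤ N) (hNS : N ≤ S)
    (hN : ∀ g ∈ N, (∀ x ∈ P, g * x * g⁻¹ ∈ P) ∧ ∃ h ∈ S, ∀ x ∈ P, f (g * x * g⁻¹) = h * f x * h⁻¹) :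
    ∃ k, Mp F N k ∧ ∀ x ∈ P, k x = f x := by
  refine H754.mp_extend (isReceptive_of_isFullyCentralized hS hF hQ) hf hfQ hPN fun g hg =>
    ⟨hNS hg, Subgroup.mem_normalizer_iff.2 fun x => ⟨(hN g hg).1 x, fun h => ?_⟩, (hN g hg).2⟩
  have h2 := (hN g⁻¹ (N.inv_mem hg)).1 _ h
  have h3 : g⁻¹ * (g * x * g⁻¹) * g⁻¹⁻¹ = x := by group
  rwa [h3] at h2

end Cfsg.Agent.FS.Th
end

-- part: FS/Th/Chain
section
/-!
# Coprime action by fixed points (helper79, project FS)

Pure group theory for the essential-subgroup lemmas: fixed points in cosets, the stabilizer of a chain is a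
`p`-group, squares are nongenerators of a finite `2`-group, inverting elements in a coset.
-/

set_option autoImplicit false

namespace Cfsg.Agent.FS.Th

universe u v

/-- A self-map of a finite set whose `r ^ k`-th iterate is the identity has a fixed point when `r ∤ |s|`. -/
theorem exists_fixed_of_iterate {α : Type*} (s : Set α) [Finite s] (f : α → α) (hf : ∀ x ∈ s, f x ∈ s)
    {r k : ℕ} (hr : r.Prime) (hit : ∀ x ∈ s, f^[r ^ k] x = x) (hcard : ¬ r ∣ Nat.card s) :
    ∃ x ∈ s, f x = x := by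
  classical
  have : Fact r.Prime := ⟨hr⟩
  have := Fintype.ofFinite s
  let g : s → s := fun x => ⟨f x, hf x x.2⟩
  have hg : ∀ (n : ℕ) (x : s), ((g^[n] x : s) : α) = f^[n] x := by
    intro n
    induction n with
    | zero => intro x; rfl
    | succ n ih => intro x; rw [Function.iterate_succ_apply, Function.iterate_succ_apply, ih]
  have hid : g^[r ^ k] = id := funext fun x => Subtype.ext (by rw [hg]; exact hit x x.2)
  have hinj : Function.Injective g := by
    have h1 : Function.Injective (g^[r ^ k]) := by rw [hid]; exact Function.injective_id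
    obtain ⟨m, hm⟩ := Nat.exists_eq_succ_of_ne_zero (pow_ne_zero k hr.ne_zero)
    rw [hm, Function.iterate_succ] at h1
    exact Function.Injective.of_comp h1
  let σ : Equiv.Perm s := Equiv.ofBijective g (Finite.injective_iff_bijective.1 hinj)
  have hσ : σ ^ r ^ k = 1 := by
    ext x
    rw [Equiv.Perm.coe_pow]
    show ((g^[r ^ k] x : s) : α) = x
    rw [hid]
    rfl
  obtain ⟨a, ha⟩ := Equiv.Perm.exists_fixed_point_of_prime (by rwa [← Nat.card_eq_fintype_card]) hσ
  exact ⟨a, a.2, congrArg Subtype.val ha⟩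

variable {G : Type u} [Group G]

theorem card_coset (K : Subgroup G) (x : G) : Nat.card {y : G | y * x⁻¹ ∈ K} = Nat.card K :=
  Nat.card_congr
    { toFun := fun y => ⟨y.1 * x⁻¹, y.2⟩
      invFun := fun k => ⟨k.1 * x, by
        show k.1 * x * x⁻¹ ∈ K
        rw [mul_inv_cancel_right]
        exact k.2⟩
      left_inv := fun y => Subtype.ext (by simp)
      right_inv := fun k => Subtype.ext (by simp) }

theorem not_dvd_card_of_isPGroup {p r : ℕ} [Fact p.Prime] (hr : r.Prime) (hne : r ≠ p) {K : Type*} [Group K]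
    [Finite K] (hK : IsPGroup p K) : ¬ r ∣ Nat.card K := by
  obtain ⟨n, hn⟩ := IsPGroup.iff_card.1 hK
  rw [hn]
  intro h
  exact hne ((Nat.prime_dvd_prime_iff_eq hr Fact.out).1 (hr.dvd_of_dvd_pow h))

/-- An automorphism of order a power of `r` fixing a coset of an invariant subgroup of order prime to `r` fixes a point
in it. -/
theorem exists_fixed_coset {β : MulAut G} {r k : ℕ} (hr : r.Prime) (hβ : β ^ r ^ k = 1) {K : Subgroup G} [Finite K]
    (hK : ¬ r ∣ Nat.card K) (hinv : ∀ x ∈ K, β x ∈ K) {x : G} (hx : β x * x⁻¹ ∈ K) :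
    ∃ y, y * x⁻¹ ∈ K ∧ β y = y := by
  have : Finite {y : G | y * x⁻¹ ∈ K} := by
    refine Finite.of_injective (fun y : {y : G | y * x⁻¹ ∈ K} => (⟨y.1 * x⁻¹, y.2⟩ : K)) fun a b h => ?_
    exact Subtype.ext (mul_right_cancel (congrArg Subtype.val h))
  refine exists_fixed_of_iterate {y : G | y * x⁻¹ ∈ K} β (fun y hy => ?_) hr (k := k) (fun y _ => ?_)
    (by rwa [card_coset])
  · show β y * x⁻¹ ∈ K
    have h1 : β y * x⁻¹ = β (y * x⁻¹) * (β x * x⁻¹) := by
      rw [map_mul, map_inv]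
      group
    rw [h1]
    exact K.mul_mem (hinv _ hy) hx
  · have h1 : ∀ n : ℕ, (β : G → G)^[n] y = (β ^ n) y := by
      intro n
      induction n with
      | zero => rfl
      | succ n ih => rw [Function.iterate_succ_apply', ih, pow_succ', MulAut.mul_apply]
    rw [h1, hβ, MulAut.one_apply]

/-- The automorphisms that preserve every `K i` and act trivially on the steps `K (i + 1) / K i`, `i < m`. -/
def chainStab (K : ℕ → Subgroup G) (m : ℕ) : Subgroup (MulAut G) where
  carrier := {β | (∀ i x, β x ∈ K i ↔ x ∈ K i) ∧ ∀ i < m, ∀ x ∈ K (i + 1), β x * x⁻¹ ∈ K i}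
  one_mem' := ⟨fun _ _ => Iff.rfl, fun i _ x _ => by
    rw [MulAut.one_apply, mul_inv_cancel]
    exact (K i).one_mem⟩
  mul_mem' := by
    rintro β γ ⟨h1, h2⟩ ⟨h3, h4⟩
    refine ⟨fun i x => by rw [MulAut.mul_apply, h1, h3], fun i hi x hx => ?_⟩
    have h5 : (β * γ) x * x⁻¹ = (β (γ x) * (γ x)⁻¹) * (γ x * x⁻¹) := by
      rw [MulAut.mul_apply]
      group
    rw [h5]
    exact (K i).mul_mem (h2 i hi _ ((h3 _ _).2 hx)) (h4 i hi x hx)
  inv_mem' := by
    rintro β ⟨h1, h2⟩
    have h3 : ∀ i x, β⁻¹ x ∈ K i ↔ x ∈ K i := fun i x => by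
      rw [← h1 i (β⁻¹ x), MulAut.apply_inv_self]
    refine ⟨h3, fun i hi x hx => ?_⟩
    have h4 := (K i).inv_mem (h2 i hi _ ((h3 _ _).2 hx))
    rwa [MulAut.apply_inv_self, mul_inv_rev, inv_inv] at h4

theorem iff_of_mapsTo [Finite G] {β : MulAut G} {K : Subgroup G} (h : ∀ x ∈ K, β x ∈ K) (x : G) :
    β x ∈ K ↔ x ∈ K := by
  refine ⟨fun hx => ?_, h x⟩
  have h1 : Function.Injective (fun y : K => (⟨β y, h y y.2⟩ : K)) := fun a b hab =>
    Subtype.ext (β.injective (congrArg Subtype.val hab))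
  obtain ⟨y, hy⟩ := Finite.injective_iff_surjective.1 h1 ⟨β x, hx⟩
  have h2 : (y : G) = x := β.injective (congrArg Subtype.val hy)
  rw [← h2]
  exact y.2

theorem mem_chainStab [Finite G] {K : ℕ → Subgroup G} {m : ℕ} {β : MulAut G} (h1 : ∀ i, ∀ x ∈ K i, β x ∈ K i)
    (h2 : ∀ i < m, ∀ x ∈ K (i + 1), β x * x⁻¹ ∈ K i) : β ∈ chainStab K m :=
  ⟨fun i => iff_of_mapsTo (h1 i), h2⟩

theorem conj_mem_chainStab {K : ℕ → Subgroup G} {m : ℕ} {α β : MulAut G} (hα : ∀ i x, α x ∈ K i ↔ x ∈ K i)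
    (hβ : β ∈ chainStab K m) : α * β * α⁻¹ ∈ chainStab K m := by
  have h3 : ∀ i x, α⁻¹ x ∈ K i ↔ x ∈ K i := fun i x => by
    rw [← hα i (α⁻¹ x), MulAut.apply_inv_self]
  refine ⟨fun i x => by rw [MulAut.mul_apply, MulAut.mul_apply, hα, hβ.1, h3], fun i hi x hx => ?_⟩
  have h4 := (hα i _).2 (hβ.2 i hi _ ((h3 _ _).2 hx))
  rwa [map_mul, map_inv, MulAut.apply_inv_self] at h4

/-- An automorphism of order a power of `r ≠ p` in the stabilizer of a chain: every `K i` lies in the join of the fixed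
subgroup and `K 0`. -/
theorem le_fixed_sup {p : ℕ} [Fact p.Prime] [Finite G] (hG : IsPGroup p G) {K : ℕ → Subgroup G} {m : ℕ}
    {β : MulAut G} (hβ : β ∈ chainStab K m) {r k : ℕ} (hr : r.Prime) (hne : r ≠ p) (hk : β ^ r ^ k = 1) :
    ∀ i ≤ m, K i ≤ MonoidHom.eqLocus β.toMonoidHom (MonoidHom.id G) ⊔ K 0 := by
  intro i
  induction i with
  | zero => exact fun _ => le_sup_right
  | succ i ih =>
    intro hi x hx
    obtain ⟨y, h1, h2⟩ := exists_fixed_coset hr hk
      (not_dvd_card_of_isPGroup hr hne (hG.to_subgroup (K i))) (fun x hx => (hβ.1 i x).2 hx) (hβ.2 i hi x hx)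
    have h3 : x = (y * x⁻¹)⁻¹ * y := by group
    rw [h3]
    exact Subgroup.mul_mem _ (Subgroup.inv_mem _ (ih (Nat.le_of_succ_le hi) h1))
      ((le_sup_left : MonoidHom.eqLocus β.toMonoidHom (MonoidHom.id G) ≤ _) h2)

/-- A finite group all of whose elements of prime order `r ≠ p` are absent is a `p`-group. -/
theorem isPGroup_of_forall_prime {p : ℕ} [Fact p.Prime] {A : Type*} [Group A] [Finite A]
    (h : ∀ (a : A) (r : ℕ), r.Prime → r ≠ p → a ^ r = 1 → a = 1) : IsPGroup p A := by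
  rw [IsPGroup.iff_card]
  refine ⟨_, Nat.eq_prime_pow_of_unique_prime_dvd Nat.card_pos.ne' fun {r} hr hrd => ?_⟩
  by_contra hne
  have : Fact r.Prime := ⟨hr⟩
  obtain ⟨a, ha⟩ := exists_prime_orderOf_dvd_card' r hrd
  have h1 := h a r hr hne (by rw [← ha, pow_orderOf_eq_one])
  rw [h1, orderOf_one] at ha
  exact hr.one_lt.ne ha

/-- **The stabilizer of a chain from a nongenerating subgroup to the whole `p`-group is a `p`-group.** -/
theorem isPGroup_chainStab {p : ℕ} [Fact p.Prime] [Finite G] (hG : IsPGroup p G) {K : ℕ → Subgroup G} {m : ℕ}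
    (htop : K m = ⊤) (h0 : ∀ M : Subgroup G, M ⊔ K 0 = ⊤ → M = ⊤) : IsPGroup p (chainStab K m) := by
  have : Finite (MulAut G) := Finite.of_injective (fun α : MulAut G => (α : G → G)) DFunLike.coe_injective
  refine isPGroup_of_forall_prime fun β r hr hne hβ => ?_
  have h1 : (β : MulAut G) ^ r ^ 1 = 1 := by
    rw [pow_one]
    exact congrArg Subtype.val hβ
  have h2 := le_fixed_sup hG β.2 hr hne h1 m le_rfl
  rw [htop, top_le_iff] at h2
  have h3 := h0 _ h2
  apply Subtype.ext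
  ext x
  have h4 : x ∈ MonoidHom.eqLocus (β : MulAut G).toMonoidHom (MonoidHom.id G) := by
    rw [h3]
    exact Subgroup.mem_top x
  exact h4

/-- In a finite `p`-group the maximal subgroups contain the `p`-th powers. -/
theorem pow_mem_of_isCoatom {p : ℕ} [Fact p.Prime] [Finite G] (hG : IsPGroup p G) {M : Subgroup G}
    (hM : IsCoatom M) (a : G) : a ^ p ∈ M := by
  have := hG.isNilpotent
  have hn : M.Normal := Subgroup.NormalizerCondition.normal_of_coatom M Group.normalizerCondition_of_isNilpotent hM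
  by_contra hcon
  have h1 : M ⊔ Subgroup.zpowers (a ^ p) = ⊤ := hM.2 _ (lt_of_le_of_ne le_sup_left fun h =>
    hcon (h ▸ (le_sup_right : _ ≤ M ⊔ Subgroup.zpowers (a ^ p)) (Subgroup.mem_zpowers _)))
  have h2 : (QuotientGroup.mk' M a) ∈ Subgroup.zpowers ((QuotientGroup.mk' M a) ^ p) := by
    have h3 : (QuotientGroup.mk' M a) ∈ (M ⊔ Subgroup.zpowers (a ^ p)).map (QuotientGroup.mk' M) :=
      ⟨a, h1 ▸ Subgroup.mem_top a, rfl⟩
    rw [Subgroup.map_sup, MonoidHom.map_zpowers, (Subgroup.map_eq_bot_iff M).2 (by rw [QuotientGroup.ker_mk']),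
      bot_sup_eq, map_pow] at h3
    exact h3
  obtain ⟨n, hn'⟩ := IsPGroup.iff_orderOf.1 (hG.to_quotient M) (QuotientGroup.mk' M a)
  have h4 : orderOf (QuotientGroup.mk' M a) ∣ orderOf ((QuotientGroup.mk' M a) ^ p) := orderOf_dvd_of_mem_zpowers h2
  have h5 : QuotientGroup.mk' M a = 1 := by
    by_contra hne
    have hp : p ∣ orderOf (QuotientGroup.mk' M a) := by
      rw [hn']
      refine dvd_pow_self p ?_
      rintro rfl
      exact hne (orderOf_eq_one_iff.1 hn')
    rw [orderOf_pow_of_dvd (Fact.out : p.Prime).ne_zero hp] at h4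
    exact absurd (Nat.le_of_dvd (Nat.div_pos (Nat.le_of_dvd (orderOf_pos _) hp) (Fact.out : p.Prime).pos) h4)
      (not_le.2 (Nat.div_lt_self (orderOf_pos _) (Fact.out : p.Prime).one_lt))
  exact hcon (M.pow_mem ((QuotientGroup.eq_one_iff a).1 h5) p)

/-- In a finite `2`-group a subgroup generated by squares is nongenerating. -/
theorem nonGen_of_sq [Finite G] (hG : IsPGroup 2 G) {K : Subgroup G}
    (hK : K ≤ Subgroup.closure {y | ∃ a, y = a * a}) (M : Subgroup G) (hM : M ⊔ K = ⊤) : M = ⊤ := by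
  have : Fact (Nat.Prime 2) := ⟨Nat.prime_two⟩
  rcases eq_top_or_exists_le_coatom M with h | ⟨N, hN, hMN⟩
  · exact h
  · exfalso
    refine hN.1 (top_le_iff.1 (hM ▸ sup_le hMN (hK.trans ?_)))
    rw [Subgroup.closure_le]
    rintro _ ⟨a, rfl⟩
    have := pow_mem_of_isCoatom hG hN a
    rwa [pow_two] at this

/-- If `τ` inverts `σ` (of order a power of `r`) modulo a normal subgroup `I` of order prime to `r`, some element of the
coset `I τ` inverts `σ`. -/
theorem exists_inverting {I : Subgroup G} [I.Normal] [Finite I] {σ τ : G} {r k : ℕ} (hr : r.Prime)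
    (hσ : σ ^ r ^ k = 1) (hI : ¬ r ∣ Nat.card I) (h : σ * τ * σ * τ⁻¹ ∈ I) :
    ∃ i ∈ I, (i * τ) * σ * (i * τ)⁻¹ = σ⁻¹ := by
  have : Finite {y : G | y * τ⁻¹ ∈ I} := by
    refine Finite.of_injective (fun y : {y : G | y * τ⁻¹ ∈ I} => (⟨y.1 * τ⁻¹, y.2⟩ : I)) fun a b h => ?_
    exact Subtype.ext (mul_right_cancel (congrArg Subtype.val h))
  obtain ⟨x, hx, h1⟩ := exists_fixed_of_iterate {y : G | y * τ⁻¹ ∈ I} (fun y => σ * y * σ) (fun y hy => by
      show σ * y * σ * τ⁻¹ ∈ I
      have h1 : σ * y * σ * τ⁻¹ = (σ * (y * τ⁻¹) * σ⁻¹) * (σ * τ * σ * τ⁻¹) := by group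
      rw [h1]
      exact I.mul_mem (Subgroup.Normal.conj_mem inferInstance _ hy σ) h) hr (k := k) (fun y _ => by
      have h1 : ∀ n : ℕ, (fun y => σ * y * σ)^[n] y = σ ^ n * y * σ ^ n := by
        intro n
        induction n with
        | zero => simp
        | succ n ih =>
          rw [Function.iterate_succ_apply', ih]
          calc σ * (σ ^ n * y * σ ^ n) * σ = (σ * σ ^ n) * y * (σ ^ n * σ) := by simp only [mul_assoc]
            _ = _ := by rw [← pow_succ', ← pow_succ]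
      rw [h1, hσ, one_mul, mul_one]) (by rwa [card_coset])
  refine ⟨x * τ⁻¹, hx, ?_⟩
  rw [inv_mul_cancel_right]
  calc x * σ * x⁻¹ = σ⁻¹ * (σ * x * σ) * x⁻¹ := by group
    _ = σ⁻¹ := by rw [h1]; group

/-- In a commutative group with a dihedral pair of automorphisms `σ` (of odd order) and `τ`: if `τ y / y` is fixed by
`σ`, then `z · τ z · y` is fixed by `σ` for some `z`. -/
theorem exists_norm_fixed {Z : Type*} [CommGroup Z] {σ τ : MulAut Z} {h : ℕ} (hσ : σ ^ (2 * h + 1) = 1)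
    (hτ : τ * σ = σ⁻¹ * τ) {y : Z} (hy : σ (τ y * y⁻¹) = τ y * y⁻¹) : ∃ z, σ (z * τ z * y) = z * τ z * y := by
  have hτn : ∀ n : ℕ, τ * σ ^ n = σ⁻¹ ^ n * τ := by
    intro n
    induction n with
    | zero => simp
    | succ n ih => rw [pow_succ, ← mul_assoc, ih, mul_assoc, hτ, pow_succ, mul_assoc]
  set c := τ y * y⁻¹ with hc
  have hc1 : σ⁻¹ c = c := by
    conv_lhs => rw [← hy]
    rw [MulAut.inv_apply_self]
  have hcn : ∀ n : ℕ, (σ⁻¹ ^ n) c = c := by
    intro n
    induction n with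
    | zero => rfl
    | succ n ih => rw [pow_succ, MulAut.mul_apply, hc1, ih]
  have key : ∀ n : ℕ, ∃ z, σ (z * τ z * y) * (σ⁻¹ ^ n) y = z * τ z * y * (σ ^ (n + 1)) y := by
    intro n
    induction n with
    | zero => exact ⟨1, by simp [mul_comm]⟩
    | succ n ih =>
      obtain ⟨z, hz⟩ := ih
      refine ⟨z * (σ ^ (n + 1)) y, ?_⟩
      have h1 : τ ((σ ^ (n + 1)) y) = (σ⁻¹ ^ (n + 1)) y * c := by
        rw [← MulAut.mul_apply, hτn, MulAut.mul_apply, ← hcn (n + 1), ← map_mul, hc]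
        congr 1
        rw [mul_comm, inv_mul_cancel_right]
      have h2 : σ ((σ ^ (n + 1)) y) = (σ ^ (n + 1 + 1)) y := by rw [pow_succ' σ (n + 1), MulAut.mul_apply]
      have h3 : σ ((σ⁻¹ ^ (n + 1)) y) = (σ⁻¹ ^ n) y := by
        rw [pow_succ', MulAut.mul_apply, MulAut.apply_inv_self]
      have h4 : z * (σ ^ (n + 1)) y * τ (z * (σ ^ (n + 1)) y) * y =
          (z * τ z * y) * (σ ^ (n + 1)) y * (σ⁻¹ ^ (n + 1)) y * c := by
        rw [map_mul, h1]
        ac_rfl
      rw [h4, map_mul, map_mul, map_mul, h2, h3, hy]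
      calc σ (z * τ z * y) * (σ ^ (n + 1 + 1)) y * (σ⁻¹ ^ n) y * c * (σ⁻¹ ^ (n + 1)) y
          = (σ (z * τ z * y) * (σ⁻¹ ^ n) y) * (σ ^ (n + 1 + 1)) y * c * (σ⁻¹ ^ (n + 1)) y := by ac_rfl
        _ = _ := by rw [hz]; ac_rfl
  obtain ⟨z, hz⟩ := key h
  have h5 : σ⁻¹ ^ h = σ ^ (h + 1) := by
    rw [inv_pow, inv_eq_iff_mul_eq_one, ← pow_add, ← hσ]
    congr 1
    ring
  rw [h5] at hz
  exact ⟨z, mul_right_cancel hz⟩

end Cfsg.Agent.FS.Th
end

-- part: FS/Th/Ess
section
/-!
# Essential subgroups: SE, NP, E1 (helper79, project FS)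

`Ctx F p P D`: `P` is fully normalized and `D` is a subgroup of `Aut(P)` containing every element of `Aut_F(P)` that
extends to a larger subgroup.  (For an essential `P` there is such a `D` not containing `Aut_F(P)`; `Failure` gives one.)

* `Ctx.mem_of_conj` (SE): `α c_g α⁻¹ ∈ D`, `g ∈ S \ P` ⇒ `α ∈ D`.
* `Ctx.mem_of_normalized` (NP): a `p`-subgroup of `Aut_F(P)` normalized by `L ≰ D` contains `c_g` only for `g ∈ P`.
* `Ctx.mem_of_chain`, `mem_of_chain` (E1): `g` stabilizing an invariant chain from a nongenerating subgroup up to `P`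
  lies in `P`.
-/

set_option autoImplicit false

namespace Cfsg.Agent.FS.Th

open Cfsg Cfsg.FusionSystem Cfsg.Agent.H802 Cfsg.Agent.H752

universe u v

variable {Ω : Type u} [Group Ω] {S : Subgroup Ω}

/-- The standing hypotheses at a fully normalized subgroup `P` with a subgroup `D` of `Aut(P)` containing the
extendable automorphisms. -/
structure Ctx (F : FusionSystem S) (p : ℕ) (P : Subgroup Ω) (D : Subgroup (MulAut P)) : Prop where
  pg : IsPGroup p S
  sat : F.IsSaturated p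
  fn : F.IsFullyNormalized P
  ext : ∀ α ∈ F.autGroup P, Extends F P α → α ∈ D

theorem Failure.ctx {p : ℕ} (hS : IsPGroup p S) {F : FusionSystem S} (hF : F.IsSaturated p)
    {M : Subgroup Ω → (Ω → Ω) → Prop} {P : Subgroup Ω} {H : Subgroup (MulAut P)} (h : Failure F p M P H) :
    Ctx F p P H := ⟨hS, hF, h.ess.2.1, h.ext⟩

theorem exists_ctx {p : ℕ} [Fact p.Prime] [Finite S] (hS : IsPGroup p S) {F : FusionSystem S} (hF : F.IsSaturated p)
    {P : Subgroup Ω} (hP : F.IsEssential p P) :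
    ∃ D : Subgroup (MulAut P), Ctx F p P D ∧ D ≤ F.autGroup P ∧ ¬ F.autGroup P ≤ D := by
  obtain ⟨D, h1, h2, h3⟩ := exists_proper_of_isEssential hS hF hP
  exact ⟨D, ⟨hS, hF, hP.2.1, h3⟩, h1, fun h => h2 (le_antisymm h1 h)⟩

theorem finite_aut [Finite S] {P : Subgroup Ω} (hP : P ≤ S) : Finite (MulAut P) := by
  have := finite_of_le hP
  exact Finite.of_injective (fun α : MulAut P => (α : P → P)) DFunLike.coe_injective

theorem isPGroup_zpowers_of_pow {A : Type*} [Group A] {p k : ℕ} {a : A} (h : a ^ p ^ k = 1) :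
    IsPGroup p (Subgroup.zpowers a) := by
  rintro ⟨b, hb⟩
  obtain ⟨m, rfl⟩ := Subgroup.mem_zpowers_iff.1 hb
  refine ⟨k, Subtype.ext ?_⟩
  show (a ^ m) ^ p ^ k = 1
  rw [← zpow_natCast, ← zpow_mul, mul_comm, zpow_mul, zpow_natCast, h, one_zpow]

namespace Ctx

variable {p : ℕ} [Fact p.Prime] [Finite S] {F : FusionSystem S} {P : Subgroup Ω} {D : Subgroup (MulAut P)}

omit [Fact p.Prime] [Finite S] in
theorem le (h : Ctx F p P D) : P ≤ S := h.fn.1

omit [Fact p.Prime] [Finite S] in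
theorem mono (h : Ctx F p P D) {D' : Subgroup (MulAut P)} (hD : D ≤ D') : Ctx F p P D' :=
  ⟨h.pg, h.sat, h.fn, fun α hα he => hD (h.ext α hα he)⟩

theorem autS_le (h : Ctx F p P D) (hne : P ≠ S) : autInducedBy S P ≤ D := fun _ hα =>
  h.ext _ (autInducedBy_le_autGroup F h.le hα) (extends_of_mem_autInducedBy h.pg F h.le hne hα)

/-- Sylow's theorem in a subgroup `B` between `Aut_S(P)` and `Aut_F(P)`. -/
theorem exists_conj_le (h : Ctx F p P D) {B N : Subgroup (MulAut P)} (hSB : autInducedBy S P ≤ B)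
    (hBA : B ≤ F.autGroup P) (hNB : N ≤ B) (hN : IsPGroup p N) :
    ∃ d ∈ B, ∀ δ ∈ N, d * δ * d⁻¹ ∈ autInducedBy S P := by
  have := finite_aut h.le
  let R : Sylow p B := ⟨(autInducedBy S P).subgroupOf B,
    (isPGroup_autInducedBy h.pg P).comap_of_injective _ (Subgroup.subtype_injective _), fun {Q} hQ hle => by
      refine le_antisymm (fun x hx => ?_) hle
      refine le_autInducedBy_of_isPGroup h.pg h.sat h.fn (B := Q.map B.subtype)
        ((Subgroup.map_subtype_le Q).trans hBA) (hQ.map _) (fun δ hδ => ⟨⟨δ, hSB hδ⟩, hle hδ, rfl⟩) ⟨x, hx, rfl⟩⟩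
  obtain ⟨R', hR'⟩ := (hN.comap_of_injective B.subtype (Subgroup.subtype_injective _)).exists_le_sylow
  obtain ⟨c, hc⟩ := MulAction.exists_smul_eq B R' R
  refine ⟨c, c.2, fun δ hδ => ?_⟩
  have h3 : c * ⟨δ, hNB hδ⟩ * c⁻¹ ∈ (R : Subgroup B) := by
    rw [← hc]
    exact Subgroup.smul_mem_pointwise_smul _ (MulAut.conj c) (R' : Subgroup B) (hR' hδ)
  exact h3

/-- **SE.** -/
theorem mem_of_conj (h : Ctx F p P D) {α γ : MulAut P} (hα : α ∈ F.autGroup P) {g : Ω} (hg : g ∈ S) (hgP : g ∉ P)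
    (hγ : ∀ x : P, ((γ x : P) : Ω) = g * x * g⁻¹) (hc : α * γ * α⁻¹ ∈ D) : α ∈ D := by
  have hne : P ≠ S := fun he => hgP (he ▸ hg)
  have hγS : γ ∈ autInducedBy S P := conj_mem_autInducedBy hg hγ
  have hγA : γ ∈ F.autGroup P := autInducedBy_le_autGroup F h.le hγS
  have hδA : α * γ * α⁻¹ ∈ F.autGroup P :=
    Subgroup.mul_mem _ (Subgroup.mul_mem _ hα hγA) (Subgroup.inv_mem _ hα)
  obtain ⟨k, hk⟩ := isPGroup_autInducedBy h.pg P ⟨γ, hγS⟩
  have hk' : γ ^ p ^ k = 1 := congrArg Subtype.val hk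
  obtain ⟨d, hd, h1⟩ := h.exists_conj_le (B := D ⊓ F.autGroup P) (N := Subgroup.zpowers (α * γ * α⁻¹))
    (le_inf (h.autS_le hne) (autInducedBy_le_autGroup F h.le)) inf_le_right
    (Subgroup.zpowers_le.2 ⟨hc, hδA⟩) (isPGroup_zpowers_of_pow (k := k) (by rw [conj_pow, hk']; simp))
  have h2 : (d * α) * γ * (d * α)⁻¹ ∈ autInducedBy S P := by
    have h3 : (d * α) * γ * (d * α)⁻¹ = d * (α * γ * α⁻¹) * d⁻¹ := by group
    rw [h3]
    exact h1 _ (Subgroup.mem_zpowers _)
  have h4 : d * α ∈ F.autGroup P := Subgroup.mul_mem _ hd.2 hα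
  have h5 := h.ext _ h4 (extends_of_conj_mem (isReceptive_of_isFullyNormalized h.pg h.sat h.fn) h4 hg hgP hγ h2)
  exact (D.mul_mem_cancel_left hd.1).1 h5

/-- **NP.** -/
theorem mem_of_normalized (h : Ctx F p P D) {α : MulAut P} (hα : α ∈ F.autGroup P) (hαD : α ∉ D)
    {N : Subgroup (MulAut P)} (hNA : N ≤ F.autGroup P) (hN : IsPGroup p N) {γ : MulAut P} {g : Ω} (hg : g ∈ S)
    (hγ : ∀ x : P, ((γ x : P) : Ω) = g * x * g⁻¹) (hγN : γ ∈ N) (hαN : α * γ * α⁻¹ ∈ N) : g ∈ P := by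
  by_contra hgP
  have hne : P ≠ S := fun he => hgP (he ▸ hg)
  obtain ⟨a, ha, h1⟩ := h.exists_conj_le (autInducedBy_le_autGroup F h.le) le_rfl hNA hN
  have h2 : a ∈ D := h.mem_of_conj ha hg hgP hγ (h.autS_le hne (h1 γ hγN))
  have h3 : a * α ∈ D := h.mem_of_conj (Subgroup.mul_mem _ ha hα) hg hgP hγ (by
    have h4 : a * α * γ * (a * α)⁻¹ = a * (α * γ * α⁻¹) * a⁻¹ := by group
    rw [h4]
    exact h.autS_le hne (h1 _ hαN))
  exact hαD ((D.mul_mem_cancel_left h2).1 h3)

end Ctx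

/-- `K` is nongenerating in `P`. -/
def NonGen (P K : Subgroup Ω) : Prop := ∀ M : Subgroup Ω, M ≤ P → P ≤ M ⊔ K → P ≤ M

theorem NonGen.mono {P K K' : Subgroup Ω} (h : NonGen P K) (hle : K' ≤ K) : NonGen P K' :=
  fun M hM h1 => h M hM (h1.trans (sup_le_sup_left hle M))

theorem nonGen_bot (P : Subgroup Ω) : NonGen P ⊥ := fun M _ h => by rwa [sup_bot_eq] at h

theorem nonGen_sub {P K : Subgroup Ω} (hKP : K ≤ P) (h : NonGen P K) (M : Subgroup P)
    (hM : M ⊔ K.subgroupOf P = ⊤) : M = ⊤ := by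
  have h1 := h (M.map P.subtype) (Subgroup.map_subtype_le M) (by
    have h2 := congrArg (Subgroup.map P.subtype) hM
    rw [Subgroup.map_sup, Subgroup.subgroupOf_map_subtype, inf_eq_left.2 hKP, ← MonoidHom.range_eq_map,
      Subgroup.range_subtype] at h2
    exact h2.ge)
  refine top_le_iff.1 fun x _ => ?_
  obtain ⟨y, hy, h2⟩ := h1 x.2
  rw [← Subtype.ext h2]
  exact hy

theorem nonGen_of_sub {P K : Subgroup Ω} (hKP : K ≤ P)
    (h : ∀ M : Subgroup P, M ⊔ K.subgroupOf P = ⊤ → M = ⊤) : NonGen P K := by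
  intro M hM h1
  have h2 := h (M.subgroupOf P) (by
    rw [← Subgroup.subgroupOf_sup hM hKP]
    exact Subgroup.subgroupOf_eq_top.2 h1)
  exact Subgroup.subgroupOf_eq_top.1 h2

/-- In a finite `2`-group `P` the subgroup generated by the squares is nongenerating. -/
theorem nonGen_sq {P : Subgroup Ω} [Finite P] (hP : IsPGroup 2 P) :
    NonGen P (Subgroup.closure {y | ∃ a ∈ P, y = a * a}) := by
  have hle : Subgroup.closure {y | ∃ a ∈ P, y = a * a} ≤ P := by
    rw [Subgroup.closure_le]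
    rintro _ ⟨a, ha, rfl⟩
    exact P.mul_mem ha ha
  refine nonGen_of_sub hle (nonGen_of_sq hP fun x hx => ?_)
  have h1 : Subgroup.closure {y | ∃ a ∈ P, y = a * a} ≤
      (Subgroup.closure {y : P | ∃ a, y = a * a}).map P.subtype := by
    rw [Subgroup.closure_le]
    rintro _ ⟨a, ha, rfl⟩
    exact ⟨⟨a, ha⟩ * ⟨a, ha⟩, Subgroup.subset_closure ⟨_, rfl⟩, rfl⟩
  obtain ⟨y, hy, h2⟩ := h1 hx
  rw [← Subtype.ext h2]
  exact hy

namespace Ctx

variable {p : ℕ} [Fact p.Prime] [Finite S] {F : FusionSystem S} {P : Subgroup Ω} {D : Subgroup (MulAut P)}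

/-- **E1, strong form.**  The chain only has to be invariant under one `α ∈ Aut_F(P) \ D` and under `g`. -/
theorem mem_of_chain (h : Ctx F p P D) {α : MulAut P} (hα : α ∈ F.autGroup P) (hαD : α ∉ D)
    {g : Ω} (hg : g ∈ S) {K : ℕ → Subgroup Ω} {m : ℕ} (hKP : ∀ i, K i ≤ P) (htop : K m = P) (h0 : NonGen P (K 0))
    (hαK : ∀ i, ∀ x ∈ K i, Th.fn α x ∈ K i) (hgK : ∀ i, ∀ x ∈ K i, g * x * g⁻¹ ∈ K i)
    (hstep : ∀ i < m, ∀ x ∈ K (i + 1), g * x * g⁻¹ * x⁻¹ ∈ K i) : g ∈ P := by
  have := finite_of_le h.le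
  have hgN : g ∈ Subgroup.normalizer (P : Set Ω) :=
    Subgroup.mem_normalizer_fintype (fun x hx => by
      have := hgK m x (htop ▸ hx)
      rwa [htop] at this)
  obtain ⟨γ, hγ⟩ := exists_conjAut hgN
  have hγA : γ ∈ F.autGroup P := autInducedBy_le_autGroup F h.le (conj_mem_autInducedBy hg hγ)
  let K' : ℕ → Subgroup P := fun i => (K i).subgroupOf P
  have hst : IsPGroup p (chainStab K' m) := isPGroup_chainStab (h.pg.to_le h.le |>.of_equiv (by
      exact MulEquiv.refl _)) (by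
    show (K m).subgroupOf P = ⊤
    rw [htop, Subgroup.subgroupOf_self]) (nonGen_sub (hKP 0) h0)
  have hγK : γ ∈ chainStab K' m := mem_chainStab (fun i x hx => by
      show ((γ x : P) : Ω) ∈ K i
      rw [hγ]
      exact hgK i x hx) (fun i hi x hx => by
      show ((γ x : P) : Ω) * (x : Ω)⁻¹ ∈ K i
      rw [hγ]
      exact hstep i hi x hx)
  have hαK' : ∀ i x, α x ∈ K' i ↔ x ∈ K' i := fun i => iff_of_mapsTo fun x hx => by
    have h1 := hαK i x hx
    rwa [fn_apply α x.2] at h1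
  exact h.mem_of_normalized hα hαD (N := chainStab K' m ⊓ F.autGroup P) inf_le_right
    (hst.to_inf_left) hg hγ ⟨hγK, hγA⟩ ⟨conj_mem_chainStab hαK' hγK,
      Subgroup.mul_mem _ (Subgroup.mul_mem _ hα hγA) (Subgroup.inv_mem _ hα)⟩

end Ctx

/-- **E1.**  `P` essential, `g ∈ N_S(P)`, a chain of `Aut_F(P)`-invariant subgroups from a nongenerating subgroup to
`P` stabilized by `g`.  Then `g ∈ P`. -/
theorem mem_of_chain {p : ℕ} [Fact p.Prime] [Finite S] (hS : IsPGroup p S) {F : FusionSystem S}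
    (hF : F.IsSaturated p) {P : Subgroup Ω} (hP : F.IsEssential p P) {g : Ω} (hg : g ∈ S)
    (hgP : ∀ x ∈ P, g * x * g⁻¹ ∈ P) {K : ℕ → Subgroup Ω} {m : ℕ} (hKP : ∀ i, K i ≤ P) (htop : K m = P)
    (h0 : NonGen P (K 0)) (hK : ∀ f : Ω → Ω, Mp F P f → (∀ x ∈ P, f x ∈ P) → ∀ i, ∀ x ∈ K i, f x ∈ K i)
    (hstep : ∀ i < m, ∀ x ∈ K (i + 1), g * x * g⁻¹ * x⁻¹ ∈ K i) : g ∈ P := by
  obtain ⟨D, hD, -, hne⟩ := exists_ctx hS hF hP
  obtain ⟨α, hα, hαD⟩ := SetLike.not_le_iff_exists.1 hne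
  exact hD.mem_of_chain hα hαD hg hKP htop h0 (hK _ (mp_fn hD.le hα) (fun x hx => fn_mem α hx))
    (hK _ (mp_conj F hD.le hg) hgP) hstep

end Cfsg.Agent.FS.Th
end

-- part: FS/Th/Dih
section
/-!
# Dihedral pairs at an essential subgroup (E2) and generation (E3) (helper79, project FS)

* `Dih F P D t r α`: `α ∈ Aut_F(P) \ D` of odd prime power order `r ^ k`, `α ^ r ∈ D`, inverted by `c_t`
  (`t ∈ N_S(P) \ P`, `t² ∈ P`) and fixing `t²`.
* `Ctx.exists_dih` (E2): every coset `P t` with `t² ∈ P` contains such a `t'`.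
* `le_of_dih` (E3): a system containing `Aut_F(S)` and all these `α` contains `F`.
* `dih_failure`: the first failure principle with the dihedral data.
-/

set_option autoImplicit false

namespace Cfsg.Agent.FS.Th

open Cfsg Cfsg.FusionSystem Cfsg.Agent.H802 Cfsg.Agent.H752

universe u v

section pure

variable {G : Type u} [Group G]

theorem dihedral_pow {x y : G} (hx : x * x = 1) (hy : y * y = 1) (m : ℕ) :
    (x * y) ^ m * x * (x * y) ^ m * x⁻¹ = 1 := by
  have h1 : x * (x * y) * x⁻¹ = (x * y)⁻¹ := by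
    rw [← mul_assoc, hx, one_mul, mul_inv_rev, inv_eq_of_mul_eq_one_right hy]
  have h2 : x * (x * y) ^ m * x⁻¹ = ((x * y) ^ m)⁻¹ := by rw [← conj_pow, h1, inv_pow]
  calc (x * y) ^ m * x * (x * y) ^ m * x⁻¹ = (x * y) ^ m * (x * (x * y) ^ m * x⁻¹) := by simp only [mul_assoc]
    _ = 1 := by rw [h2, mul_inv_cancel]

open scoped IsMulCommutative in
/-- `τ` inverts `σ` (of odd prime power order), `τ² = c_s`, `τ s = s`: after multiplying by a central element the
"square" is fixed by `σ`. -/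
theorem exists_central_fixed [Finite G] (hG : IsPGroup 2 G) {σ τ : MulAut G} {r k : ℕ} (hr : r.Prime) (hr2 : r ≠ 2)
    (hσ : σ ^ r ^ k = 1) (hτ : τ * σ * τ⁻¹ = σ⁻¹) {s : G} (hs : τ * τ = MulAut.conj s) (hτs : τ s = s) :
    ∃ z ∈ Subgroup.center G, σ (z * τ z * s) = z * τ z * s := by
  have : Fact (Nat.Prime 2) := ⟨Nat.prime_two⟩
  have hτσ : τ * σ = σ⁻¹ * τ := by rw [← hτ, inv_mul_cancel_right]
  have hτ' : τ * σ⁻¹ * τ⁻¹ = σ := by
    have h1 := congrArg (·⁻¹) hτ
    simp only [mul_inv_rev, inv_inv] at h1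
    rw [mul_assoc]
    exact h1
  have hστ : σ * τ = τ * σ⁻¹ := by
    calc σ * τ = σ * (σ⁻¹ * τ * σ⁻¹) := by rw [← hτσ, mul_inv_cancel_right]
      _ = τ * σ⁻¹ := by group
  have hcomm : σ * (τ * τ) = τ * τ * σ := by
    calc σ * (τ * τ) = τ * (σ⁻¹ * τ) := by rw [← mul_assoc, hστ, mul_assoc]
      _ = τ * τ * σ := by rw [← hτσ, mul_assoc]
  have hZ : ∀ (α : MulAut G), ∀ x ∈ Subgroup.center G, α x ∈ Subgroup.center G := fun α x hx =>
    (MulAut.characteristic (Subgroup.center G) α ⟨x, hx⟩).2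
  have h1 : σ s * s⁻¹ ∈ Subgroup.center G := by
    rw [Subgroup.mem_center_iff]
    intro g
    have h2 := congrArg (fun α : MulAut G => α (σ⁻¹ (s⁻¹ * g * s))) hcomm
    simp only [hs, MulAut.mul_apply, MulAut.conj_apply, MulAut.apply_inv_self] at h2
    rw [map_mul, map_mul, map_inv, MulAut.apply_inv_self] at h2
    have h3 : σ s * (s⁻¹ * g * s) * (σ s)⁻¹ = g := by
      have h4 : s * (s⁻¹ * g * s) * s⁻¹ = g := by group
      rw [h4] at h2
      exact h2
    calc g * (σ s * s⁻¹) = (σ s * (s⁻¹ * g * s) * (σ s)⁻¹) * (σ s * s⁻¹) := by rw [h3]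
      _ = σ s * s⁻¹ * g := by group
  obtain ⟨s₀, h2, h3⟩ := exists_fixed_coset hr hσ
    (not_dvd_card_of_isPGroup hr hr2 (hG.to_subgroup (Subgroup.center G))) (hZ σ) h1
  have h4 : σ (τ s₀) = τ s₀ := by
    have h5 : σ⁻¹ s₀ = s₀ := by
      conv_lhs => rw [← h3]
      rw [MulAut.inv_apply_self]
    rw [← MulAut.mul_apply, hστ, MulAut.mul_apply, h5]
  let y : Subgroup.center G := ⟨(s₀ * s⁻¹)⁻¹, Subgroup.inv_mem _ h2⟩
  have hy : s = y * s₀ := by
    show s = (s₀ * s⁻¹)⁻¹ * s₀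
    group
  obtain ⟨h, hh⟩ : Odd (r ^ k) := (hr.odd_of_ne_two hr2).pow
  obtain ⟨z, hz⟩ := exists_norm_fixed (σ := MulAut.characteristic (Subgroup.center G) σ)
    (τ := MulAut.characteristic (Subgroup.center G) τ) (h := h) (by rw [← map_pow, ← hh, hσ, map_one])
    (by rw [← map_mul, ← map_inv, ← map_mul, hτσ]) (y := y) (by
      apply Subtype.ext
      show σ (τ y * (y : G)⁻¹) = τ y * (y : G)⁻¹
      have h5 : τ y * τ s₀ = y * s₀ := by rw [← map_mul, ← hy, hτs]
      have h6 : τ y * (y : G)⁻¹ = s₀ * (τ s₀)⁻¹ := by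
        rw [Subgroup.mem_center_iff.1 (Subgroup.inv_mem _ y.2) (τ y)]
        calc (y : G)⁻¹ * τ y = (y : G)⁻¹ * (τ y * τ s₀) * (τ s₀)⁻¹ := by group
          _ = s₀ * (τ s₀)⁻¹ := by rw [h5]; group
      rw [h6, map_mul, map_inv, h3, h4])
  have hz' : σ (z * τ z * y) = z * τ z * y := congrArg Subtype.val hz
  refine ⟨z, z.2, ?_⟩
  rw [hy, ← mul_assoc, map_mul, hz', h3]

end pure

variable {Ω : Type u} [Group Ω] {S : Subgroup Ω}

/-- The data of E2. -/
structure Dih (F : FusionSystem S) (P : Subgroup Ω) (D : Subgroup (MulAut P)) (t : Ω) (r : ℕ) (α : MulAut P) :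
    Prop where
  mem : α ∈ F.autGroup P
  notMem : α ∉ D
  prime : r.Prime
  ne_two : r ≠ 2
  ord : ∃ k, orderOf α = r ^ k
  pow_mem : α ^ r ∈ D
  tS : t ∈ S
  tN : ∀ x ∈ P, t * x * t⁻¹ ∈ P
  tP : t ∉ P
  tsq : t * t ∈ P
  inv : ∀ x ∈ P, fn α (t * fn α x * t⁻¹) = t * x * t⁻¹
  fix : fn α (t * t) = t * t

theorem mem_normalizer_of_mapsTo [Finite S] {P : Subgroup Ω} (hP : P ≤ S) {t : Ω}
    (h : ∀ x ∈ P, t * x * t⁻¹ ∈ P) : t ∈ Subgroup.normalizer (P : Set Ω) := by
  have := finite_of_le hP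
  exact Subgroup.mem_normalizer_fintype h

/-- **E2**, with the position of `α`: for any `a ∈ Aut_F(P) \ D`, `α` is a power of `c_t · a c_t a⁻¹`. -/
theorem Ctx.exists_dih' [Finite S] {F : FusionSystem S} {P : Subgroup Ω} {D : Subgroup (MulAut P)}
    (h : Ctx F 2 P D) {a : MulAut P} (ha : a ∈ F.autGroup P) (haD : a ∉ D) {t : Ω} (htS : t ∈ S) (htP : t ∉ P)
    (htt : t * t ∈ P) {τ : MulAut P} (hτ : ∀ x : P, ((τ x : P) : Ω) = t * x * t⁻¹) :
    ∃ y ∈ P, ∃ (r m : ℕ), Dih F P D (y * t) r ((τ * (a * τ * a⁻¹)) ^ m) := by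
  have : Fact (Nat.Prime 2) := ⟨Nat.prime_two⟩
  have := finite_of_le h.le
  have := finite_aut h.le
  have hne : P ≠ S := fun he => htP (he ▸ htS)
  have hτS : τ ∈ autInducedBy S P := conj_mem_autInducedBy htS hτ
  have hτA : τ ∈ F.autGroup P := autInducedBy_le_autGroup F h.le hτS
  have hτD : τ ∈ D := h.autS_le hne hτS
  have hID : Inn P ≤ D := (inn_le_autInducedBy h.le).trans (h.autS_le hne)
  have hττ : τ * τ = MulAut.conj (⟨t * t, htt⟩ : P) := by
    ext x
    rw [MulAut.mul_apply, hτ, hτ]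
    simp only [MulAut.conj_apply, Subgroup.coe_mul, Subgroup.coe_inv]
    group
  have hρA : τ * (a * τ * a⁻¹) ∈ F.autGroup P :=
    Subgroup.mul_mem _ hτA (Subgroup.mul_mem _ (Subgroup.mul_mem _ ha hτA) (Subgroup.inv_mem _ ha))
  have hρD : τ * (a * τ * a⁻¹) ∉ D := fun h1 =>
    haD (h.mem_of_conj ha htS htP hτ ((D.mul_mem_cancel_left hτD).1 h1))
  obtain ⟨r, k, m, hr, hord, hσD, hσr⟩ := exists_primePow_not_mem D _ _ rfl hρD
  set σ := (τ * (a * τ * a⁻¹)) ^ m with hσ
  have hσA : σ ∈ F.autGroup P := Subgroup.pow_mem _ hρA m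
  have hinn : σ * τ * σ * τ⁻¹ ∈ Inn P := by
    rw [← QuotientGroup.eq_one_iff]
    have h1 : (QuotientGroup.mk' (Inn P) τ) * (QuotientGroup.mk' (Inn P) τ) = 1 := by
      rw [← map_mul, hττ]
      exact (QuotientGroup.eq_one_iff _).2 ⟨_, rfl⟩
    have h2 : (QuotientGroup.mk' (Inn P) (a * τ * a⁻¹)) * (QuotientGroup.mk' (Inn P) (a * τ * a⁻¹)) = 1 := by
      have h3 : a * τ * a⁻¹ * (a * τ * a⁻¹) = a * (τ * τ) * a⁻¹ := by group
      rw [← map_mul, h3, map_mul, map_mul, map_mul, h1, mul_one, ← map_mul, mul_inv_cancel, map_one]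
    have h3 := dihedral_pow h1 h2 m
    rw [← map_mul, ← map_pow, ← map_inv, ← map_mul, ← map_mul, ← map_mul] at h3
    exact h3
  have hr2 : r ≠ 2 := by
    rintro rfl
    refine hσD (h.mem_of_conj hσA htS htP hτ ?_)
    have h1 : σ * τ * σ⁻¹ = (σ * (σ * τ * σ * τ⁻¹)⁻¹ * σ⁻¹) * σ ^ 2 * τ := by
      rw [pow_two]
      have h2 : τ * σ⁻¹ = (σ * τ * σ * τ⁻¹)⁻¹ * σ * τ := by group
      calc σ * τ * σ⁻¹ = σ * (τ * σ⁻¹) := mul_assoc _ _ _
        _ = σ * ((σ * τ * σ * τ⁻¹)⁻¹ * σ * τ) := by rw [← h2]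
        _ = _ := by group
    rw [h1]
    exact D.mul_mem (D.mul_mem (hID (Subgroup.Normal.conj_mem inferInstance _ (Subgroup.inv_mem _ hinn) σ)) hσr) hτD
  have hσk : σ ^ r ^ k = 1 := by rw [← hord, pow_orderOf_eq_one]
  obtain ⟨_, ⟨y, rfl⟩, h1⟩ := exists_inverting hr hσk (not_dvd_card_of_isPGroup hr hr2
    ((isPGroup_autInducedBy h.pg P).to_le (inn_le_autInducedBy h.le))) hinn
  set τ₁ := MulAut.conj y * τ with hτ₁
  have hτ₁x : ∀ x : P, ((τ₁ x : P) : Ω) = (y * t) * x * ((y : Ω) * t)⁻¹ := by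
    intro x
    rw [hτ₁, MulAut.mul_apply]
    simp only [MulAut.conj_apply, Subgroup.coe_mul, Subgroup.coe_inv, hτ]
    group
  have htN : ∀ x ∈ P, t * x * t⁻¹ ∈ P := fun x hx => by
    rw [← hτ ⟨x, hx⟩]
    exact (τ _).2
  have hs : (y : Ω) * t * (y * t) ∈ P := by
    have h2 : (y : Ω) * t * (y * t) = y * (t * y * t⁻¹) * (t * t) := by group
    rw [h2]
    exact P.mul_mem (P.mul_mem y.2 (htN y y.2)) htt
  obtain ⟨z, hz, h2⟩ := exists_central_fixed (h.pg.to_le h.le |>.of_equiv (by exact MulEquiv.refl _)) hr hr2 hσk h1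
    (s := ⟨_, hs⟩) (by
      ext x
      rw [MulAut.mul_apply, hτ₁x, hτ₁x]
      simp only [MulAut.conj_apply, Subgroup.coe_mul, Subgroup.coe_inv]
      group) (by
      apply Subtype.ext
      rw [hτ₁x]
      group)
  have hzc : ∀ x ∈ P, (z : Ω) * x * (z : Ω)⁻¹ = x := fun x hx => by
    have h3 : x * (z : Ω) = z * x := congrArg Subtype.val (Subgroup.mem_center_iff.1 hz ⟨x, hx⟩)
    rw [← h3, mul_inv_cancel_right]
  have hconj : ∀ x : P, ((z : Ω) * y * t) * x * ((z : Ω) * y * t)⁻¹ = (τ₁ x : P) := fun x => by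
    rw [← hzc _ (τ₁ x).2, hτ₁x]
    group
  have hsq : ((z : Ω) * y * t) * ((z : Ω) * y * t) = ((z * τ₁ z * ⟨_, hs⟩ : P) : Ω) := by
    simp only [Subgroup.coe_mul, hτ₁x]
    group
  refine ⟨z * y, P.mul_mem z.2 y.2, r, m, hσA, hσD, hr, hr2, ⟨k, hord⟩, hσr,
    S.mul_mem (h.le (P.mul_mem z.2 y.2)) htS, fun x hx => ?_,
    fun h3 => htP ((P.mul_mem_cancel_left (P.mul_mem z.2 y.2)).1 h3), ?_, fun x hx => ?_, ?_⟩
  · rw [hconj ⟨x, hx⟩]
    exact (τ₁ _).2
  · rw [hsq]
    exact Subtype.prop _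
  · rw [fn_apply σ hx, hconj, hconj ⟨x, hx⟩, fn_apply σ (τ₁ _).2]
    have h3 : σ * τ₁ * σ = τ₁ := by
      calc σ * τ₁ * σ = σ * (τ₁ * σ * τ₁⁻¹) * τ₁ := by group
        _ = τ₁ := by rw [h1]; group
    conv_rhs => rw [← h3]
    rfl
  · rw [hsq, fn_apply σ (Subtype.prop _)]
    exact congrArg Subtype.val h2

/-- **E2.** -/
theorem Ctx.exists_dih [Finite S] {F : FusionSystem S} {P : Subgroup Ω} {D : Subgroup (MulAut P)}
    (h : Ctx F 2 P D) (hne : ¬ F.autGroup P ≤ D) {t : Ω} (htS : t ∈ S) (htN : ∀ x ∈ P, t * x * t⁻¹ ∈ P)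
    (htP : t ∉ P) (htt : t * t ∈ P) : ∃ y ∈ P, ∃ (r : ℕ) (α : MulAut P), Dih F P D (y * t) r α := by
  obtain ⟨a, ha, haD⟩ := SetLike.not_le_iff_exists.1 hne
  obtain ⟨τ, hτ⟩ := exists_conjAut (mem_normalizer_of_mapsTo h.le htN)
  obtain ⟨y, hy, r, m, h1⟩ := h.exists_dih' ha haD htS htP htt hτ
  exact ⟨y, hy, r, _, h1⟩

/-- A proper subgroup `P` of the finite `2`-group `S` is normalized by some `t ∈ S \ P` with `t² ∈ P`. -/
theorem exists_sq_mem [Finite S] (hS : IsPGroup 2 S) {P : Subgroup Ω} (hP : P ≤ S) (hne : P ≠ S) :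
    ∃ t ∈ S, (∀ x ∈ P, t * x * t⁻¹ ∈ P) ∧ t ∉ P ∧ t * t ∈ P := by
  have : Fact (Nat.Prime 2) := ⟨Nat.prime_two⟩
  obtain ⟨g, hg, hgP⟩ := SetLike.exists_of_lt (lt_inf_normalizer hS hP le_rfl hne)
  obtain ⟨k, hk⟩ := hS ⟨g, hg.1⟩
  have hk' : g ^ 2 ^ k ∈ P := by
    have h1 : g ^ 2 ^ k = 1 := congrArg Subtype.val hk
    rw [h1]
    exact P.one_mem
  clear hk
  induction k generalizing g with
  | zero => exact absurd (by simpa using hk') hgP
  | succ k ih =>
    by_cases h1 : g * g ∈ P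
    · exact ⟨g, hg.1, fun x hx => (Subgroup.mem_normalizer_iff.1 hg.2 x).1 hx, hgP, h1⟩
    · refine ih (g * g) (Subgroup.mul_mem _ hg hg) h1 ?_
      rwa [← pow_two, ← pow_mul, ← pow_succ']

/-- E2 without a prescribed coset. -/
theorem Ctx.exists_dih₀ [Finite S] {F : FusionSystem S} {P : Subgroup Ω} {D : Subgroup (MulAut P)}
    (h : Ctx F 2 P D) (hne : ¬ F.autGroup P ≤ D) (hPS : P ≠ S) :
    ∃ (t : Ω) (r : ℕ) (α : MulAut P), Dih F P D t r α := by
  obtain ⟨t, h1, h2, h3, h4⟩ := exists_sq_mem h.pg h.le hPS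
  obtain ⟨y, -, r, α, h5⟩ := h.exists_dih hne h1 h2 h3 h4
  exact ⟨_, r, α, h5⟩

/-- At a first failure every coset `P t` (`t ∈ N_S(P) \ P`, `t² ∈ P`) contains a dihedral datum. -/
theorem Failure.exists_dih [Finite S] (hS : IsPGroup 2 S) {F : FusionSystem S} (hF : F.IsSaturated 2)
    {M : Subgroup Ω → (Ω → Ω) → Prop} {P : Subgroup Ω} {H : Subgroup (MulAut P)} (h : Failure F 2 M P H)
    {t : Ω} (htS : t ∈ S) (htN : ∀ x ∈ P, t * x * t⁻¹ ∈ P) (htP : t ∉ P) (htt : t * t ∈ P) :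
    ∃ y ∈ P, ∃ (r : ℕ) (α : MulAut P), Dih F P H (y * t) r α :=
  (h.ctx hS hF).exists_dih h.not_le htS htN htP htt

theorem Failure.exists_dih₀ [Finite S] (hS : IsPGroup 2 S) {F : FusionSystem S} (hF : F.IsSaturated 2)
    {M : Subgroup Ω → (Ω → Ω) → Prop} {P : Subgroup Ω} {H : Subgroup (MulAut P)} (h : Failure F 2 M P H) :
    ∃ (t : Ω) (r : ℕ) (α : MulAut P), Dih F P H t r α := by
  have : Fact (Nat.Prime 2) := ⟨Nat.prime_two⟩
  exact (h.ctx hS hF).exists_dih₀ h.not_le (ne_of_isEssential hS hF h.ess)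

end Cfsg.Agent.FS.Th
end

-- part: FS/Th/Loc
section
/-!
# The fusion-free local datum (helper79, project FS)

`Loc P A D` in a finite `2`-group `G`: `A`, `D` subgroups of `Aut(P)` containing the automorphisms induced by
`N_G(P)`, which form a Sylow `2`-subgroup of `A`; `D` has the strong embedding property (SE); `A ≰ D`.
It holds at an essential subgroup of a saturated system over `⊤` (`Ctx.loc`), passes to subgroups of `A`
(`Loc.sub`) and to quotients of `G` (file `Level`).  Consequences: NP, E1 (`Loc.mem_of_chain`), E2 (`Loc.exists_dih`).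
-/

set_option autoImplicit false

namespace Cfsg.Agent.FS.Th

open Cfsg Cfsg.FusionSystem Cfsg.Agent.H802 Cfsg.Agent.H752

universe u v

variable {G : Type u} [Group G]

/-- `γ` is conjugation by `g` on `P`. -/
def Cj {P : Subgroup G} (g : G) (γ : MulAut P) : Prop := ∀ x : P, ((γ x : P) : G) = g * x * g⁻¹

theorem Cj.mul {P : Subgroup G} {g h : G} {γ δ : MulAut P} (h1 : Cj g γ) (h2 : Cj h δ) : Cj (g * h) (γ * δ) := by
  intro x
  rw [MulAut.mul_apply, h1, h2]
  group

theorem Cj.inv {P : Subgroup G} {g : G} {γ : MulAut P} (h1 : Cj g γ) : Cj g⁻¹ γ⁻¹ := by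
  intro x
  have h2 := h1 (γ⁻¹ x)
  rw [MulAut.apply_inv_self] at h2
  rw [h2]
  group

theorem Cj.unique {P : Subgroup G} {g : G} {γ δ : MulAut P} (h1 : Cj g γ) (h2 : Cj g δ) : γ = δ := by
  ext x
  rw [h1, h2]

theorem Cj.mapsTo {P : Subgroup G} {g : G} {γ : MulAut P} (h1 : Cj g γ) : ∀ x ∈ P, g * x * g⁻¹ ∈ P := fun x hx => by
  rw [← h1 ⟨x, hx⟩]
  exact (γ _).2

theorem Cj.fn {P : Subgroup G} {g : G} {γ : MulAut P} (h1 : Cj g γ) {x : G} (hx : x ∈ P) :
    fn γ x = g * x * g⁻¹ := by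
  rw [fn_apply _ hx, h1]

theorem cj_conj {P : Subgroup G} (y : P) : Cj (y : G) (MulAut.conj y) := fun x => by
  simp only [MulAut.conj_apply, Subgroup.coe_mul, Subgroup.coe_inv]

theorem exists_cj [Finite G] {P : Subgroup G} {g : G} (h : ∀ x ∈ P, g * x * g⁻¹ ∈ P) : ∃ γ : MulAut P, Cj g γ :=
  exists_conjAut (Subgroup.mem_normalizer_fintype h)

theorem mem_autTop_iff {P : Subgroup G} {γ : MulAut P} : γ ∈ autInducedBy ⊤ P ↔ ∃ g, Cj g γ := by
  rw [mem_autInducedBy_iff]
  exact ⟨fun ⟨g, _, h⟩ => ⟨g, h⟩, fun ⟨g, h⟩ => ⟨g, Subgroup.mem_top g, h⟩⟩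

theorem Cj.mem {P : Subgroup G} {g : G} {γ : MulAut P} (h : Cj g γ) : γ ∈ autInducedBy ⊤ P :=
  mem_autTop_iff.2 ⟨g, h⟩

/-- The local datum. -/
structure Loc (P : Subgroup G) (A D : Subgroup (MulAut P)) : Prop where
  pg : IsPGroup 2 G
  autA : autInducedBy ⊤ P ≤ A
  autD : autInducedBy ⊤ P ≤ D
  max : ∀ N : Subgroup (MulAut P), N ≤ A → IsPGroup 2 N → autInducedBy ⊤ P ≤ N → N ≤ autInducedBy ⊤ P
  se : ∀ α ∈ A, ∀ (g : G) (γ : MulAut P), g ∉ P → Cj g γ → α * γ * α⁻¹ ∈ D → α ∈ D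
  ne : ¬ A ≤ D
  proper : P ≠ ⊤

theorem Ctx.loc [Finite G] {F : FusionSystem (⊤ : Subgroup G)} {P : Subgroup G} {D : Subgroup (MulAut P)}
    (h : Ctx F 2 P D) (hne : ¬ F.autGroup P ≤ D) (hP : P ≠ ⊤) : Loc P (F.autGroup P) D := by
  have : Fact (Nat.Prime 2) := ⟨Nat.prime_two⟩
  exact ⟨h.pg.of_equiv Subgroup.topEquiv, autInducedBy_le_autGroup F le_top, h.autS_le hP,
    fun N hN hNp hle => le_autInducedBy_of_isPGroup h.pg h.sat h.fn hN hNp hle,
    fun α hα g γ hg hγ hc => h.mem_of_conj hα (Subgroup.mem_top g) hg hγ hc, hne, hP⟩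

theorem Failure.loc [Finite G] (hG : IsPGroup 2 G) {F : FusionSystem (⊤ : Subgroup G)} (hF : F.IsSaturated 2)
    {M : Subgroup G → (G → G) → Prop} {P : Subgroup G} {H : Subgroup (MulAut P)} (h : Failure F 2 M P H) :
    Loc P (F.autGroup P) H := by
  have : Fact (Nat.Prime 2) := ⟨Nat.prime_two⟩
  have hS : IsPGroup 2 (⊤ : Subgroup G) := hG.to_subgroup ⊤
  exact (h.ctx hS hF).loc h.not_le (ne_of_isEssential hS hF h.ess)

namespace Loc

variable {P : Subgroup G} {A D : Subgroup (MulAut P)}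

theorem sub (h : Loc P A D) {A' : Subgroup (MulAut P)} (h1 : autInducedBy ⊤ P ≤ A') (h2 : A' ≤ A)
    (h3 : ¬ A' ≤ D) : Loc P A' D :=
  ⟨h.pg, h1, h.autD, fun N hN => h.max N (hN.trans h2), fun α hα => h.se α (h2 hα), h3, h.proper⟩

theorem pgAut (h : Loc P A D) : IsPGroup 2 (autInducedBy ⊤ P) :=
  isPGroup_autInducedBy (h.pg.to_subgroup ⊤) P

theorem inn_le (_h : Loc P A D) : Inn P ≤ autInducedBy ⊤ P := inn_le_autInducedBy le_top

/-- An element of `G` centralizing `P` lies in `P`. -/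
theorem mem_of_centralizes (h : Loc P A D) {g : G} (hg : ∀ x ∈ P, g * x = x * g) : g ∈ P := by
  by_contra hgP
  refine h.ne fun α hα => h.se α hα g 1 hgP (fun x => ?_) (by simp)
  rw [hg x x.2, mul_inv_cancel_right]
  rfl

variable [Finite G]

theorem finAut (P : Subgroup G) : Finite (MulAut P) :=
  Finite.of_injective (fun α : MulAut P => (α : P → P)) DFunLike.coe_injective

theorem exists_conj_le (h : Loc P A D) {N : Subgroup (MulAut P)} (hNA : N ≤ A) (hN : IsPGroup 2 N) :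
    ∃ d ∈ A, ∀ δ ∈ N, d * δ * d⁻¹ ∈ autInducedBy ⊤ P := by
  have : Fact (Nat.Prime 2) := ⟨Nat.prime_two⟩
  have := finAut P
  let R : Sylow 2 A := ⟨(autInducedBy ⊤ P).subgroupOf A,
    h.pgAut.comap_of_injective _ (Subgroup.subtype_injective _), fun {Q} hQ hle => by
      refine le_antisymm (fun x hx => ?_) hle
      exact h.max (Q.map A.subtype) (Subgroup.map_subtype_le Q) (hQ.map _)
        (fun δ hδ => ⟨⟨δ, h.autA hδ⟩, hle hδ, rfl⟩) ⟨x, hx, rfl⟩⟩
  obtain ⟨R', hR'⟩ := (hN.comap_of_injective A.subtype (Subgroup.subtype_injective _)).exists_le_sylow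
  obtain ⟨c, hc⟩ := MulAction.exists_smul_eq A R' R
  refine ⟨c, c.2, fun δ hδ => ?_⟩
  have h3 : c * ⟨δ, hNA hδ⟩ * c⁻¹ ∈ (R : Subgroup A) := by
    rw [← hc]
    exact Subgroup.smul_mem_pointwise_smul _ (MulAut.conj c) (R' : Subgroup A) (hR' hδ)
  exact h3

/-- **NP.** -/
theorem mem_of_normalized (h : Loc P A D) {α : MulAut P} (hα : α ∈ A) (hαD : α ∉ D)
    {N : Subgroup (MulAut P)} (hNA : N ≤ A) (hN : IsPGroup 2 N) {γ : MulAut P} {g : G}
    (hγ : Cj g γ) (hγN : γ ∈ N) (hαN : α * γ * α⁻¹ ∈ N) : g ∈ P := by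
  by_contra hgP
  obtain ⟨a, ha, h1⟩ := h.exists_conj_le hNA hN
  have h2 : a ∈ D := h.se a ha g γ hgP hγ (h.autD (h1 γ hγN))
  have h3 : a * α ∈ D := h.se _ (Subgroup.mul_mem _ ha hα) g γ hgP hγ (by
    have h4 : a * α * γ * (a * α)⁻¹ = a * (α * γ * α⁻¹) * a⁻¹ := by group
    rw [h4]
    exact h.autD (h1 _ hαN))
  exact hαD ((D.mul_mem_cancel_left h2).1 h3)

/-- **E1.** -/
theorem mem_of_chain (h : Loc P A D) {α : MulAut P} (hα : α ∈ A) (hαD : α ∉ D)
    {g : G} {K : ℕ → Subgroup G} {m : ℕ} (hKP : ∀ i, K i ≤ P) (htop : K m = P) (h0 : NonGen P (K 0))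
    (hαK : ∀ i, ∀ x ∈ K i, fn α x ∈ K i) (hgK : ∀ i, ∀ x ∈ K i, g * x * g⁻¹ ∈ K i)
    (hstep : ∀ i < m, ∀ x ∈ K (i + 1), g * x * g⁻¹ * x⁻¹ ∈ K i) : g ∈ P := by
  have : Fact (Nat.Prime 2) := ⟨Nat.prime_two⟩
  obtain ⟨γ, hγ⟩ := exists_cj (P := P) (g := g) (fun x hx => by
    have := hgK m x (htop ▸ hx)
    rwa [htop] at this)
  have hγA : γ ∈ A := h.autA hγ.mem
  let K' : ℕ → Subgroup P := fun i => (K i).subgroupOf P
  have hst : IsPGroup 2 (chainStab K' m) := isPGroup_chainStab (h.pg.to_subgroup P) (by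
    show (K m).subgroupOf P = ⊤
    rw [htop, Subgroup.subgroupOf_self]) (nonGen_sub (hKP 0) h0)
  have hγK : γ ∈ chainStab K' m := mem_chainStab (fun i x hx => by
      show ((γ x : P) : G) ∈ K i
      rw [hγ]
      exact hgK i x hx) (fun i hi x hx => by
      show ((γ x : P) : G) * (x : G)⁻¹ ∈ K i
      rw [hγ]
      exact hstep i hi x hx)
  have hαK' : ∀ i x, α x ∈ K' i ↔ x ∈ K' i := fun i => iff_of_mapsTo fun x hx => by
    have h1 := hαK i x hx
    rwa [fn_apply α x.2] at h1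
  exact h.mem_of_normalized hα hαD (N := chainStab K' m ⊓ A) inf_le_right
    (hst.to_inf_left) hγ ⟨hγK, hγA⟩ ⟨conj_mem_chainStab hαK' hγK,
      Subgroup.mul_mem _ (Subgroup.mul_mem _ hα hγA) (Subgroup.inv_mem _ hα)⟩

end Loc

/-- The data of E2, fusion-free. -/
structure DihL (P : Subgroup G) (A D : Subgroup (MulAut P)) (t : G) (r : ℕ) (α : MulAut P) : Prop where
  mem : α ∈ A
  notMem : α ∉ D
  prime : r.Prime
  ne_two : r ≠ 2
  ord : ∃ k, α ^ r ^ k = 1
  pow_mem : α ^ r ∈ D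
  tN : ∀ x ∈ P, t * x * t⁻¹ ∈ P
  tP : t ∉ P
  tsq : t * t ∈ P
  inv : ∀ x ∈ P, fn α (t * fn α x * t⁻¹) = t * x * t⁻¹
  fix : fn α (t * t) = t * t

namespace Loc

variable [Finite G] {P : Subgroup G} {A D : Subgroup (MulAut P)}

/-- **E2**, with the position of `α`. -/
theorem exists_dih' (h : Loc P A D) {a : MulAut P} (ha : a ∈ A) (haD : a ∉ D) {t : G} (htP : t ∉ P)
    (htt : t * t ∈ P) {τ : MulAut P} (hτ : Cj t τ) :
    ∃ y ∈ P, ∃ (r m : ℕ), DihL P A D (y * t) r ((τ * (a * τ * a⁻¹)) ^ m) := by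
  have : Fact (Nat.Prime 2) := ⟨Nat.prime_two⟩
  have := finAut P
  have hτA : τ ∈ A := h.autA hτ.mem
  have hτD : τ ∈ D := h.autD hτ.mem
  have hID : Inn P ≤ D := h.inn_le.trans h.autD
  have hττ : τ * τ = MulAut.conj (⟨t * t, htt⟩ : P) := (hτ.mul hτ).unique (cj_conj ⟨t * t, htt⟩)
  have hρA : τ * (a * τ * a⁻¹) ∈ A :=
    Subgroup.mul_mem _ hτA (Subgroup.mul_mem _ (Subgroup.mul_mem _ ha hτA) (Subgroup.inv_mem _ ha))
  have hρD : τ * (a * τ * a⁻¹) ∉ D := fun h1 =>
    haD (h.se a ha t τ htP hτ ((D.mul_mem_cancel_left hτD).1 h1))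
  obtain ⟨r, k, m, hr, hord, hσD, hσr⟩ := exists_primePow_not_mem D _ _ rfl hρD
  set σ := (τ * (a * τ * a⁻¹)) ^ m with hσ
  have hσA : σ ∈ A := Subgroup.pow_mem _ hρA m
  have hinn : σ * τ * σ * τ⁻¹ ∈ Inn P := by
    rw [← QuotientGroup.eq_one_iff]
    have h1 : (QuotientGroup.mk' (Inn P) τ) * (QuotientGroup.mk' (Inn P) τ) = 1 := by
      rw [← map_mul, hττ]
      exact (QuotientGroup.eq_one_iff _).2 ⟨_, rfl⟩
    have h2 : (QuotientGroup.mk' (Inn P) (a * τ * a⁻¹)) * (QuotientGroup.mk' (Inn P) (a * τ * a⁻¹)) = 1 := by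
      have h3 : a * τ * a⁻¹ * (a * τ * a⁻¹) = a * (τ * τ) * a⁻¹ := by group
      rw [← map_mul, h3, map_mul, map_mul, map_mul, h1, mul_one, ← map_mul, mul_inv_cancel, map_one]
    have h3 := dihedral_pow h1 h2 m
    rw [← map_mul, ← map_pow, ← map_inv, ← map_mul, ← map_mul, ← map_mul] at h3
    exact h3
  have hr2 : r ≠ 2 := by
    rintro rfl
    refine hσD (h.se σ hσA t τ htP hτ ?_)
    have h1 : σ * τ * σ⁻¹ = (σ * (σ * τ * σ * τ⁻¹)⁻¹ * σ⁻¹) * σ ^ 2 * τ := by
      rw [pow_two]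
      have h2 : τ * σ⁻¹ = (σ * τ * σ * τ⁻¹)⁻¹ * σ * τ := by group
      calc σ * τ * σ⁻¹ = σ * (τ * σ⁻¹) := mul_assoc _ _ _
        _ = σ * ((σ * τ * σ * τ⁻¹)⁻¹ * σ * τ) := by rw [← h2]
        _ = _ := by group
    rw [h1]
    exact D.mul_mem (D.mul_mem (hID (Subgroup.Normal.conj_mem inferInstance _ (Subgroup.inv_mem _ hinn) σ)) hσr) hτD
  have hσk : σ ^ r ^ k = 1 := by rw [← hord, pow_orderOf_eq_one]
  obtain ⟨_, ⟨y, rfl⟩, h1⟩ := exists_inverting hr hσk (not_dvd_card_of_isPGroup hr hr2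
    (h.pgAut.to_le h.inn_le)) hinn
  set τ₁ := MulAut.conj y * τ with hτ₁
  have hτ₁x : Cj ((y : G) * t) τ₁ := (cj_conj y).mul hτ
  have htN := hτ.mapsTo
  have hs : (y : G) * t * (y * t) ∈ P := by
    have h2 : (y : G) * t * (y * t) = y * (t * y * t⁻¹) * (t * t) := by group
    rw [h2]
    exact P.mul_mem (P.mul_mem y.2 (htN y y.2)) htt
  obtain ⟨z, hz, h2⟩ := exists_central_fixed (h.pg.to_subgroup P) hr hr2 hσk h1
    (s := ⟨_, hs⟩) ((hτ₁x.mul hτ₁x).unique (cj_conj ⟨_, hs⟩)) (by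
      apply Subtype.ext
      rw [hτ₁x]
      group)
  have hzc : ∀ x ∈ P, (z : G) * x * (z : G)⁻¹ = x := fun x hx => by
    have h3 : x * (z : G) = z * x := congrArg Subtype.val (Subgroup.mem_center_iff.1 hz ⟨x, hx⟩)
    rw [← h3, mul_inv_cancel_right]
  have hconj : ∀ x : P, ((z : G) * y * t) * x * ((z : G) * y * t)⁻¹ = (τ₁ x : P) := fun x => by
    rw [← hzc _ (τ₁ x).2, hτ₁x]
    group
  have hsq : ((z : G) * y * t) * ((z : G) * y * t) = ((z * τ₁ z * ⟨_, hs⟩ : P) : G) := by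
    simp only [Subgroup.coe_mul]
    rw [hτ₁x]
    group
  refine ⟨z * y, P.mul_mem z.2 y.2, r, m, hσA, hσD, hr, hr2, ⟨k, hσk⟩, hσr, fun x hx => ?_,
    fun h3 => htP ((P.mul_mem_cancel_left (P.mul_mem z.2 y.2)).1 h3), ?_, fun x hx => ?_, ?_⟩
  · rw [hconj ⟨x, hx⟩]
    exact (τ₁ _).2
  · rw [hsq]
    exact Subtype.prop _
  · rw [fn_apply σ hx, hconj, hconj ⟨x, hx⟩, fn_apply σ (τ₁ _).2]
    have h3 : σ * τ₁ * σ = τ₁ := by
      calc σ * τ₁ * σ = σ * (τ₁ * σ * τ₁⁻¹) * τ₁ := by group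
        _ = τ₁ := by rw [h1]; group
    conv_rhs => rw [← h3]
    rfl
  · rw [hsq, fn_apply σ (Subtype.prop _)]
    exact congrArg Subtype.val h2

/-- **E2.** -/
theorem exists_dih (h : Loc P A D) {t : G} (htN : ∀ x ∈ P, t * x * t⁻¹ ∈ P) (htP : t ∉ P) (htt : t * t ∈ P) :
    ∃ y ∈ P, ∃ (r : ℕ) (α : MulAut P), DihL P A D (y * t) r α := by
  obtain ⟨a, ha, haD⟩ := SetLike.not_le_iff_exists.1 h.ne
  obtain ⟨τ, hτ⟩ := exists_cj htN
  obtain ⟨y, hy, r, m, h1⟩ := h.exists_dih' ha haD htP htt hτ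
  exact ⟨y, hy, r, _, h1⟩

theorem exists_sq (h : Loc P A D) : ∃ t, (∀ x ∈ P, t * x * t⁻¹ ∈ P) ∧ t ∉ P ∧ t * t ∈ P := by
  obtain ⟨t, -, h1⟩ := exists_sq_mem (h.pg.to_subgroup ⊤) le_top h.proper
  exact ⟨t, h1⟩

theorem exists_dih₀ (h : Loc P A D) : ∃ (t : G) (r : ℕ) (α : MulAut P), DihL P A D t r α := by
  obtain ⟨t, h1, h2, h3⟩ := h.exists_sq
  obtain ⟨y, -, r, α, h4⟩ := h.exists_dih h1 h2 h3
  exact ⟨_, r, α, h4⟩

end Loc

end Cfsg.Agent.FS.Th
end

-- part: FS/Th/NT
section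
/-!
# No transvections when `|N(P) : P| > 2` (NT) (helper79, project FS)

For a local datum `Loc P A D` with `|N_G(P) : P| > 2`, an element `t ∈ N_G(P) \ P` with `t² ∈ P` does not act as a
transvection on an `A`-invariant elementary abelian section on which it differs from its conjugates by `A \ D`.
-/

set_option autoImplicit false

namespace Cfsg.Agent.FS.Th

open Cfsg Cfsg.FusionSystem Cfsg.Agent.H802 Cfsg.Agent.H752

universe u v

section acts

variable {H : Type u} {H' : Type v} [Group H] [Group H']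

theorem exists_descAut (f : H →* H') (hf : Function.Surjective f) (A : Subgroup (MulAut H))
    (hA : ∀ α ∈ A, ∀ x, f x = 1 → f (α x) = 1) : ∃ ρ : A →* MulAut H', ∀ (α : A) (x : H), ρ α (f x) = f (α.1 x) := by
  have h1 : ∀ α ∈ A, ∃ φ : H' →* H', ∀ x, φ (f x) = f (α x) := fun α hα =>
    ⟨f.liftOfRightInverse (Function.surjInv hf) (Function.rightInverse_surjInv hf)
      ⟨f.comp α.toMonoidHom, fun x hx => hA α hα x hx⟩, fun x => f.liftOfRightInverse_comp_apply _ _ _ x⟩
  have h2 : ∀ α : A, ∃ β : MulAut H', ∀ x, β (f x) = f (α.1 x) := by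
    intro α
    obtain ⟨φ, hφ⟩ := h1 α α.2
    obtain ⟨ψ, hψ⟩ := h1 α⁻¹ (A.inv_mem α.2)
    refine ⟨⟨⟨φ, ψ, fun y => ?_, fun y => ?_⟩, φ.map_mul⟩, hφ⟩
    · obtain ⟨x, rfl⟩ := hf y
      rw [hφ, hψ, MulAut.inv_apply_self]
    · obtain ⟨x, rfl⟩ := hf y
      rw [hψ, hφ, MulAut.apply_inv_self]
  choose β hβ using h2
  refine ⟨MonoidHom.mk' β fun a b => ?_, hβ⟩
  ext y
  obtain ⟨x, rfl⟩ := hf y
  rw [MulAut.mul_apply, hβ, hβ, hβ]
  rfl

theorem exists_resAut (K : Subgroup H) (A : Subgroup (MulAut H)) (hA : ∀ α ∈ A, ∀ x ∈ K, α x ∈ K) :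
    ∃ ρ : A →* MulAut K, ∀ (α : A) (x : K), ((ρ α x : K) : H) = α.1 x := by
  refine ⟨MonoidHom.mk' (fun α => ⟨⟨fun x => ⟨α.1 x, hA α α.2 x x.2⟩, fun x => ⟨α.1⁻¹ x, hA _ (A.inv_mem α.2) x x.2⟩,
    fun x => Subtype.ext (MulAut.inv_apply_self _ _ _), fun x => Subtype.ext (MulAut.apply_inv_self _ _ _)⟩,
    fun x y => Subtype.ext (map_mul α.1 (x : H) y)⟩) fun a b => rfl, fun α x => rfl⟩

end acts

/-- The abstract transvection argument. -/
theorem nt_abstract {A V : Type*} [Group A] [Group V] (ρ : A →* MulAut V) (hV : ∀ x : V, x * x = 1)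
    (D : Subgroup A) {τ h a₀ : A} (hτ2 : ρ τ * ρ τ = 1) {v : V} (htv : ∀ x, ρ τ x = x ∨ ρ τ x = x * v)
    (hodd : ∀ a ∉ D, ∃ m n : ℕ, Odd n ∧ (τ * (a * τ * a⁻¹)) ^ m ∉ D ∧ ((τ * (a * τ * a⁻¹)) ^ m) ^ n = 1)
    (hne : ∀ a ∉ D, ρ (a * τ * a⁻¹) ≠ ρ τ)
    (h1 : (h * a₀)⁻¹ ∉ D) (h2 : (h * a₀)⁻¹ * a₀ ∉ D) (h3 : (h * a₀)⁻¹ * (τ * a₀) ∉ D) (ha : a₀ ∉ D) : False := by
  have hcomm : ∀ x y : V, x * y = y * x := fun x y => by
    have e1 : (x * y)⁻¹ = x * y := inv_eq_of_mul_eq_one_right (hV _)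
    rw [← e1, mul_inv_rev, inv_eq_of_mul_eq_one_right (hV x), inv_eq_of_mul_eq_one_right (hV y)]
  have hτv : ρ τ v = v := by
    rcases htv v with e | e
    · exact e
    · rw [hV] at e
      have e2 : v = 1 := (ρ τ).injective (by rw [e, map_one])
      rw [e2, map_one]
  have claim : ∀ a ∉ D, ρ τ (ρ a v) = ρ a v * v ∧ ρ τ (ρ a v) ≠ ρ a v := by
    intro a haD
    suffices hs : ρ τ (ρ a v) ≠ ρ a v from ⟨(htv _).resolve_left hs, hs⟩
    intro hfix
    set w := ρ a v with hw
    set τ' := ρ (a * τ * a⁻¹) with hτ'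
    have e1 : ∀ x, τ' x = x ∨ τ' x = x * w := fun x => by
      rw [hτ', map_mul, map_mul, map_inv, MulAut.mul_apply, MulAut.mul_apply]
      rcases htv ((ρ a)⁻¹ x) with e | e
      · left
        rw [e, MulAut.apply_inv_self]
      · right
        rw [e, map_mul, MulAut.apply_inv_self]
    have e2 : τ' w = w := by
      rw [hτ', map_mul, map_mul, map_inv, MulAut.mul_apply, MulAut.mul_apply, hw, MulAut.inv_apply_self, hτv]
    have e3 : ∀ x, ρ τ (ρ τ x) = x := fun x => by rw [← MulAut.mul_apply, hτ2, MulAut.one_apply]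
    set ν := (ρ τ * τ') ^ 2 with hν
    have e4 : ∀ x, ν x = x ∨ ν x = x * w := fun x => by
      rw [hν, pow_two, MulAut.mul_apply, MulAut.mul_apply, MulAut.mul_apply]
      rcases e1 x with e | e <;> rw [e]
      · rcases e1 (ρ τ x) with e' | e' <;> rw [e']
        · exact Or.inl (e3 x)
        · exact Or.inr (by rw [map_mul, e3, hfix])
      · rcases e1 (ρ τ (x * w)) with e' | e' <;> rw [e']
        · exact Or.inr (e3 _)
        · exact Or.inl (by rw [map_mul, e3, hfix, mul_assoc, hV, mul_one])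
    have e5 : ν w = w := by
      rw [hν, pow_two, MulAut.mul_apply, MulAut.mul_apply, MulAut.mul_apply, e2, hfix, e2, hfix]
    have e6 : (ρ τ * τ') ^ 4 = 1 := by
      ext x
      rw [show 4 = 2 + 2 from rfl, pow_add, ← hν, MulAut.mul_apply, MulAut.one_apply]
      rcases e4 x with e | e
      · rw [e, e]
      · rw [e, map_mul, e, e5, mul_assoc, hV, mul_one]
    obtain ⟨m, n, hn, hD, hσ⟩ := hodd a haD
    set σ := (τ * (a * τ * a⁻¹)) ^ m with hσdef
    have e7 : ρ σ ^ 4 = 1 := by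
      rw [hσdef, map_pow, map_mul, ← hτ', ← pow_mul, mul_comm m 4, pow_mul, e6, one_pow]
    have e8 : ρ σ ^ n = 1 := by rw [← map_pow, hσ, map_one]
    have e9 : ρ σ = 1 := by
      have hc : Nat.Coprime 4 n := by
        rw [show 4 = 2 ^ 2 from rfl]
        exact Nat.Coprime.pow_left 2 (Nat.coprime_two_left.2 hn)
      rw [← orderOf_eq_one_iff]
      exact Nat.eq_one_of_dvd_coprimes hc (orderOf_dvd_of_pow_eq_one e7) (orderOf_dvd_of_pow_eq_one e8)
    exact hne σ hD (by rw [map_mul, map_mul, map_inv, e9, one_mul, inv_one, mul_one])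
  have c1 := (claim _ h1).1
  have c2 := (claim _ h2).1
  have c3 := (claim _ h3).2
  have c4 := (claim _ ha).1
  apply c3
  rw [map_mul ρ _ a₀, MulAut.mul_apply] at c2
  rw [map_mul ρ _ (τ * a₀), map_mul ρ τ a₀, MulAut.mul_apply, MulAut.mul_apply, c4, map_mul, map_mul, c2, c1]
  rw [mul_assoc, hcomm v, mul_assoc, hV, mul_one]

variable {G : Type u} [Group G] [Finite G] {P : Subgroup G} {A D : Subgroup (MulAut P)}

namespace Loc

/-- NT for an abstract `A`-module `V` on which `P` acts trivially. -/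
theorem nt_module (h : Loc P A D) {V : Type*} [Group V] (ρ : A →* MulAut V) (hV : ∀ x : V, x * x = 1)
    (hinn : ∀ (y : P) (hy : MulAut.conj y ∈ A), ρ ⟨_, hy⟩ = 1)
    {t : G} (htP : t ∉ P) (htt : t * t ∈ P) {τ : MulAut P} (hτ : Cj t τ)
    {s : G} (hsN : ∀ x ∈ P, s * x * s⁻¹ ∈ P) (hsP : s ∉ P) (hst : s⁻¹ * t ∉ P)
    (hne : ∀ a : A, a.1 ∉ D → ρ (a * ⟨τ, h.autA hτ.mem⟩ * a⁻¹) ≠ ρ ⟨τ, h.autA hτ.mem⟩) {v : V}
    (htv : ∀ x, ρ ⟨τ, h.autA hτ.mem⟩ x = x ∨ ρ ⟨τ, h.autA hτ.mem⟩ x = x * v) : False := by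
  obtain ⟨a, ha, haD⟩ := SetLike.not_le_iff_exists.1 h.ne
  obtain ⟨η, hη⟩ := exists_cj hsN
  have hηD : η ∈ D := h.autD hη.mem
  have hττ : τ * τ = MulAut.conj (⟨t * t, htt⟩ : P) := (hτ.mul hτ).unique (cj_conj ⟨t * t, htt⟩)
  refine nt_abstract ρ hV (D.subgroupOf A) (τ := ⟨τ, h.autA hτ.mem⟩) (h := ⟨η, h.autA hη.mem⟩) (a₀ := ⟨a, ha⟩)
    ?_ htv ?_ hne ?_ ?_ ?_ haD
  · rw [← map_mul, ← hinn ⟨t * t, htt⟩ (hττ ▸ A.mul_mem (h.autA hτ.mem) (h.autA hτ.mem))]
    congr 1
    exact Subtype.ext hττ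
  · intro b hb
    obtain ⟨y, -, r, m, h1⟩ := h.exists_dih' b.2 hb htP htt hτ
    obtain ⟨k, hk⟩ := h1.ord
    exact ⟨m, r ^ k, (h1.prime.odd_of_ne_two h1.ne_two).pow, h1.notMem, Subtype.ext hk⟩
  · intro h1
    have h2 : (η * a)⁻¹ ∈ D := h1
    exact haD ((D.mul_mem_cancel_left hηD).1 ((D.inv_mem_iff).1 h2))
  · intro h1
    have h2 : (η * a)⁻¹ * a ∈ D := h1
    refine haD ((D.inv_mem_iff).1 (h.se a⁻¹ (A.inv_mem ha) s⁻¹ η⁻¹ (fun h3 => hsP ((P.inv_mem_iff).1 h3)) hη.inv ?_))
    rwa [mul_inv_rev, ← inv_inv a, inv_inv a⁻¹] at h2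
  · intro h1
    have h2 : (η * a)⁻¹ * (τ * a) ∈ D := h1
    refine haD ((D.inv_mem_iff).1 (h.se a⁻¹ (A.inv_mem ha) _ _ hst (hη.inv.mul hτ) ?_))
    have h3 : a⁻¹ * (η⁻¹ * τ) * a⁻¹⁻¹ = (η * a)⁻¹ * (τ * a) := by group
    rwa [h3]

/-- **NT on an invariant elementary abelian central subgroup `K` of `P`.** -/
theorem nt_sub (h : Loc P A D) {K : Subgroup G} (hKP : K ≤ P) (hKA : ∀ α ∈ A, ∀ x ∈ K, fn α x ∈ K)
    (hK2 : ∀ x ∈ K, x * x = 1) (hKc : ∀ x ∈ K, ∀ y ∈ P, y * x = x * y)
    {t : G} (htN : ∀ x ∈ P, t * x * t⁻¹ ∈ P) (htP : t ∉ P) (htt : t * t ∈ P)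
    {s : G} (hsN : ∀ x ∈ P, s * x * s⁻¹ ∈ P) (hsP : s ∉ P) (hst : s⁻¹ * t ∉ P)
    (hne : ∀ a ∈ A, a ∉ D → ∃ x ∈ K, t * x = x * t ∧ t * fn a x ≠ fn a x * t) {v : G}
    (htv : ∀ x ∈ K, t * x * t⁻¹ = x ∨ t * x * t⁻¹ = x * v) : False := by
  obtain ⟨τ, hτ⟩ := exists_cj htN
  obtain ⟨ρ, hρ⟩ := exists_resAut (K.subgroupOf P) A fun α hα x hx => by
    have h1 := hKA α hα x hx
    rwa [fn_apply α x.2] at h1
  have hvK : (∀ x ∈ K, t * x * t⁻¹ = x) ∨ v ∈ K := by
    by_cases h1 : ∀ x ∈ K, t * x * t⁻¹ = x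
    · exact Or.inl h1
    · push Not at h1
      obtain ⟨x, hx, h2⟩ := h1
      have h3 := hKA τ (h.autA hτ.mem) x hx
      rw [hτ.fn (hKP hx), (htv x hx).resolve_left h2] at h3
      exact Or.inr ((K.mul_mem_cancel_left hx).1 h3)
  obtain ⟨v', hv'⟩ : ∃ v' : K.subgroupOf P, ∀ x ∈ K, t * x * t⁻¹ = x ∨ t * x * t⁻¹ = x * ((v' : P) : G) := by
    rcases hvK with h1 | h1
    · exact ⟨1, fun x hx => Or.inl (h1 x hx)⟩
    · exact ⟨⟨⟨v, hKP h1⟩, h1⟩, htv⟩
  refine h.nt_module ρ (fun x => Subtype.ext (Subtype.ext (hK2 _ x.2))) (fun y hy => ?_) htP htt hτ hsN hsP hst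
    (fun a haD he => ?_) (v := v') (fun x => ?_)
  · ext x
    rw [hρ]
    show (y : G) * x * (y : G)⁻¹ = x
    rw [hKc ((x : P) : G) x.2 y y.2, mul_inv_cancel_right]
  · obtain ⟨x, hx, h1, h2⟩ := hne a a.2 haD
    apply h2
    have h3 : fn a.1 x ∈ K := hKA a a.2 x hx
    have h4 := congrArg (fun β : MulAut (K.subgroupOf P) => (((β ⟨⟨_, hKP h3⟩, h3⟩ : K.subgroupOf P) : P) : G)) he
    simp only [hρ] at h4
    rw [hτ] at h4
    have h5 : (⟨fn a.1 x, hKP h3⟩ : P) = a.1 ⟨x, hKP hx⟩ := Subtype.ext (fn_apply _ _)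
    have h6 : τ ⟨x, hKP hx⟩ = ⟨x, hKP hx⟩ := Subtype.ext (by rw [hτ]; show t * x * t⁻¹ = x; rw [h1, mul_inv_cancel_right])
    rw [h5] at h4
    have h7 : ((a * ⟨τ, h.autA hτ.mem⟩ * a⁻¹ : A) : MulAut P) (a.1 ⟨x, hKP hx⟩) = a.1 ⟨x, hKP hx⟩ := by
      show a.1 (τ (a.1⁻¹ (a.1 _))) = _
      rw [MulAut.inv_apply_self, h6]
    rw [h7, ← fn_apply] at h4
    rw [eq_mul_inv_iff_mul_eq] at h4
    exact h4.symm
  · rcases hv' _ x.2 with e | e
    · left
      apply Subtype.ext
      apply Subtype.ext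
      rw [hρ, hτ]
      exact e
    · right
      apply Subtype.ext
      apply Subtype.ext
      rw [hρ, hτ]
      exact e

end Loc

end Cfsg.Agent.FS.Th
end

-- part: FS/Th/Centre
section
/-!
# Focal generation (H1) and the moved centre (C1) (helper80, project FS)

* `focP M`: `x⁻¹ f(x) ∈ M`; `focal_failure`: if `foc(F) ≰ M` (`M` containing the commutators of `S`) the property fails
  for an element of odd prime power order of `Aut_F(S)` or first at an essential subgroup.
* `norP F W`: `f` extends to `P W` preserving `W`; `normal_failure` the same for a normal subgroup `W` of `S` which is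
  not normal in `F`.
* `moved_centre`: for `W ≤ Z(S)`, at the first failure `P` every `α ∈ Aut_F(P)` and `w ∈ W` with `α w ∉ W` have
  `P = C_S(α w)`.
-/

set_option autoImplicit false

namespace Cfsg.Agent.FS.Th

open Cfsg Cfsg.FusionSystem Cfsg.Agent.H802 Cfsg.Agent.H752

universe u v

variable {Ω : Type u} [Group Ω] {S : Subgroup Ω}

/-! ### The focal subgroup -/

/-- `f` acts trivially modulo `M` -/
def focP (M P : Subgroup Ω) (f : Ω → Ω) : Prop := ∀ x ∈ P, x⁻¹ * f x ∈ M

theorem closed_focP (F : FusionSystem S) (M : Subgroup Ω) (hM : ∀ x ∈ S, ∀ y ∈ S, x * y * x⁻¹ * y⁻¹ ∈ M) :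
    Closed F (focP M) where
  congr P f g _ h he x hx := by rw [he x hx]; exact h x hx
  comp P Q f g _ _ h1 h2 hPQ x hx := by
    have h3 := M.mul_mem (h1 x hx) (h2 _ (hPQ x hx))
    have h4 : x⁻¹ * f x * ((f x)⁻¹ * g (f x)) = x⁻¹ * g (f x) := by group
    rwa [h4] at h3
  inv P R f g _ h _ he _ y hy := by
    obtain ⟨x, hx, rfl, h2⟩ := he y hy
    have h3 := M.inv_mem (h x hx)
    rw [h2]
    rwa [mul_inv_rev, inv_inv] at h3
  conj P hP s hs x hx := by
    have h1 := hM x⁻¹ (S.inv_mem (hP hx)) s hs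
    have h2 : x⁻¹ * s * x⁻¹⁻¹ * s⁻¹ = x⁻¹ * (s * x * s⁻¹) := by group
    rwa [h2] at h1

theorem focal_le_of_focP (F : FusionSystem S) (M : Subgroup Ω)
    (h : ∀ (P : Subgroup Ω) (f : Ω → Ω), Mp F P f → focP M P f) : F.focalSubgroup ≤ M := by
  unfold FusionSystem.focalSubgroup
  rw [Subgroup.closure_le]
  rintro _ ⟨P, φ, x, hφ, rfl⟩
  have h1 := h P _ (mp_ex hφ) x x.2
  rwa [ex_coe] at h1

/-! ### Normal subgroups -/

/-- `f` extends to `P W`, preserving `W` -/
def norP (F : FusionSystem S) (W P : Subgroup Ω) (f : Ω → Ω) : Prop :=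
  ∃ g : Ω → Ω, Mp F (P ⊔ W) g ∧ (∀ x ∈ P, g x = f x) ∧ ∀ w ∈ W, g w ∈ W

theorem closed_norP [Finite S] (F : FusionSystem S) {W : Subgroup Ω} (hW : W ≤ S)
    (hWn : ∀ s ∈ S, ∀ w ∈ W, s * w * s⁻¹ ∈ W) : Closed F (norP F W) where
  congr P f g _ h he := by
    obtain ⟨k, hk, h1, h2⟩ := h
    exact ⟨k, hk, fun x hx => (h1 x hx).trans (he x hx).symm, h2⟩
  comp P Q f g _ _ h1 h2 hPQ := by
    obtain ⟨k, hk, h3, h4⟩ := h1
    obtain ⟨l, hl, h5, h6⟩ := h2
    refine ⟨fun x => l (k x), hk.comp hl (H754.mp_sup_mem hk (fun x hx => ?_) (fun x hx => ?_)),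
      fun x hx => ?_, fun w hw => h6 _ (h4 w hw)⟩
    · rw [h3 x hx]
      exact (le_sup_left : Q ≤ Q ⊔ W) (hPQ x hx)
    · exact (le_sup_right : W ≤ Q ⊔ W) (h4 x hx)
    · show l (k x) = g (f x)
      rw [h3 x hx, h5 _ (hPQ x hx)]
  inv P R f g _ h _ he hPR := by
    obtain ⟨k, hk, h1, h2⟩ := h
    have hfin : Finite W := finite_of_le hW
    obtain ⟨T, hT, -, -⟩ := hk.exists_image le_rfl
    obtain ⟨l, hl, h3, -⟩ := hk.exists_symm le_rfl hT
    have hle : R ⊔ W ≤ T := by
      refine sup_le (fun y hy => ?_) (fun y hy => ?_)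
      · obtain ⟨x, hx, h4, -⟩ := he y hy
        exact (hT y).2 ⟨x, (le_sup_left : P ≤ P ⊔ W) hx, (h1 x hx).trans h4⟩
      · obtain ⟨x, hx, h4⟩ := (hk.res le_sup_right).surj h2 hy
        exact (hT y).2 ⟨x, (le_sup_right : W ≤ P ⊔ W) hx, h4⟩
    refine ⟨l, hl.res hle, fun y hy => ?_, fun y hy => ?_⟩
    · obtain ⟨x, hx, h4, h5⟩ := he y hy
      rw [h5, ← h4, ← h1 x hx, h3 x ((le_sup_left : P ≤ P ⊔ W) hx)]
    · obtain ⟨x, hx, h4⟩ := (hk.res le_sup_right).surj h2 hy
      rw [← h4, h3 x ((le_sup_right : W ≤ P ⊔ W) hx)]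
      exact hx
  conj P hP s hs := ⟨_, mp_conj F (sup_le hP hW) hs, fun _ _ => rfl, fun w hw => hWn s hs w hw⟩

theorem norP_iff_of_le {F : FusionSystem S} {W P : Subgroup Ω} (hWP : W ≤ P) {f : Ω → Ω} (hf : Mp F P f) :
    norP F W P f ↔ ∀ w ∈ W, f w ∈ W := by
  constructor
  · rintro ⟨g, -, h1, h2⟩ w hw
    rw [← h1 w (hWP hw)]
    exact h2 w hw
  · intro h
    exact ⟨f, hf.res (sup_le le_rfl hWP), fun _ _ => rfl, h⟩

theorem norP.mem {F : FusionSystem S} {W P : Subgroup Ω} {f : Ω → Ω} (h : norP F W P f) {w : Ω} (hw : w ∈ W)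
    (hwP : w ∈ P) : f w ∈ W := by
  obtain ⟨g, -, h1, h2⟩ := h
  rw [← h1 w hwP]
  exact h2 w hw

theorem isNormal_of_norP [Finite S] (F : FusionSystem S) {W : Subgroup Ω} (hW : W ≤ S)
    (h : ∀ (P : Subgroup Ω) (f : Ω → Ω), Mp F P f → norP F W P f) : F.IsNormal W := by
  have hfin : Finite W := finite_of_le hW
  refine ⟨hW, fun P φ hφ => ?_⟩
  obtain ⟨g, hg, h1, h2⟩ := h P _ (mp_ex hφ)
  obtain ⟨ψ, hψ, h3⟩ := id hg
  refine ⟨ψ, hψ, fun x => ?_, ?_⟩
  · rw [← ex_coe φ x, ← h1 x x.2]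
    exact h3 x _
  · ext y
    constructor
    · rintro ⟨x, hx, rfl⟩
      have h4 : ψ x = g x := h3 x x.2
      rw [h4]
      exact h2 x hx
    · intro hy
      obtain ⟨x, hx, h4⟩ := (hg.res le_sup_right).surj h2 hy
      exact ⟨⟨x, (le_sup_right : W ≤ P ⊔ W) hx⟩, hx, (h3 x _).trans h4⟩

/-- A normal subgroup of `S` which is not normal in `F`. -/
theorem normal_failure {p : ℕ} [Fact p.Prime] [Finite S] (hS : IsPGroup p S) {F : FusionSystem S}
    (hF : F.IsSaturated p) {W : Subgroup Ω} (hW : W ≤ S) (hWn : ∀ s ∈ S, ∀ w ∈ W, s * w * s⁻¹ ∈ W)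
    (hne : ¬ F.IsNormal W) :
    (∃ α ∈ F.autGroup S, ∃ r k : ℕ, r.Prime ∧ r ≠ p ∧ orderOf α = r ^ k ∧ (∃ w ∈ W, fn α w ∉ W) ∧
      ∀ w ∈ W, fn (α ^ r) w ∈ W) ∨
    ((∀ f : Ω → Ω, Mp F S f → ∀ w ∈ W, f w ∈ W) ∧
      ∃ (P : Subgroup Ω) (H : Subgroup (MulAut P)), Failure F p (norP F W) P H) := by
  have h1 : ∃ (P : Subgroup Ω) (f : Ω → Ω), Mp F P f ∧ ¬ norP F W P f := by
    by_contra hcon
    push Not at hcon
    exact hne (isNormal_of_norP F hW hcon)
  obtain ⟨P, f, hf, hn⟩ := h1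
  rcases first_failure' hS hF (closed_norP F hW hWn) hf hn with ⟨α, hα, r, k, hr, hrp, ho, h2, h3⟩ | ⟨h2, h3⟩
  · left
    rw [norP_iff_of_le hW (mp_fn le_rfl hα)] at h2
    rw [norP_iff_of_le hW (mp_fn le_rfl (Subgroup.pow_mem _ hα r))] at h3
    push Not at h2
    exact ⟨α, hα, r, k, hr, hrp, ho, h2, h3⟩
  · exact Or.inr ⟨fun f hf => (norP_iff_of_le hW hf).1 (h2 f hf), h3⟩

theorem not_isNormal_of_core {F : FusionSystem S} (hcore : F.core = ⊥) {W : Subgroup Ω} (hne : W ≠ ⊥) :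
    ¬ F.IsNormal W := fun h => hne (le_bot_iff.1 (hcore ▸ H759.IsNormal.le_core h))

/-! ### The moved centre -/

/-- `P` fully normalized and centric, `H` a subgroup of `Aut(P)` containing the elements of `Aut_F(P)` that extend;
`w ∈ P` fixed by `N_S(P)`; `α ∈ Aut_F(P)`.  If some element of `S` outside `P` centralizes `α w` then
`α w = β w` for some `β ∈ H`. -/
theorem exists_mem_of_centralizes {p : ℕ} [Fact p.Prime] [Finite S] (hS : IsPGroup p S) {F : FusionSystem S}
    (hF : F.IsSaturated p) {P : Subgroup Ω} (hP : F.IsFullyNormalized P) {H : Subgroup (MulAut P)}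
    (hH : ∀ α ∈ F.autGroup P, Extends F P α → α ∈ H) {w : Ω} (hwP : w ∈ P)
    (hw : ∀ s ∈ normalizerIn S P, s * w = w * s) {α : MulAut P} (hα : α ∈ F.autGroup P) {s : Ω} (hs : s ∈ S)
    (hsP : s ∉ P) (hsw : s * fn α w = fn α w * s) : ∃ β ∈ H, β ∈ F.autGroup P ∧ fn β w = fn α w := by
  have hPS : P ≤ S := hP.1
  have hfin : Finite P := finite_of_le hPS
  set u : Ω := fn α w with hu
  have huP : u ∈ P := fn_mem α hwP
  -- `u` is central in `P`
  have huc : ∀ x ∈ P, x * u = u * x := by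
    intro x hx
    have h1 := hw (fn α⁻¹ x) (le_normalizerIn hPS (fn_mem _ hx))
    have h2 := congrArg (fn α) h1
    rw [(mp_fn hPS hα).mul (fn_mem _ hx) hwP, (mp_fn hPS hα).mul hwP (fn_mem _ hx), fn_fn_inv α hx] at h2
    exact h2
  -- an element of `N_S(P) \ P` centralizing `u`
  set C : Subgroup Ω := S ⊓ Subgroup.centralizer {u} with hC
  have hPC : P ≤ C := fun x hx => ⟨hPS hx, Subgroup.mem_centralizer_singleton_iff.2 (huc x hx)⟩
  have hne : P ≠ C := fun h => hsP (h ▸ ⟨hs, Subgroup.mem_centralizer_singleton_iff.2 hsw⟩)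
  obtain ⟨n, hn, hnP⟩ := SetLike.exists_of_lt (lt_inf_normalizer hS hPC inf_le_left hne)
  have hnu : n * u = u * n := Subgroup.mem_centralizer_singleton_iff.1 hn.1.2
  obtain ⟨γ, hγ⟩ := exists_conjAut hn.2
  have hγS : γ ∈ autInducedBy S P := conj_mem_autInducedBy hn.1.1 hγ
  have hγF : γ ∈ F.autGroup P := autInducedBy_le_autGroup F hPS hγS
  -- the stabilizer of `w` in `Aut_F(P)`
  let A := F.autGroup P
  let St : Subgroup A := MulAction.stabilizer A (⟨w, hwP⟩ : P)
  obtain ⟨-, R, hR⟩ := isFullyAutomized_of_isFullyNormalized hS hF hP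
  have hRSt : (R : Subgroup A) ≤ St := by
    intro δ hδ
    rw [hR, Subgroup.mem_subgroupOf, mem_autInducedBy_iff] at hδ
    obtain ⟨g, hg, h1⟩ := hδ
    have h2 := hw g ⟨hg, mem_normalizer_of_aut h1⟩
    apply Subtype.ext
    show (((δ : MulAut P) ⟨w, hwP⟩ : P) : Ω) = w
    rw [h1, h2]
    simp
  have hδA : α⁻¹ * γ * α ∈ A := A.mul_mem (A.mul_mem (A.inv_mem hα) hγF) hα
  have hδSt : (⟨_, hδA⟩ : A) ∈ St := by
    apply Subtype.ext
    show (((α⁻¹ * γ * α) ⟨w, hwP⟩ : P) : Ω) = w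
    rw [← fn_apply, fn_mul _ _ hwP, fn_mul _ _ huP, fn_apply γ huP, hγ]
    show fn α⁻¹ (n * u * n⁻¹) = w
    rw [hnu, mul_inv_cancel_right, hu, fn_inv_fn α hwP]
  -- Sylow's theorem in the stabilizer
  have hγp : IsPGroup p (Subgroup.zpowers (⟨⟨_, hδA⟩, hδSt⟩ : St)) := by
    obtain ⟨k, hk⟩ := isPGroup_autInducedBy hS P ⟨γ, hγS⟩
    have hk' : γ ^ p ^ k = 1 := congrArg Subtype.val hk
    have h1 : (⟨⟨_, hδA⟩, hδSt⟩ : St) ^ p ^ k = 1 := by
      apply Subtype.ext
      apply Subtype.ext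
      show (α⁻¹ * γ * α) ^ p ^ k = 1
      have := conj_pow (a := α⁻¹) (b := γ) (i := p ^ k)
      rw [inv_inv] at this
      rw [this, hk']
      simp
    rintro ⟨b, hb⟩
    obtain ⟨m, rfl⟩ := Subgroup.mem_zpowers_iff.1 hb
    refine ⟨k, Subtype.ext ?_⟩
    show (_ ^ m) ^ p ^ k = 1
    rw [← zpow_natCast, ← zpow_mul, mul_comm, zpow_mul, zpow_natCast, h1, one_zpow]
  obtain ⟨R', hR'⟩ := hγp.exists_le_sylow
  obtain ⟨c, hc⟩ := MulAction.exists_smul_eq St R' (R.subtype hRSt)
  have h3 : c * ⟨⟨_, hδA⟩, hδSt⟩ * c⁻¹ ∈ ((R.subtype hRSt : Sylow p St) : Subgroup St) := by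
    rw [← hc]
    exact Subgroup.smul_mem_pointwise_smul _ (MulAut.conj c) (R' : Subgroup St) (hR' (Subgroup.mem_zpowers _))
  rw [Sylow.coe_subtype, Subgroup.mem_subgroupOf, hR, Subgroup.mem_subgroupOf] at h3
  set c' : MulAut P := ((c : A) : MulAut P) with hc'
  have hc'A : c' ∈ F.autGroup P := (c : A).2
  have h4 : (c' * α⁻¹) * γ * (c' * α⁻¹)⁻¹ ∈ autInducedBy S P := by
    have h5 : (c' * α⁻¹) * γ * (c' * α⁻¹)⁻¹ = c' * (α⁻¹ * γ * α) * c'⁻¹ := by group
    rw [h5]
    exact h3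
  have h5 : c' * α⁻¹ ∈ F.autGroup P := A.mul_mem hc'A (A.inv_mem hα)
  have h6 := hH _ h5 (extends_of_conj_mem (isReceptive_of_isFullyNormalized hS hF hP) h5 hn.1.1 hnP hγ h4)
  refine ⟨(c' * α⁻¹)⁻¹, H.inv_mem h6, A.inv_mem h5, ?_⟩
  have h7 : fn c'⁻¹ w = w := by
    have h8 : fn c' w = w := by
      rw [fn_apply _ hwP]
      exact congrArg Subtype.val c.2
    rw [← h8, fn_inv_fn _ hwP, h8]
  rw [mul_inv_rev, inv_inv, fn_mul _ _ hwP, h7]

/-- **C1.**  `W ≤ Z(S)`; `P`, `H` the first failure of normality of `W`.  Then `W ≤ P`, `H` is the stabilizer of `W` in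
`Aut_F(P)`, some element of `Aut_F(P)` moves `W`, and `P = C_S(α w)` whenever `α ∈ Aut_F(P)`, `w ∈ W`, `α w ∉ W`. -/
theorem moved_centre {p : ℕ} [Fact p.Prime] [Finite S] (hS : IsPGroup p S) {F : FusionSystem S}
    (hF : F.IsSaturated p) {W : Subgroup Ω} (hW : W ≤ S) (hWc : ∀ s ∈ S, ∀ w ∈ W, s * w = w * s)
    {P : Subgroup Ω} {H : Subgroup (MulAut P)} (h : Failure F p (norP F W) P H) :
    W ≤ P ∧ (∀ α : MulAut P, α ∈ H ↔ α ∈ F.autGroup P ∧ ∀ w ∈ W, fn α w ∈ W) ∧
      (∀ α ∈ F.autGroup P, α ∉ H → ∃ w ∈ W, fn α w ∉ W) ∧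
      ∀ α ∈ F.autGroup P, ∀ w ∈ W, fn α w ∉ W → ∀ s ∈ S, (s * fn α w = fn α w * s ↔ s ∈ P) := by
  have hPS : P ≤ S := h.ess.1.1
  have hWP : W ≤ P := fun w hw => h.ess.1.2 P (isConj_refl F hPS)
    ⟨hW hw, Subgroup.mem_centralizer_iff.2 fun x hx => hWc x (hPS hx) w hw⟩
  have hmem : ∀ α : MulAut P, α ∈ H ↔ α ∈ F.autGroup P ∧ ∀ w ∈ W, fn α w ∈ W := by
    intro α
    rw [h.mem]
    exact and_congr_right fun hα => norP_iff_of_le hWP (mp_fn hPS hα)
  refine ⟨hWP, hmem, fun α hα hαH => ?_, fun α hα w hw hαw s hs => ⟨fun hsw => ?_, fun hsP => ?_⟩⟩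
  · by_contra hcon
    push Not at hcon
    exact hαH ((hmem α).2 ⟨hα, hcon⟩)
  · by_contra hsP
    obtain ⟨β, hβ, -, h1⟩ := exists_mem_of_centralizes hS hF h.ess.2.1 h.ext (hWP hw)
      (fun s hs => hWc s hs.1 w hw) hα hs hsP hsw
    exact hαw (h1 ▸ ((hmem β).1 hβ).2 w hw)
  · have h1 := hWc (fn α⁻¹ s) (hPS (fn_mem _ hsP)) w hw
    have h2 := congrArg (fn α) h1
    rw [(mp_fn hPS hα).mul (fn_mem _ hsP) (hWP hw), (mp_fn hPS hα).mul (hWP hw) (fn_mem _ hsP),
      fn_fn_inv α hsP] at h2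
    exact h2

end Cfsg.Agent.FS.Th
end

-- part: FS/Th/Level
section
/-!
# The level lemma (LV) (helper79, project FS)

* `Loc.quot`: the local datum passes to a quotient.
* `LocM P M`: a local datum at `P` in which every automorphism acting trivially modulo `M` lies in `D`
  (`M = ⊥`: no condition); `LocZ z P M`: moreover the stabilizer of `z` lies in `D`, and then `P = C_G(a z)` for
  `a ∈ A \ D` (`Loc.cent_of_stab`).
* `LocM.step`: for a central involution `z`, a datum is of level `0` (`LocZ`) or comes from `G / ⟨z⟩`.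
* `Hyp.locM`, `Hyp.locC`: the data given by the hypothesis (H).
-/

set_option autoImplicit false

namespace Cfsg.Agent.FS.Th

open Cfsg Cfsg.FusionSystem Cfsg.Agent.H802 Cfsg.Agent.H752

universe u v

variable {G : Type u} [Group G] {G' : Type v} [Group G']

namespace Loc

variable [Finite G] {P : Subgroup G} {A D : Subgroup (MulAut P)}

omit [Finite G] in
/-- A normal `2`-subgroup of `A` is induced by `N_G(P)`. -/
theorem le_of_normal (h : Loc P A D) {N : Subgroup A} [N.Normal] (hN : IsPGroup 2 N) {α : A} (hα : α ∈ N) :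
    α.1 ∈ autInducedBy ⊤ P := by
  have h1 : IsPGroup 2 ((autInducedBy ⊤ P).subgroupOf A ⊔ N : Subgroup A) :=
    IsPGroup.to_sup_of_normal_right (h.pgAut.comap_of_injective _ (Subgroup.subtype_injective _)) hN
  exact h.max _ (Subgroup.map_subtype_le _) (h1.map A.subtype)
    (fun δ hδ => ⟨⟨δ, h.autA hδ⟩, (le_sup_left : (autInducedBy ⊤ P).subgroupOf A ≤ _) hδ, rfl⟩)
    ⟨α, (le_sup_right : N ≤ _) hα, rfl⟩

/-- **The local datum passes to a quotient.** -/
theorem quot (h : Loc P A D) (π : G →* G') (hπ : Function.Surjective π) (hker : ∀ g, π g = 1 → g ∈ P)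
    (hA : ∀ α ∈ A, ∀ x ∈ P, π x = 1 → π (fn α x) = 1)
    (hK : ∀ α ∈ A, (∀ x ∈ P, π (fn α x) = π x) → ∃ k, α ^ 2 ^ k = 1) :
    ∃ A' D' : Subgroup (MulAut (P.map π)), Loc (P.map π) A' D' ∧
      ∀ β ∈ A', ∃ α ∈ A, (∀ x ∈ P, fn β (π x) = π (fn α x)) ∧ (α ∈ D ↔ β ∈ D') := by
  have hfin : Finite G' := Finite.of_surjective π hπ
  obtain ⟨Θ, hΘ⟩ := exists_descAut (π.subgroupMap P) (π.subgroupMap_surjective P) A fun α hα x hx => by
    apply Subtype.ext
    have h1 := hA α hα x x.2 (congrArg Subtype.val hx)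
    rwa [fn_apply _ x.2] at h1
  have hΘ' : ∀ (α : A), ∀ x ∈ P, fn (Θ α) (π x) = π (fn α.1 x) := fun α x hx => by
    rw [fn_apply _ (⟨x, hx, rfl⟩ : π x ∈ P.map π), fn_apply _ hx]
    exact congrArg Subtype.val (hΘ α ⟨x, hx⟩)
  have hkp : IsPGroup 2 Θ.ker := by
    rintro ⟨α, hα⟩
    obtain ⟨k, hk⟩ := hK α α.2 fun x hx => by
      rw [← hΘ' α x hx, (MonoidHom.mem_ker).1 hα, fn_one (⟨x, hx, rfl⟩ : π x ∈ P.map π)]
    exact ⟨k, Subtype.ext (Subtype.ext hk)⟩
  have hkD : ∀ α : A, Θ α = 1 → α.1 ∈ D := fun α hα => h.autD (h.le_of_normal hkp hα)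
  have hD : ∀ α : A, α.1 ∈ D ↔ Θ α ∈ (D.subgroupOf A).map Θ := fun α => by
    refine ⟨fun h1 => ⟨α, h1, rfl⟩, ?_⟩
    rintro ⟨d, hd, h1⟩
    have h2 := hkD (d⁻¹ * α) (by rw [map_mul, map_inv, h1, inv_mul_cancel])
    exact (D.mul_mem_cancel_left (D.inv_mem hd)).1 h2
  have hmem : ∀ x, π x ∈ P.map π → x ∈ P := by
    rintro x ⟨y, hy, h1⟩
    have h2 := hker (y⁻¹ * x) (by rw [map_mul, map_inv, h1, inv_mul_cancel])
    exact (P.mul_mem_cancel_left (P.inv_mem hy)).1 h2
  have hcj : ∀ (g : G) (γ : MulAut P) (hγ : Cj g γ), Cj (π g) (Θ ⟨γ, h.autA hγ.mem⟩) := by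
    rintro g γ hγ ⟨_, x, hx, rfl⟩
    have h1 := hΘ' ⟨γ, h.autA hγ.mem⟩ x hx
    rw [fn_apply _ (⟨x, hx, rfl⟩ : π x ∈ P.map π), hγ.fn hx, map_mul, map_mul, map_inv] at h1
    exact h1
  have hcj' : ∀ (g : G) (β : MulAut (P.map π)), Cj (π g) β →
      ∃ (γ : MulAut P) (hγ : Cj g γ), β = Θ ⟨γ, h.autA hγ.mem⟩ := fun g β hβ => by
    obtain ⟨γ, hγ⟩ := exists_cj (P := P) (g := g) fun x hx => hmem _ (by
      rw [map_mul, map_mul, map_inv]
      exact hβ.mapsTo _ ⟨x, hx, rfl⟩)
    exact ⟨γ, hγ, hβ.unique (hcj g γ hγ)⟩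
  refine ⟨Θ.range, (D.subgroupOf A).map Θ, ⟨h.pg.of_surjective π hπ, fun β hβ => ?_, fun β hβ => ?_,
    fun N hN hNp hle β hβ => ?_, ?_, fun h1 => ?_, fun h1 => ?_⟩, ?_⟩
  · obtain ⟨g', hg'⟩ := mem_autTop_iff.1 hβ
    obtain ⟨g, rfl⟩ := hπ g'
    obtain ⟨γ, hγ, rfl⟩ := hcj' g β hg'
    exact ⟨_, rfl⟩
  · obtain ⟨g', hg'⟩ := mem_autTop_iff.1 hβ
    obtain ⟨g, rfl⟩ := hπ g'
    obtain ⟨γ, hγ, rfl⟩ := hcj' g β hg'
    exact ⟨_, h.autD hγ.mem, rfl⟩
  · obtain ⟨α, rfl⟩ := hN hβ
    have h1 := h.max ((N.comap Θ).map A.subtype) (Subgroup.map_subtype_le _)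
      ((hNp.comap_of_ker_isPGroup Θ hkp).map _) (fun δ hδ => by
        obtain ⟨g, hg⟩ := mem_autTop_iff.1 hδ
        exact ⟨⟨δ, h.autA hδ⟩, hle (hcj g δ hg).mem, rfl⟩) ⟨α, hβ, rfl⟩
    obtain ⟨g, hg⟩ := mem_autTop_iff.1 h1
    exact (hcj g _ hg).mem
  · rintro _ ⟨α, rfl⟩ g' β hg' hβ h1
    obtain ⟨g, rfl⟩ := hπ g'
    obtain ⟨γ, hγ, rfl⟩ := hcj' g β hβ
    rw [← map_inv, ← map_mul, ← map_mul, ← hD] at h1
    exact (hD α).1 (h.se α α.2 g γ (fun h2 => hg' ⟨g, h2, rfl⟩) hγ h1)
  · exact h.ne fun α hα => (hD ⟨α, hα⟩).2 (h1 ⟨_, rfl⟩)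
  · exact h.proper (top_le_iff.1 fun x _ => hmem x (h1 ▸ Subgroup.mem_top _))
  · rintro _ ⟨α, rfl⟩
    exact ⟨α, α.2, hΘ' α, hD α⟩

/-- If the stabilizer of the central element `z` lies in `D` then `P = C_G(a z)` for `a ∈ A \ D`. -/
theorem cent_of_stab (h : Loc P A D) {z : G} (hzc : ∀ g, g * z = z * g) (hz : ∀ α ∈ A, fn α z = z → α ∈ D)
    {a : MulAut P} (ha : a ∈ A) (haD : a ∉ D) (g : G) : g * fn a z = fn a z * g ↔ g ∈ P := by
  have : Fact (Nat.Prime 2) := ⟨Nat.prime_two⟩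
  have hzP : z ∈ P := h.mem_of_centralizes fun x _ => (hzc x).symm
  have huc : ∀ x ∈ P, x * fn a z = fn a z * x := by
    intro x hx
    have h1 : (⟨fn a⁻¹ x, fn_mem _ hx⟩ * ⟨z, hzP⟩ : P) = ⟨z, hzP⟩ * ⟨fn a⁻¹ x, fn_mem _ hx⟩ := Subtype.ext (hzc _)
    have h2 := congrArg (fun y : P => ((a y : P) : G)) h1
    simp only [map_mul, Subgroup.coe_mul] at h2
    rwa [← fn_apply, ← fn_apply, fn_fn_inv a hx] at h2
  refine ⟨fun hg => ?_, huc g⟩
  by_contra hgP
  set C : Subgroup G := Subgroup.centralizer {fn a z} with hC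
  have hPC : P ≤ C := fun x hx => Subgroup.mem_centralizer_singleton_iff.2 (huc x hx)
  have hne : P ≠ C := fun he => hgP (he ▸ Subgroup.mem_centralizer_singleton_iff.2 hg)
  obtain ⟨n, hn, hnP⟩ := SetLike.exists_of_lt (lt_inf_normalizer (h.pg.to_subgroup ⊤) hPC le_top hne)
  have hnu : n * fn a z = fn a z * n := Subgroup.mem_centralizer_singleton_iff.1 hn.1
  obtain ⟨γ, hγ⟩ := exists_conjAut hn.2
  have hγ' : Cj n γ := hγ
  have hγA := h.autA hγ'.mem
  refine haD ((D.inv_mem_iff).1 (h.se a⁻¹ (A.inv_mem ha) n γ hnP hγ' (hz _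
    (A.mul_mem (A.mul_mem (A.inv_mem ha) hγA) (A.inv_mem (A.inv_mem ha))) ?_)))
  rw [inv_inv, fn_mul _ _ hzP, fn_mul _ _ (fn_mem _ hzP), hγ'.fn (fn_mem _ hzP), hnu, mul_inv_cancel_right,
    fn_inv_fn a hzP]

end Loc

/-- A local datum at `P` whose automorphisms acting trivially modulo `M` lie in `D`. -/
def LocM (P M : Subgroup G) : Prop :=
  ∃ A D : Subgroup (MulAut P), Loc P A D ∧ ∀ α ∈ A, (∀ x ∈ P, x⁻¹ * fn α x ∈ M) → α ∈ D

/-- The same, of level `0` for `z`. -/
def LocZ (z : G) (P M : Subgroup G) : Prop :=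
  ∃ A D : Subgroup (MulAut P), Loc P A D ∧ (∀ α ∈ A, (∀ x ∈ P, x⁻¹ * fn α x ∈ M) → α ∈ D) ∧
    ∀ α ∈ A, fn α z = z → α ∈ D

theorem Loc.locM_bot {P : Subgroup G} {A D : Subgroup (MulAut P)} (h : Loc P A D) : LocM P ⊥ :=
  ⟨A, D, h, fun α _ h1 => by
    have h2 : α = 1 := by
      ext x
      have h3 := h1 x x.2
      rw [Subgroup.mem_bot, inv_mul_eq_one, fn_apply _ x.2] at h3
      exact h3.symm
    rw [h2]
    exact D.one_mem⟩

theorem LocM.mono {P M M' : Subgroup G} (h : LocM P M) (hle : M' ≤ M) : LocM P M' := by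
  obtain ⟨A, D, h1, h2⟩ := h
  exact ⟨A, D, h1, fun α hα h3 => h2 α hα fun x hx => hle (h3 x hx)⟩

/-- **The level lemma, one step.**  `M'` is a subgroup of the quotient with `π⁻¹ M' ≤ M ⟨z⟩`; take `M = π⁻¹ M'`, or
`M = ⊥`, `M' = ⊥`. -/
theorem LocM.step [Finite G] {P M : Subgroup G} (h : LocM P M) {z : G} (hzc : ∀ g, g * z = z * g) (hz2 : z * z = 1)
    (π : G →* G') (hπ : Function.Surjective π) (hker : ∀ g, π g = 1 ↔ g = 1 ∨ g = z) {M' : Subgroup G'}
    (hM : M' = ⊥ ∨ M'.comap π ≤ M) : z ∈ P ∧ (LocZ z P M ∨ LocM (P.map π) M') := by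
  obtain ⟨A, D, h1, h2⟩ := h
  have hzP : z ∈ P := h1.mem_of_centralizes fun x _ => (hzc x).symm
  refine ⟨hzP, ?_⟩
  let A₁ : Subgroup (MulAut P) := A ⊓ MulAction.stabilizer (MulAut P) (⟨z, hzP⟩ : P)
  have hA₁ : ∀ α, α ∈ A₁ ↔ α ∈ A ∧ fn α z = z := fun α => by
    rw [fn_apply α hzP]
    exact and_congr_right fun _ => ⟨fun h3 => congrArg Subtype.val h3, fun h3 => Subtype.ext h3⟩
  by_cases h3 : A₁ ≤ D
  · exact Or.inl ⟨A, D, h1, h2, fun α hα h4 => h3 ((hA₁ α).2 ⟨hα, h4⟩)⟩
  right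
  have h4 : Loc P A₁ D := h1.sub (fun γ hγ => by
    obtain ⟨g, hg⟩ := mem_autTop_iff.1 hγ
    refine (hA₁ γ).2 ⟨h1.autA hγ, ?_⟩
    rw [hg.fn hzP, hzc, mul_inv_cancel_right]) inf_le_left h3
  obtain ⟨A', D', h5, h6⟩ := h4.quot π hπ (fun g hg => by
      rcases (hker g).1 hg with rfl | rfl
      · exact P.one_mem
      · exact hzP) (fun α hα x hx h5 => by
      rcases (hker x).1 h5 with rfl | rfl
      · rw [fn_apply _ hx]
        show π ((α 1 : P) : G) = 1
        rw [map_one, Subgroup.coe_one, map_one]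
      · rw [((hA₁ α).1 hα).2, h5]) (fun α hα h5 => by
      refine ⟨1, ?_⟩
      ext x
      rw [pow_one, pow_two, MulAut.mul_apply, MulAut.one_apply]
      have h6 := (hker ((x : G)⁻¹ * fn α x)).1 (by rw [map_mul, map_inv, h5 x x.2, inv_mul_cancel])
      rw [fn_apply _ x.2, Subtype.coe_eta] at h6
      rcases h6 with h6 | h6
      · have h7 : α x = x := Subtype.ext (inv_mul_eq_one.1 h6).symm
        rw [h7, h7]
      · have h7 : α x = x * ⟨z, hzP⟩ := Subtype.ext (inv_mul_eq_iff_eq_mul.1 h6)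
        have h8 : α ⟨z, hzP⟩ = ⟨z, hzP⟩ := hα.2
        rw [h7, map_mul, h7, h8, Subgroup.coe_mul, Subgroup.coe_mul, mul_assoc, hz2, mul_one])
  rcases hM with rfl | hM
  · exact h5.locM_bot
  refine ⟨A', D', h5, fun β hβ h7 => ?_⟩
  obtain ⟨α, hα, h8, h9⟩ := h6 β hβ
  refine h9.1 (h2 α hα.1 fun x hx => hM ?_)
  have h10 := h7 _ ⟨x, hx, rfl⟩
  rwa [h8 x hx, ← map_inv, ← map_mul] at h10

/-- Transport along an isomorphism. -/
theorem LocM.of_equiv [Finite G] {P M : Subgroup G} (h : LocM P M) (e : G ≃* G') :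
    LocM (P.map e.toMonoidHom) (M.map e.toMonoidHom) := by
  obtain ⟨A, D, h1, h2⟩ := h
  have hk : ∀ g, e.toMonoidHom g = 1 → g = 1 := fun g hg => e.injective (by rw [map_one]; exact hg)
  obtain ⟨A', D', h5, h6⟩ := h1.quot e.toMonoidHom e.surjective (fun g hg => by rw [hk g hg]; exact P.one_mem)
    (fun α _ x hx h5 => by
      have h6 := hk x h5
      subst h6
      rw [fn_apply _ hx]
      show e.toMonoidHom ((α 1 : P) : G) = 1
      rw [map_one, Subgroup.coe_one, map_one]) (fun α _ h5 => ⟨0, by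
      ext x
      have h6 := e.injective (h5 x x.2)
      rw [fn_apply _ x.2] at h6
      rw [pow_zero, pow_one]
      exact h6⟩)
  refine ⟨A', D', h5, fun β hβ h7 => ?_⟩
  obtain ⟨α, hα, h8, h9⟩ := h6 β hβ
  refine h9.1 (h2 α hα fun x hx => ?_)
  have h10 := h7 _ ⟨x, hx, rfl⟩
  rw [h8 x hx, ← map_inv, ← map_mul] at h10
  obtain ⟨y, hy, h11⟩ := h10
  rwa [← e.injective h11]

theorem hyperfocal_le_focal' {Ω : Type u} [Group Ω] {S : Subgroup Ω} (F : FusionSystem S) (p : ℕ) :
    F.hyperfocalSubgroup p ≤ F.focalSubgroup := by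
  unfold FusionSystem.hyperfocalSubgroup FusionSystem.focalSubgroup
  refine Subgroup.closure_mono ?_
  rintro _ ⟨P, α, x, hP, -, rfl⟩
  exact ⟨P, P.subtype.comp (α : MulAut P).toMonoidHom, x, (mem_autGroup_iff F hP _).1 α.2, rfl⟩

theorem Hyp.foc {Ω : Type u} [Group Ω] {S : Subgroup Ω} {F : FusionSystem S} (h : Hyp F) : S ≤ F.focalSubgroup :=
  h.hyp.ge.trans (hyperfocal_le_focal' F 2)

/-- A local datum at which the central involutions are moved. -/
structure LocC (P : Subgroup G) (A D : Subgroup (MulAut P)) : Prop where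
  loc : Loc P A D
  cen : ∀ a ∈ A, a ∉ D → ∃ w, w * w = 1 ∧ (∀ g, g * w = w * g) ∧ ∀ g, (g * fn a w = fn a w * g ↔ g ∈ P)

/-- The central involutions with `1`. -/
def omZ (G : Type u) [Group G] : Subgroup G where
  carrier := {w | w * w = 1 ∧ ∀ g, g * w = w * g}
  one_mem' := ⟨one_mul _, fun g => by rw [mul_one, one_mul]⟩
  mul_mem' := by
    rintro a b ⟨h1, h2⟩ ⟨h3, h4⟩
    refine ⟨?_, fun g => by rw [← mul_assoc, h2, mul_assoc, h4, mul_assoc]⟩
    rw [mul_assoc, ← mul_assoc b, h2 b, mul_assoc, h3, mul_one, h1]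
  inv_mem' := by
    rintro a ⟨h1, h2⟩
    rw [inv_eq_of_mul_eq_one_right h1]
    exact ⟨h1, h2⟩

theorem omZ_ne_bot [Finite G] [Nontrivial G] (hG : IsPGroup 2 G) : omZ G ≠ ⊥ := by
  have : Fact (Nat.Prime 2) := ⟨Nat.prime_two⟩
  have := hG.center_nontrivial
  obtain ⟨n, hn0, hn⟩ := (hG.to_subgroup (Subgroup.center G)).nontrivial_iff_card.1 inferInstance
  obtain ⟨a, ha⟩ := exists_prime_orderOf_dvd_card' (G := Subgroup.center G) 2 (hn ▸ dvd_pow_self 2 hn0.ne')
  intro h
  have h1 : (a : G) ∈ omZ G := ⟨by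
    have h2 := pow_orderOf_eq_one a
    rw [ha, pow_two] at h2
    exact congrArg Subtype.val h2, fun g => Subgroup.mem_center_iff.1 a.2 g⟩
  rw [h, Subgroup.mem_bot] at h1
  have h2 : a = 1 := Subtype.ext h1
  rw [h2, orderOf_one] at ha
  cases ha

end Cfsg.Agent.FS.Th
end

-- part: FS/Th/Shape
section
/-!
# Existence and shape of the data of level `0` (TH2 a, b) (helper79, project FS)

* `Hyp.top_ind`: a subgroup of `Aut(G)` with the inner automorphisms and the maps of `F` of odd prime power order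
  contains all maps of `F` on `G`.  `Hyp.fixes_of_two`: invariant sets of at most two central elements are fixed.
* `Hyp.exists_locZ`: an invariant set of central involutions contains a `z` with a datum `LocZ z P ⊥`.
* `Loc.shape`, `LocZ.shape`: the orbit of `z` under the dihedral element.
-/

set_option autoImplicit false

namespace Cfsg.Agent.FS.Th

open Cfsg Cfsg.FusionSystem Cfsg.Agent.H802 Cfsg.Agent.H752

universe u v

variable {G : Type u} [Group G]

theorem fn_map_mul {P : Subgroup G} (α : MulAut P) {x y : G} (hx : x ∈ P) (hy : y ∈ P) :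
    fn α (x * y) = fn α x * fn α y := by
  rw [fn_apply α hx, fn_apply α hy, fn_apply α (P.mul_mem hx hy), ← Subgroup.coe_mul, ← map_mul]
  rfl

theorem fn_map_inv {P : Subgroup G} (α : MulAut P) {x : G} (hx : x ∈ P) : fn α x⁻¹ = (fn α x)⁻¹ := by
  rw [fn_apply α hx, fn_apply α (P.inv_mem hx), ← Subgroup.coe_inv, ← map_inv]
  rfl

theorem fn_map_one {P : Subgroup G} (α : MulAut P) : fn α 1 = 1 := by
  rw [fn_apply α P.one_mem]
  exact congrArg Subtype.val (map_one α)

theorem fn_inj {P : Subgroup G} (α : MulAut P) {x y : G} (hx : x ∈ P) (hy : y ∈ P) (h : fn α x = fn α y) : x = y := by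
  rw [← fn_inv_fn α hx, h, fn_inv_fn α hy]

theorem mem_of_sq_mem {A : Type*} [Group A] {H : Subgroup A} {a : A} {n : ℕ} (hn : Odd n) (ha : a ^ n = 1)
    (h : a * a ∈ H) : a ∈ H := by
  obtain ⟨k, rfl⟩ := hn
  have h1 : a = (a * a) ^ (k + 1) := by
    rw [← pow_two, ← pow_mul, show 2 * (k + 1) = 2 * k + 1 + 1 by ring, pow_succ, ha, one_mul]
  rw [h1]
  exact H.pow_mem h _

/-! ### the top group -/

theorem Mp.exists_top [Finite G] {F : FusionSystem (⊤ : Subgroup G)} {f : G → G} (h : Mp F ⊤ f) :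
    ∃ θ : MulAut G, ∀ x, θ x = f x := by
  obtain ⟨α, -, h1⟩ := h.exists_aut fun _ _ => Subgroup.mem_top _
  exact ⟨MulAut.congr Subgroup.topEquiv α, fun x => (h1 x (Subgroup.mem_top x)).symm⟩

/-- **Induction over `Aut_F(G)`.** -/
theorem top_ind [Finite G] (hG : IsPGroup 2 G) {F : FusionSystem (⊤ : Subgroup G)} (hF : F.IsSaturated 2)
    {D : Subgroup (MulAut G)} (hinn : ∀ g, MulAut.conj g ∈ D)
    (hodd : ∀ (θ : MulAut G) (r k : ℕ), Mp F ⊤ θ → r.Prime → r ≠ 2 → θ ^ r ^ k = 1 → θ ^ r ∈ D → θ ∈ D)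
    {θ : MulAut G} (hθ : Mp F ⊤ θ) : θ ∈ D := by
  have : Fact (Nat.Prime 2) := ⟨Nat.prime_two⟩
  have := Loc.finAut (⊤ : Subgroup G)
  by_contra hD
  obtain ⟨α, hα, h1⟩ := hθ.exists_aut fun _ _ => Subgroup.mem_top _
  let c : MulAut (⊤ : Subgroup G) →* MulAut G := (MulAut.congr Subgroup.topEquiv).toMonoidHom
  have hc : ∀ (β : MulAut (⊤ : Subgroup G)) (x : G), c β x = fn β x := fun β x => by
    rw [fn_apply _ (Subgroup.mem_top x)]
    rfl
  have h2 : c α = θ := by
    ext x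
    exact (h1 x (Subgroup.mem_top x)).symm
  obtain ⟨r, k, m, hr, ho, h3, h4⟩ := exists_primePow_not_mem (D.comap c) _ α rfl (by
    rw [Subgroup.mem_comap, h2]
    exact hD)
  have hβ := Subgroup.pow_mem _ hα m
  by_cases hr2 : r = 2
  · subst hr2
    obtain ⟨g, hg⟩ := mem_autTop_iff.1 (mem_autInducedBy_of_orderOf (hG.to_subgroup ⊤) hF hβ ho)
    refine h3 ?_
    have h5 : c (α ^ m) = MulAut.conj g := by
      ext x
      rw [hc, hg.fn (Subgroup.mem_top x), MulAut.conj_apply]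
    rw [Subgroup.mem_comap, h5]
    exact hinn g
  · exact h3 (hodd _ r k ((mp_fn le_rfl hβ).congr fun x _ => hc _ x) hr hr2
      (by rw [← map_pow, ← ho, pow_orderOf_eq_one, map_one]) (by rw [← map_pow]; exact h4))

/-- An invariant set of at most two central elements is fixed by `Aut_F(G)`. -/
theorem fixes_of_two [Finite G] (hG : IsPGroup 2 G) {F : FusionSystem (⊤ : Subgroup G)} (hF : F.IsSaturated 2)
    {X : Set G} (hX : ∀ w ∈ X, ∀ g, g * w = w * g) (hinv : ∀ f, Mp F ⊤ f → ∀ w ∈ X, f w ∈ X)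
    (h2 : ∀ a ∈ X, ∀ b ∈ X, ∀ c ∈ X, a = b ∨ a = c ∨ b = c) {f : G → G} (hf : Mp F ⊤ f) {w : G} (hw : w ∈ X) :
    f w = w := by
  obtain ⟨θ, hθ⟩ := Mp.exists_top hf
  rw [← hθ]
  refine top_ind hG hF (D := MulAction.stabilizer (MulAut G) w) (fun g => ?_) (fun β r k hβ hr hr2 ho _ => ?_)
    (hf.congr fun x _ => hθ x)
  · show g * w * g⁻¹ = w
    rw [hX w hw, mul_inv_cancel_right]
  · refine mem_of_sq_mem (hr.odd_of_ne_two hr2).pow ho ?_
    show β (β w) = w
    rcases h2 w hw _ (hinv _ hβ w hw) _ (hinv _ hβ _ (hinv _ hβ w hw)) with h3 | h3 | h3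
    · rw [← h3, ← h3]
    · exact h3.symm
    · have h4 := β.injective h3
      rw [← h4, ← h4]

/-- The same for a set invariant under `Aut(G)`. -/
theorem fixes_of_two' [Finite G] (hG : IsPGroup 2 G) {F : FusionSystem (⊤ : Subgroup G)} (hF : F.IsSaturated 2)
    {X : Set G} (hX : ∀ w ∈ X, ∀ g, g * w = w * g) (hinv : ∀ θ : MulAut G, ∀ w ∈ X, θ w ∈ X)
    (h2 : ∀ a ∈ X, ∀ b ∈ X, ∀ c ∈ X, a = b ∨ a = c ∨ b = c) {f : G → G} (hf : Mp F ⊤ f) {w : G} (hw : w ∈ X) :
    f w = w :=
  fixes_of_two hG hF hX (fun f hf w hw => by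
    obtain ⟨θ, hθ⟩ := Mp.exists_top hf
    rw [← hθ]
    exact hinv θ w hw) h2 hf hw

/-! ### existence -/

theorem Loc.stab [Finite G] {P : Subgroup G} {A D : Subgroup (MulAut P)} (h : Loc P A D) {X : Set G}
    (hX : ∀ z ∈ X, ∀ g, g * z = z * g) (hD : ∀ α ∈ A, (∀ z ∈ X, fn α z = z) → α ∈ D) :
    ∃ z ∈ X, ∃ A', A' ≤ A ∧ Loc P A' D ∧ ∀ α ∈ A', fn α z = z → α ∈ D := by
  have := Loc.finAut P
  induction A using WellFoundedLT.induction with
  | ind A ih =>
  obtain ⟨a, ha, haD⟩ := SetLike.not_le_iff_exists.1 h.ne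
  have h1 : ∃ z ∈ X, fn a z ≠ z := by
    by_contra h1
    push Not at h1
    exact haD (hD a ha h1)
  obtain ⟨z, hz, h1⟩ := h1
  have hzP : z ∈ P := h.mem_of_centralizes fun x _ => (hX z hz x).symm
  let A₁ : Subgroup (MulAut P) := A ⊓ MulAction.stabilizer (MulAut P) (⟨z, hzP⟩ : P)
  have hA₁ : ∀ α, α ∈ A₁ ↔ α ∈ A ∧ fn α z = z := fun α => by
    rw [fn_apply α hzP]
    exact and_congr_right fun _ => ⟨fun h3 => congrArg Subtype.val h3, fun h3 => Subtype.ext h3⟩
  by_cases h3 : A₁ ≤ D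
  · exact ⟨z, hz, A, le_rfl, h, fun α hα h4 => h3 ((hA₁ α).2 ⟨hα, h4⟩)⟩
  have h4 : Loc P A₁ D := h.sub (fun γ hγ => by
    obtain ⟨g, hg⟩ := mem_autTop_iff.1 hγ
    refine (hA₁ γ).2 ⟨h.autA hγ, ?_⟩
    rw [hg.fn hzP, hX z hz, mul_inv_cancel_right]) inf_le_left h3
  obtain ⟨w, hw, A', h5, h6⟩ := ih A₁ (lt_of_le_of_ne inf_le_left fun h5 => h1 ((hA₁ a).1 (h5 ▸ ha)).2) h4
    fun α hα => hD α hα.1
  exact ⟨w, hw, A', h5.trans inf_le_left, h6⟩

theorem Loc.locZ_bot {P : Subgroup G} {A D : Subgroup (MulAut P)} (h : Loc P A D) {z : G}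
    (hz : ∀ α ∈ A, fn α z = z → α ∈ D) : LocZ z P ⊥ :=
  ⟨A, D, h, fun α _ h1 => by
    have h2 : α = 1 := by
      ext x
      have h3 := h1 x x.2
      rw [Subgroup.mem_bot, inv_mul_eq_one, fn_apply _ x.2] at h3
      exact h3.symm
    rw [h2]
    exact D.one_mem, hz⟩

/-- **TH2 a**, with the data: `A ≤ Aut_F(P)`.  `X` is any invariant set of central elements, not all trivial. -/
theorem Hyp.exists_locZ' [Finite G] (hG : IsPGroup 2 G) {F : FusionSystem (⊤ : Subgroup G)} (h : Hyp F) {X : Set G}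
    (hX : ∀ z ∈ X, ∀ g, g * z = z * g) (hne : ∃ z ∈ X, z ≠ 1) (hinv : ∀ f, Mp F ⊤ f → ∀ w ∈ X, f w ∈ X) :
    ∃ z ∈ X, ∃ (P : Subgroup G) (A D : Subgroup (MulAut P)), F.IsEssential 2 P ∧ A ≤ F.autGroup P ∧ Loc P A D ∧
      ∀ α ∈ A, fn α z = z → α ∈ D := by
  have : Fact (Nat.Prime 2) := ⟨Nat.prime_two⟩
  have hS : IsPGroup 2 (⊤ : Subgroup G) := hG.to_subgroup ⊤
  have hWc : ∀ w ∈ Subgroup.closure X, ∀ g, g * w = w * g := fun w hw g =>
    Subgroup.mem_center_iff.1 ((Subgroup.closure_le (Subgroup.center G)).2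
      (fun z hz => Subgroup.mem_center_iff.2 (hX z hz)) hw) g
  have hW : ∀ {P : Subgroup G} (α : MulAut P), Subgroup.closure X ≤ P → (∀ z ∈ X, fn α z ∈ X) →
      ∀ w ∈ Subgroup.closure X, fn α w ∈ Subgroup.closure X := fun α hP hα w hw => by
    induction hw using Subgroup.closure_induction with
    | mem x hx => exact Subgroup.subset_closure (hα x hx)
    | one => rw [fn_map_one]; exact Subgroup.one_mem _
    | mul x y hx hy h1 h2 => rw [fn_map_mul α (hP hx) (hP hy)]; exact Subgroup.mul_mem _ h1 h2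
    | inv x hx h1 => rw [fn_map_inv α (hP hx)]; exact Subgroup.inv_mem _ h1
  obtain ⟨z, hz, hz1⟩ := hne
  rcases normal_failure hS h.sat (W := Subgroup.closure X) le_top
    (fun s _ w hw => by rw [hWc w hw s, mul_inv_cancel_right]; exact hw)
    (not_isNormal_of_core h.core fun h1 => hz1 (Subgroup.mem_bot.1 (h1 ▸ Subgroup.subset_closure hz))) with
    ⟨α, hα, r, k, -, -, -, ⟨w, hw, h1⟩, -⟩ | ⟨-, P, H, hf⟩
  · exact (h1 (hW α le_top (hinv _ (mp_fn le_rfl hα)) w hw)).elim
  · obtain ⟨h1, h2, -, -⟩ := moved_centre hS h.sat (W := Subgroup.closure X) le_top (fun s _ w hw => hWc w hw s) hf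
    obtain ⟨w, hw, A', h3, h4, h5⟩ := (hf.loc hG h.sat).stab hX fun α hα h3 =>
      (h2 α).2 ⟨hα, hW α h1 fun z hz => by rw [h3 z hz]; exact hz⟩
    exact ⟨w, hw, P, A', H, hf.ess, h3, h4, h5⟩

/-- **TH2 a.** -/
theorem Hyp.exists_locZ [Finite G] (hG : IsPGroup 2 G) {F : FusionSystem (⊤ : Subgroup G)} (h : Hyp F) {X : Set G}
    (hX : ∀ z ∈ X, ∀ g, g * z = z * g) (hne : ∃ z ∈ X, z ≠ 1) (hinv : ∀ f, Mp F ⊤ f → ∀ w ∈ X, f w ∈ X) :
    ∃ z ∈ X, ∃ P : Subgroup G, F.IsEssential 2 P ∧ LocZ z P ⊥ := by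
  obtain ⟨z, hz, P, A, D, h1, -, h2, h3⟩ := h.exists_locZ' hG hX hne hinv
  exact ⟨z, hz, P, h1, h2.locZ_bot h3⟩

/-- **TH2 a** for a set invariant under `Aut(G)`. -/
theorem Hyp.exists_locZ_char [Finite G] (hG : IsPGroup 2 G) {F : FusionSystem (⊤ : Subgroup G)} (h : Hyp F)
    {X : Set G} (hX : ∀ z ∈ X, ∀ g, g * z = z * g) (hne : ∃ z ∈ X, z ≠ 1)
    (hinv : ∀ θ : MulAut G, ∀ w ∈ X, θ w ∈ X) : ∃ z ∈ X, ∃ P : Subgroup G, F.IsEssential 2 P ∧ LocZ z P ⊥ :=
  h.exists_locZ hG hX hne fun f hf w hw => by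
    obtain ⟨θ, hθ⟩ := Mp.exists_top hf
    rw [← hθ]
    exact hinv θ w hw

/-- Some central involution has a datum of level `0`. -/
theorem Hyp.exists_locZ_inv [Finite G] [Nontrivial G] (hG : IsPGroup 2 G) {F : FusionSystem (⊤ : Subgroup G)}
    (h : Hyp F) : ∃ z : G, z * z = 1 ∧ z ≠ 1 ∧ (∀ y, z * y = y * z) ∧ ∃ P, F.IsEssential 2 P ∧ LocZ z P ⊥ := by
  obtain ⟨z, hz, hz1⟩ : ∃ z ∈ omZ G, z ≠ 1 := by
    by_contra h1
    push Not at h1
    exact omZ_ne_bot hG ((Subgroup.eq_bot_iff_forall _).2 h1)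
  obtain ⟨w, hw, h1⟩ := h.exists_locZ_char hG (X := {w | w * w = 1 ∧ w ≠ 1 ∧ ∀ y, w * y = y * w})
    (fun w hw g => (hw.2.2 g).symm) ⟨z, ⟨hz.1, hz1, fun y => (hz.2 y).symm⟩, hz1⟩ fun θ w hw =>
      ⟨by rw [← map_mul, hw.1, map_one], fun h1 => hw.2.1 (θ.injective (h1.trans (map_one θ).symm)), fun y => by
        rw [← θ.apply_symm_apply y, ← map_mul, hw.2.2, map_mul]⟩
  exact ⟨w, hw.1, hw.2.1, hw.2.2, h1⟩

/-! ### the shape -/

/-- The shape of a datum of level `0`: `v = α z`, `u = α v`. -/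
structure Shape (P : Subgroup G) (z t : G) (α : MulAut P) : Prop where
  zP : z ∈ P
  cen : ∀ g, g * fn α z = fn α z * g ↔ g ∈ P
  cen2 : ∀ g, g * fn α (fn α z) = fn α (fn α z) * g ↔ g ∈ P
  inv : fn α (t * fn α z * t⁻¹) = z
  alt : (fn α (fn α z) = t * fn α z * t⁻¹ ∧ fn α (z * fn α z) = fn α z * (t * fn α z * t⁻¹)) ∨
    (fn α (fn α z) ≠ fn α z ∧ fn α (fn α z) ≠ t * fn α z * t⁻¹ ∧
      t * (fn α z * fn α (fn α z)) ≠ fn α z * fn α (fn α z) * t ∧
      ∃ β : MulAut P, fn β z = t * fn α (fn α z) * t⁻¹)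

/-- **TH2 b.** -/
theorem Loc.shape [Finite G] {P : Subgroup G} {A D : Subgroup (MulAut P)} (h : Loc P A D) {z : G}
    (hzc : ∀ g, g * z = z * g) (hz2 : z * z = 1) (hz : ∀ α ∈ A, fn α z = z → α ∈ D) {t : G}
    (htN : ∀ x ∈ P, t * x * t⁻¹ ∈ P) (htP : t ∉ P) (htt : t * t ∈ P) :
    ∃ α ∈ A, α ∉ D ∧ (∃ n, Odd n ∧ α ^ n = 1) ∧ Shape P z t α := by
  obtain ⟨y, hy, r, α, hd⟩ := h.exists_dih htN htP htt
  obtain ⟨k, hk⟩ := hd.ord
  have hodd : Odd (r ^ k) := (hd.prime.odd_of_ne_two hd.ne_two).pow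
  have hzP : z ∈ P := h.mem_of_centralizes fun x _ => (hzc x).symm
  obtain ⟨τ, hτ⟩ := exists_cj hd.tN
  let z' : P := ⟨z, hzP⟩
  have hc : ∀ (β : MulAut P) (x : P), x * β z' = β z' * x := fun β x => by
    have h1 : β.symm x * z' = z' * β.symm x := Subtype.ext (hzc _)
    have h2 := congrArg β h1
    rwa [map_mul, map_mul, β.apply_symm_apply] at h2
  have hτz : τ z' = z' := Subtype.ext (by rw [hτ, hzc, mul_inv_cancel_right])
  have hατ : ∀ x, α (τ (α x)) = τ x := fun x => by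
    have h1 := hd.inv x x.2
    rw [fn_apply α x.2, ← hτ, fn_apply α (Subtype.prop _), ← hτ] at h1
    exact Subtype.ext h1
  -- conjugation by `t` on the central elements
  obtain ⟨σ, hσ⟩ := exists_cj htN
  have hστ : ∀ β : MulAut P, ((τ (β z') : P) : G) = t * (β z' : P) * t⁻¹ := fun β => by
    have h1 := congrArg Subtype.val (hc (σ * β) ⟨y, hy⟩)
    simp only [Subgroup.coe_mul, MulAut.mul_apply] at h1
    rw [hσ] at h1
    rw [hτ, mul_inv_rev, mul_assoc y, mul_assoc y, ← mul_assoc (t * _), ← mul_assoc y, h1, mul_inv_cancel_right]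
  have e1 : fn α z = (α z' : P) := fn_apply α hzP
  have e2 : fn α (fn α z) = (α (α z') : P) := by rw [e1, fn_apply α (Subtype.prop _)]
  have i1 : α (τ (α z')) = z' := by rw [hατ, hτz]
  have i2 : α (τ (α (α z'))) = τ (α z') := hατ _
  have hαα : α * α ∉ D := fun h1 => hd.notMem (mem_of_sq_mem hodd hk h1)
  have hs : ∀ β : MulAut P, β ∈ MulAction.stabilizer (MulAut P) z' ↔ β z' = z' := fun β => Iff.rfl
  have hne : α z' ≠ z' := fun h1 => hd.notMem (hz α hd.mem (by rw [e1, h1]))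
  refine ⟨α, hd.mem, hd.notMem, ⟨_, hodd, hk⟩, hzP, h.cent_of_stab hzc hz hd.mem hd.notMem, fun g => ?_, ?_, ?_⟩
  · rw [← fn_mul _ _ hzP]
    exact h.cent_of_stab hzc hz (A.mul_mem hd.mem hd.mem) hαα g
  · rw [e1, ← hστ, fn_apply α (Subtype.prop _)]
    exact congrArg Subtype.val i1
  by_cases h3 : α (α z') = τ (α z')
  · left
    have h4 : fn α (fn α z) = t * fn α z * t⁻¹ := by rw [e2, e1, ← hστ, h3]
    exact ⟨h4, by rw [fn_map_mul α hzP (fn_mem α hzP), h4]⟩
  right
  refine ⟨fun h4 => ?_, fun h4 => h3 ?_, fun h4 => h3 ?_, τ * (α * α), ?_⟩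
  · rw [e2, e1] at h4
    exact hne (α.injective (Subtype.ext h4))
  · rw [e2, e1, ← hστ] at h4
    exact Subtype.ext h4
  · have h5 : τ (α z') * τ (α (α z')) = α z' * α (α z') := by
      apply Subtype.ext
      have h6 : ((τ (α (α z')) : P) : G) = t * (α (α z') : P) * t⁻¹ := hστ (α * α)
      rw [Subgroup.coe_mul, Subgroup.coe_mul, hστ, h6, ← e2, ← e1]
      calc t * fn α z * t⁻¹ * (t * fn α (fn α z) * t⁻¹) = t * (fn α z * fn α (fn α z)) * t⁻¹ := by group
        _ = _ := by rw [h4, mul_inv_cancel_right]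
    have hz2' : ∀ β : MulAut P, β z' * β z' = 1 := fun β => by
      rw [← map_mul, show z' * z' = 1 from Subtype.ext hz2, map_one]
    -- apply `α` twice and three times
    have h6 : α z' * z' = α (α (α z')) * α (α (α (α z'))) := by
      have h7 := congrArg (fun x => α (α x)) h5
      simp only [map_mul] at h7
      rwa [i1, i2, i1] at h7
    set a1 := α z' with ha1
    set a3 := α (α a1) with ha3
    have h7 : α (z' * a3) = z' * a3 := by
      have h8 : a3 * a3 = 1 := hz2' (α * α * α)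
      have h9 : z' * z' = 1 := hz2' 1
      have h10 : α a3 = a3 * (a1 * z') := by rw [h6, ← mul_assoc, h8, one_mul]
      have h11 : a1 * a1 = 1 := hz2' α
      have h12 : a3 * a1 = a1 * a3 := hc α a3
      rw [map_mul, ← ha1, h10, ← mul_assoc, ← h12, mul_assoc, ← mul_assoc a1, h11, one_mul]
      exact hc 1 a3
    have h8 : (α * α * α) * (α * α * α) ∈ MulAction.stabilizer (MulAut P) z' := by
      rw [hs]
      show α (α (α a3)) = z'
      have h9 : z' * z' = 1 := hz2' 1
      have h10 : a3 = z' * (z' * a3) := by rw [← mul_assoc, h9, one_mul]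
      have h11 : a3 * a3 = 1 := hz2' (α * α * α)
      rw [h10, map_mul, h7, map_mul, h7, map_mul, h7, ← ha1, ← ha3, ← mul_assoc, show a3 * z' = z' * a3 from hc 1 a3,
        mul_assoc, h11, mul_one]
    have h9 := (hs _).1 (mem_of_sq_mem hodd (by
      rw [← pow_three', ← pow_mul, mul_comm, pow_mul, hk, one_pow]) h8)
    apply α.injective
    rw [i1]
    exact h9
  · rw [fn_apply _ hzP, e2]
    exact hστ (α * α)

theorem LocZ.shape [Finite G] {P M : Subgroup G} {z : G} (h : LocZ z P M) (hzc : ∀ g, g * z = z * g) (hz2 : z * z = 1)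
    {t : G} (htN : ∀ x ∈ P, t * x * t⁻¹ ∈ P) (htP : t ∉ P) (htt : t * t ∈ P) : ∃ α : MulAut P, Shape P z t α := by
  obtain ⟨A, D, h1, -, h2⟩ := h
  obtain ⟨α, -, -, -, h3⟩ := h1.shape hzc hz2 h2 htN htP htt
  exact ⟨α, h3⟩

theorem LocZ.exists_shape [Finite G] {P M : Subgroup G} {z : G} (h : LocZ z P M) (hzc : ∀ g, g * z = z * g)
    (hz2 : z * z = 1) :
    ∃ t, (∀ x ∈ P, t * x * t⁻¹ ∈ P) ∧ t ∉ P ∧ t * t ∈ P ∧ ∃ α : MulAut P, Shape P z t α := by
  obtain ⟨A, D, h1, h2⟩ := id h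
  obtain ⟨t, h3, h4, h5⟩ := h1.exists_sq
  exact ⟨t, h3, h4, h5, h.shape hzc hz2 h3 h4 h5⟩

end Cfsg.Agent.FS.Th
end
end

-- part: FS/Th/G2
section
prune_inst 0x20100400242200000000000000001c4282000002004b0000000000000481084100000e20b200021201200024003a806003000009420000000a008200411c0080040220c21000b10001000040c800000000000000000000000000000000000000000000000
set_option linter.all false
open scoped Cfsg.Agent.FastGrp

-- part: FS/Sw/Box
section
/-!
# The theory boxes used by the filter on pairs (helper49, project FS)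
-/

set_option autoImplicit false

namespace Cfsg.Agent.FS.Sw

open Cfsg Cfsg.FusionSystem Cfsg.Agent.H752 Cfsg.Agent.FS.Th

universe u

/-- `x ∈ Ω₁ Z(P)` -/
def InV {G : Type u} [Group G] (P : Subgroup G) (x : G) : Prop := x ∈ P ∧ x * x = 1 ∧ ∀ y ∈ P, y * x = x * y

/-- TH2 c. -/
def BoxG2 : Prop := ∀ (G : Type u) [Group G] [Finite G] (P : Subgroup G) (A D : Subgroup (MulAut P)) (z : G),
  Loc P A D → z * z = 1 → (∀ g, g * z = z * g) → (∀ α ∈ A, fn α z = z → α ∈ D) →
  8 * Nat.card P ≤ Nat.card (Subgroup.normalizer (P : Set G)) → Nat.card {x // InV P x} ≤ 32 → False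

end Cfsg.Agent.FS.Sw
end

-- part: FS/Th/G2
section
/-!
# G2: `|N(P) : P| ≥ 8` needs a section of rank at least `6` (helper83, project FS)
-/

set_option autoImplicit false

namespace Cfsg.Agent.FS.Th

open Cfsg Cfsg.FusionSystem Cfsg.Agent.H802 Cfsg.Agent.H752

universe u v

section abstract

variable {A V : Type*} [Group A] [CommGroup V]

/-- `x ↦ x * τ x` -/
def cm (τ : MulAut V) : V →* V := MonoidHom.mk' (fun x => x * τ x) fun x y => by
  rw [map_mul, mul_mul_mul_comm]

theorem cm_apply (τ : MulAut V) (x : V) : cm τ x = x * τ x := rfl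

theorem mem_ker_cm (hV : ∀ x : V, x * x = 1) (τ : MulAut V) (x : V) : x ∈ (cm τ).ker ↔ τ x = x := by
  rw [MonoidHom.mem_ker, cm_apply]
  constructor
  · intro h
    exact mul_left_cancel (h.trans (hV x).symm)
  · intro h
    rw [h, hV]

theorem range_le_ker_cm (hV : ∀ x : V, x * x = 1) {τ : MulAut V} (h2 : τ * τ = 1) : (cm τ).range ≤ (cm τ).ker := by
  rintro _ ⟨x, rfl⟩
  rw [mem_ker_cm hV, cm_apply, map_mul, ← MulAut.mul_apply, h2, MulAut.one_apply, mul_comm]

theorem card_cm (τ : MulAut V) : Nat.card V = Nat.card (cm τ).range * Nat.card (cm τ).ker := by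
  rw [Subgroup.card_eq_card_quotient_mul_card_subgroup (cm τ).ker,
    Nat.card_congr (QuotientGroup.quotientKerEquivRange (cm τ)).toEquiv]

theorem card_range_cm [Finite V] (hV : ∀ x : V, x * x = 1) (hc : Nat.card V ≤ 32) {τ : MulAut V} (h2 : τ * τ = 1)
    (hnt : ∀ v, ¬ ∀ x, τ x = x ∨ τ x = x * v) : Nat.card (cm τ).range = 4 := by
  have : Fact (Nat.Prime 2) := ⟨Nat.prime_two⟩
  have hp : IsPGroup 2 V := fun x => ⟨1, by rw [pow_one, pow_two, hV]⟩
  obtain ⟨k, hk⟩ := IsPGroup.iff_card.1 (hp.to_subgroup (cm τ).range)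
  have h1 : Nat.card (cm τ).range ≤ Nat.card (cm τ).ker := Subgroup.card_le_of_le (range_le_ker_cm hV h2)
  have h3 := card_cm τ
  have h4 : Nat.card (cm τ).range * Nat.card (cm τ).range ≤ 32 :=
    (Nat.mul_le_mul_left _ h1).trans (h3 ▸ hc)
  have key : ∀ x, τ x = x * cm τ x := fun x => by rw [cm_apply, ← mul_assoc, hV, one_mul]
  have h5 : 2 < Nat.card (cm τ).range := by
    obtain ⟨x, hx⟩ := not_forall.1 (hnt 1)
    obtain ⟨y, hy⟩ := not_forall.1 (hnt (cm τ x))
    have := Fintype.ofFinite (cm τ).range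
    rw [Nat.card_eq_fintype_card, Fintype.two_lt_card_iff]
    refine ⟨1, ⟨_, x, rfl⟩, ⟨_, y, rfl⟩, fun e => hx (Or.inl ?_), fun e => hy (Or.inl ?_), fun e => hy (Or.inr ?_)⟩
    · have e1 : 1 = cm τ x := congrArg Subtype.val e
      rw [key, ← e1, mul_one]
    · have e1 : 1 = cm τ y := congrArg Subtype.val e
      rw [key, ← e1, mul_one]
    · have e1 : cm τ x = cm τ y := congrArg Subtype.val e
      rw [key, ← e1]
  rw [hk] at h4 h5 ⊢
  have h6 : k < 3 := by
    by_contra h6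
    have h7 : 2 ^ 3 ≤ 2 ^ k := Nat.pow_le_pow_right (by norm_num) (by omega)
    have h8 := Nat.mul_le_mul h7 h7
    omega
  interval_cases k <;> simp_all only [_root_.MonoidHom.mem_range, _root_.nonempty_subtype, ↓ _root_.ExistsAndEq.existsAndEq, _root_.exists_const, _root_.MonoidHom.mem_ker, _root_.mul_eq_left, _root_.mul_right_inj, _root_.Classical.not_forall, _root_.not_or, _root_.pow_zero, _root_.mul_one, _root_.Nat.one_le_ofNat, _root_.Nat.not_ofNat_lt_one, _root_.pow_one, _root_.Nat.reduceMul, _root_.Nat.reduceLeDiff, _root_.lt_self_iff_false, _root_.Nat.reducePow, _root_.Nat.reduceLT, _root_.Nat.lt_add_one]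

theorem four_cases [Finite V] (hV : ∀ x : V, x * x = 1) {U : Subgroup V} (h4 : Nat.card U = 4) {e : V} (he : e ∈ U)
    (he1 : e ≠ 1) : ∃ e' : V, ∀ c ∈ U, c = 1 ∨ c = e ∨ c = e' ∨ c = e * e' := by
  classical
  have hU : (U : Set V).ncard = 4 := by rw [← h4]; rfl
  obtain ⟨e', he', h1⟩ : ∃ e' ∈ (U : Set V), e' ∉ ({1, e} : Set V) :=
    Set.exists_mem_notMem_of_ncard_lt_ncard (by
      have := Set.ncard_insert_le (1 : V) {e}
      rw [Set.ncard_singleton] at this
      omega)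
  simp only [Set.mem_insert_iff, Set.mem_singleton_iff, not_or] at h1
  refine ⟨e', fun c hc => ?_⟩
  have h2 : ({1, e, e', e * e'} : Set V) ⊆ U := by
    intro x hx
    simp only [Set.mem_insert_iff, Set.mem_singleton_iff] at hx
    rcases hx with rfl | rfl | rfl | rfl
    exacts [U.one_mem, he, he', U.mul_mem he he']
  have h3 : ({1, e, e', e * e'} : Set V).ncard = 4 := by
    rw [Set.ncard_eq_four]
    refine ⟨1, e, e', e * e', he1.symm, Ne.symm h1.1, fun h => h1.2 ?_, Ne.symm h1.2, fun h => h1.1 ?_,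
      fun h => he1 ?_, rfl⟩
    · exact mul_left_cancel (h.symm.trans (hV e).symm)
    · exact (left_eq_mul.1 h)
    · exact (right_eq_mul.1 h)
  have h5 := Set.eq_of_subset_of_ncard_le h2 (by rw [hU, h3])
  have h6 : c ∈ ({1, e, e', e * e'} : Set V) := h5 ▸ hc
  simpa only [Set.mem_insert_iff, Set.mem_singleton_iff] using h6

/-- `x` fixes only the block `D`. -/
def Fr (D : Subgroup A) (x : A) : Prop := ∀ a, a * x * a⁻¹ ∈ D → a ∈ D

/-- NT for the stabilizer of `e` on `V / ⟨e⟩`. -/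
theorem nt_mod (ρ : A →* MulAut V) (hV : ∀ x : V, x * x = 1) (D : Subgroup A) {τ h b : A} (hτ2 : ρ τ * ρ τ = 1)
    (hhD : h ∈ D) (hh : Fr D h⁻¹) (hhτ : Fr D (h⁻¹ * τ))
    (hodd : ∀ a ∉ D, ∃ m n : ℕ, Odd n ∧ (τ * (a * τ * a⁻¹)) ^ m ∉ D ∧ ((τ * (a * τ * a⁻¹)) ^ m) ^ n = 1)
    (hker : ∀ a, ρ a = 1 → a ∈ D) {e e' : V} (hτe : ρ τ e = e) (hhe : ρ h e = e) (hbe : ρ b e = e)
    (htv : ∀ x, cm (ρ τ) x = 1 ∨ cm (ρ τ) x = e ∨ cm (ρ τ) x = e' ∨ cm (ρ τ) x = e * e') : b ∈ D := by
  by_contra hb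
  let E : Subgroup V := Subgroup.zpowers e
  have hE : ∀ x ∈ E, x = 1 ∨ x = e := fun x hx => by
    obtain ⟨k, rfl⟩ := hx
    have h2 : e ^ (2 : ℤ) = 1 := by rw [zpow_two, hV]
    rcases Int.even_or_odd' k with ⟨j, rfl | rfl⟩
    · left
      show e ^ (2 * j) = 1
      rw [zpow_mul, h2, one_zpow]
    · right
      show e ^ (2 * j + 1) = e
      rw [zpow_add, zpow_mul, h2, one_zpow, one_mul, zpow_one]
  let S : Subgroup (MulAut V) := MulAction.stabilizer (MulAut V) e
  obtain ⟨ρ₁, hρ₁⟩ := exists_descAut (QuotientGroup.mk' E) (QuotientGroup.mk'_surjective _) S fun α hα x hx => by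
    have h1 : α e = e := hα
    rcases hE x ((QuotientGroup.eq_one_iff x).1 hx) with rfl | rfl
    · rw [map_one, map_one]
    · rw [h1]
      exact hx
  let B : Subgroup A := S.comap ρ
  let ρ₂ : B →* MulAut (V ⧸ E) := ρ₁.comp (ρ.subgroupComap S)
  have hρ₂ : ∀ (a : B) (x : V), ρ₂ a (QuotientGroup.mk' E x) = QuotientGroup.mk' E (ρ a x) := fun a x => hρ₁ _ x
  have he1 : QuotientGroup.mk' E e = 1 := (QuotientGroup.eq_one_iff e).2 (Subgroup.mem_zpowers e)
  have hτB : τ ∈ B := hτe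
  have hhB : h ∈ B := hhe
  have hbB : b ∈ B := hbe
  refine nt_abstract ρ₂ (fun x => ?_) (D.subgroupOf B) (τ := ⟨τ, hτB⟩) (h := ⟨h, hhB⟩) (a₀ := ⟨b, hbB⟩)
    (v := QuotientGroup.mk' E e') ?_ (fun x => ?_) (fun a ha => ?_) (fun a ha he => ?_) ?_ ?_ ?_ hb
  · obtain ⟨y, rfl⟩ := QuotientGroup.mk'_surjective E x
    rw [← map_mul, hV, map_one]
  · ext x
    obtain ⟨y, rfl⟩ := QuotientGroup.mk'_surjective E x
    rw [MulAut.mul_apply, hρ₂, hρ₂, ← MulAut.mul_apply, hτ2]
    rfl
  · obtain ⟨y, rfl⟩ := QuotientGroup.mk'_surjective E x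
    have key : ρ τ y = y * cm (ρ τ) y := by rw [cm_apply, ← mul_assoc, hV, one_mul]
    rw [hρ₂, key, map_mul]
    rcases htv y with e1 | e1 | e1 | e1 <;> rw [e1]
    · exact Or.inl (by rw [map_one, mul_one])
    · exact Or.inl (by rw [he1, mul_one])
    · exact Or.inr rfl
    · exact Or.inr (by rw [map_mul, he1, one_mul])
  · obtain ⟨m, n, hn, h1, h2⟩ := hodd a ha
    exact ⟨m, n, hn, h1, Subtype.ext h2⟩
  · obtain ⟨m, n, hn, h1, h2⟩ := hodd a ha
    set ν : B := ⟨τ, hτB⟩ * (a * ⟨τ, hτB⟩ * a⁻¹) with hν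
    have h3 : ρ₂ ν = 1 := by
      rw [hν, map_mul, he]
      ext x
      obtain ⟨y, rfl⟩ := QuotientGroup.mk'_surjective E x
      rw [MulAut.mul_apply, hρ₂, hρ₂, ← MulAut.mul_apply, hτ2]
      rfl
    have h4 : ρ ν e = e := ν.2
    have h5 : ρ ν ^ 2 = 1 := by
      ext x
      have h6 := hρ₂ ν x
      rw [h3, MulAut.one_apply] at h6
      have h7 := hE _ (QuotientGroup.eq.1 h6)
      rw [pow_two, MulAut.mul_apply, MulAut.one_apply]
      rcases h7 with h7 | h7
      · have h8 : ρ ν x = x := (inv_mul_eq_one.1 h7).symm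
        rw [h8, h8]
      · have h8 : ρ ν x = x * e := by rw [← h7, mul_inv_cancel_left]
        rw [h8, map_mul, h8, h4, mul_assoc, hV, mul_one]
    have h6 : ρ ((ν : A) ^ m) ^ 2 = 1 := by rw [map_pow, ← pow_mul, mul_comm, pow_mul, h5, one_pow]
    have h7 : ρ ((ν : A) ^ m) ^ n = 1 := by
      rw [← map_pow]
      exact (congrArg ρ h2).trans (map_one ρ)
    refine h1 (hker _ ?_)
    show ρ ((ν : A) ^ m) = 1
    rw [← orderOf_eq_one_iff]
    exact Nat.eq_one_of_dvd_coprimes (Nat.coprime_two_left.2 hn) (orderOf_dvd_of_pow_eq_one h6)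
      (orderOf_dvd_of_pow_eq_one h7)
  · intro h1
    have h2 : (h * b)⁻¹ ∈ D := h1
    exact hb ((D.mul_mem_cancel_left hhD).1 ((D.inv_mem_iff).1 h2))
  · intro h1
    have h2 : (h * b)⁻¹ * b ∈ D := h1
    refine hb ((D.inv_mem_iff).1 (hh b⁻¹ ?_))
    rwa [mul_inv_rev, ← inv_inv b, inv_inv b⁻¹] at h2
  · intro h1
    have h2 : (h * b)⁻¹ * (τ * b) ∈ D := h1
    refine hb ((D.inv_mem_iff).1 (hhτ b⁻¹ ?_))
    have h3 : b⁻¹ * (h⁻¹ * τ) * b⁻¹⁻¹ = (h * b)⁻¹ * (τ * b) := by group
    rwa [h3]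

/-- The abstract G2 argument. -/
theorem g2_abstract [Finite V] (ρ : A →* MulAut V) (hV : ∀ x : V, x * x = 1) (hc : Nat.card V ≤ 32)
    (D : Subgroup A) {τ a₀ : A} (g : Fin 8 → A) (hτ2 : ρ τ * ρ τ = 1) (hgD : ∀ i, g i ∈ D)
    (hcen : ∀ i, ρ (g i) * ρ τ = ρ τ * ρ (g i)) (hτ : Fr D τ) (hg : ∀ i j, i ≠ j → Fr D ((g i)⁻¹ * g j))
    (h3 : ∀ i j k, j ≠ k → Fr D (((g i)⁻¹ * g j)⁻¹ * τ) ∨ Fr D (((g i)⁻¹ * g k)⁻¹ * τ))
    (hodd : ∀ a ∉ D, ∃ m n : ℕ, Odd n ∧ (τ * (a * τ * a⁻¹)) ^ m ∉ D ∧ ((τ * (a * τ * a⁻¹)) ^ m) ^ n = 1)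
    (hker : ∀ a, ρ a = 1 → a ∈ D) (ha : a₀ ∉ D) : False := by
  classical
  -- a stabilizer lemma for `e` with three of the `g i` agreeing on `e`
  have hst : ∀ (e e' : V) (b : A), ρ τ e = e → ρ b e = e →
      (∀ x, cm (ρ τ) x = 1 ∨ cm (ρ τ) x = e ∨ cm (ρ τ) x = e' ∨ cm (ρ τ) x = e * e') →
      ∀ i j k, i ≠ j → i ≠ k → j ≠ k → ρ (g i) e = ρ (g j) e → ρ (g i) e = ρ (g k) e → b ∈ D := by
    intro e e' b h1 h2 h4 i j k hij hik hjk e1 e2
    have f : ∀ j, i ≠ j → ρ (g i) e = ρ (g j) e → Fr D (((g i)⁻¹ * g j)⁻¹ * τ) → b ∈ D := fun j hij e1 hf =>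
      nt_mod ρ hV D (h := (g i)⁻¹ * g j) hτ2 (D.mul_mem (D.inv_mem (hgD i)) (hgD j))
        (by rw [mul_inv_rev, inv_inv]; exact hg j i hij.symm) hf hodd hker h1
        (by rw [map_mul, map_inv, MulAut.mul_apply, ← e1, MulAut.inv_apply_self]) h2 h4
    rcases h3 i j k hjk with h5 | h5
    exacts [f j hij e1 h5, f k hik e2 h5]
  have hnt : ∀ v, ¬ ∀ x, ρ τ x = x ∨ ρ τ x = x * v := fun v hv =>
    ha (hst 1 v a₀ (map_one _) (map_one _) (fun x => by
      rcases hv x with e | e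
      · left
        rw [cm_apply, e, hV]
      · right; right; left
        rw [cm_apply, e, ← mul_assoc, hV, one_mul]) 0 1 2 (by decide) (by decide) (by decide)
      (by rw [map_one, map_one]) (by rw [map_one, map_one]))
  set U := (cm (ρ τ)).range with hU
  set C := (cm (ρ τ)).ker with hC
  have h4 : Nat.card U = 4 := card_range_cm hV hc hτ2 hnt
  have hUC : U ≤ C := range_le_ker_cm hV hτ2
  have hCm : ∀ x, x ∈ C ↔ ρ τ x = x := mem_ker_cm hV _
  let W := {e : V // e ∈ (U : Set V) \ {1}}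
  have hW : Nat.card W = 3 := by
    have h5 : ((U : Set V) \ {1}).ncard = (U : Set V).ncard - 1 := Set.ncard_sdiff_singleton_of_mem U.one_mem
    have h6 : (U : Set V).ncard = 4 := by rw [← h4]; rfl
    rw [h6] at h5
    exact h5
  have hgU : ∀ i, ∀ e ∈ U, ρ (g i) e ∈ U := by
    rintro i _ ⟨x, rfl⟩
    refine ⟨ρ (g i) x, ?_⟩
    rw [cm_apply, cm_apply, map_mul, ← MulAut.mul_apply _ (ρ τ), ← hcen, MulAut.mul_apply]
  -- the stabilizers of the elements of `U` lie in `D`
  have hS : ∀ e : W, ∀ b, ρ b e = e → b ∈ D := by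
    rintro ⟨e, he, he1⟩ b hb
    obtain ⟨e', he'⟩ := four_cases hV h4 he he1
    have := Fintype.ofFinite W
    obtain ⟨y, hy⟩ := Fintype.exists_lt_card_fiber_of_mul_lt_card (n := 2)
      (fun i : Fin 8 => (⟨ρ (g i) e, hgU i e he, fun h => he1 ((ρ (g i)).injective (h.trans (map_one _).symm))⟩ : W))
      (by rw [← Nat.card_eq_fintype_card, hW]; decide)
    obtain ⟨i, hi, j, hj, k, hk, hij, hik, hjk⟩ := Finset.two_lt_card.1 hy
    simp only [Finset.mem_filter, Finset.mem_univ, true_and] at hi hj hk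
    exact hst e e' b ((hCm e).1 (hUC he)) hb (fun x => he' _ ⟨x, rfl⟩) i j k hij hik hjk
      (congrArg Subtype.val (hi.trans hj.symm)) (congrArg Subtype.val (hi.trans hk.symm))
  have hD : ∀ (e : W) (a : A), ρ a e ∈ C → a ∈ D := fun e a h => by
    refine (D.inv_mem_iff).1 (hτ a⁻¹ (hS e _ ?_))
    rw [inv_inv, map_mul, map_mul, MulAut.mul_apply, MulAut.mul_apply, (hCm _).1 h, map_inv, MulAut.inv_apply_self]
  have hblock : ∀ (i j : Fin 8) (e : W), ∀ c ∈ C, ρ (g i * a₀) e = ρ (g j * a₀) c → i = j := by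
    intro i j e c hc' h
    by_contra hij
    have h5 := hD e ((g j * a₀)⁻¹ * (g i * a₀)) (by
      rw [map_mul, MulAut.mul_apply, h, map_inv, MulAut.inv_apply_self]
      exact hc')
    refine ha ((D.inv_mem_iff).1 (hg j i (Ne.symm hij) a₀⁻¹ ?_))
    have h6 : a₀⁻¹ * ((g j)⁻¹ * g i) * a₀⁻¹⁻¹ = (g j * a₀)⁻¹ * (g i * a₀) := by group
    rwa [h6]
  have hga : ∀ i, g i * a₀ ∉ D := fun i h => ha ((D.mul_mem_cancel_left (hgD i)).1 h)
  let f : (Fin 8 × W) ⊕ C → V := Sum.elim (fun p => ρ (g p.1 * a₀) p.2) (fun c => c)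
  have hf : Function.Injective f := by
    rintro (⟨i, e⟩ | c) (⟨j, e'⟩ | c') h
    · have h5 : ρ (g i * a₀) e = ρ (g j * a₀) e' := h
      obtain rfl := hblock i j e e' (hUC e'.2.1) h5
      rw [Subtype.ext ((ρ _).injective h5)]
    · have h5 : ρ (g i * a₀) e = c' := h
      exact (hga i (hD e _ (h5 ▸ c'.2))).elim
    · have h5 : (c : V) = ρ (g j * a₀) e' := h
      exact (hga j (hD e' _ (h5 ▸ c.2))).elim
    · exact congrArg Sum.inr (Subtype.ext h)
  have hcard : Nat.card ((Fin 8 × W) ⊕ C) = 24 + Nat.card C := by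
    rw [Nat.card_sum, Nat.card_prod, hW, Nat.card_fin]
  have h5 := Nat.card_le_card_of_injective f hf
  have h6 : Nat.card V = 4 * Nat.card C := by rw [← h4]; exact card_cm _
  have hsurj := (hf.bijective_of_nat_card_le (by omega)).2
  have h7 : ∀ c ∈ C, c ∉ U → ρ (g 0 * a₀) c ∈ C := fun c hc' hcU => by
    obtain ⟨⟨j, e⟩ | c', h⟩ := hsurj (ρ (g 0 * a₀) c)
    · have h8 : ρ (g j * a₀) e = ρ (g 0 * a₀) c := h
      obtain rfl := hblock j 0 e c hc' h8
      exact (hcU ((ρ _).injective h8 ▸ e.2.1)).elim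
    · have h8 : (c' : V) = ρ (g 0 * a₀) c := h
      exact h8 ▸ c'.2
  obtain ⟨c, hc', hcU⟩ : ∃ c ∈ C, c ∉ U := by
    by_contra h8
    push Not at h8
    have h9 : Nat.card C ≤ Nat.card U := Subgroup.card_le_of_le h8
    omega
  obtain ⟨e⟩ : Nonempty W := (Nat.card_pos_iff.1 (by omega)).1
  have h8 := h7 (c * e) (C.mul_mem hc' (hUC e.2.1)) fun h => hcU ((U.mul_mem_cancel_right e.2.1).1 h)
  rw [map_mul] at h8
  exact hga 0 (hD e _ ((C.mul_mem_cancel_left (h7 c hc' hcU)).1 h8))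

end abstract

variable {G : Type u} [Group G] [Finite G] {P : Subgroup G} {A D : Subgroup (MulAut P)}

/-- A central involution of `N(P) / P` and eight coset representatives. -/
theorem exists_eight (hG : IsPGroup 2 G) (h8 : 8 * Nat.card P ≤ Nat.card (Subgroup.normalizer (P : Set G))) :
    ∃ (t : G) (g : Fin 8 → G), (∀ x ∈ P, t * x * t⁻¹ ∈ P) ∧ t ∉ P ∧ t * t ∈ P ∧ (∀ i, ∀ x ∈ P, g i * x * (g i)⁻¹ ∈ P) ∧
      (∀ i j, i ≠ j → (g i)⁻¹ * g j ∉ P) ∧ ∀ i, g i * t * (t * g i)⁻¹ ∈ P := by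
  have : Fact (Nat.Prime 2) := ⟨Nat.prime_two⟩
  set N := Subgroup.normalizer (P : Set G) with hN
  have hn : (P.subgroupOf N).Normal := Subgroup.normal_in_normalizer
  have h1 : Nat.card N = Nat.card (N ⧸ P.subgroupOf N) * Nat.card P := by
    rw [Subgroup.card_eq_card_quotient_mul_card_subgroup (P.subgroupOf N),
      Nat.card_congr (Subgroup.subgroupOfEquivOfLe Subgroup.le_normalizer).toEquiv]
  have h2 : 8 ≤ Nat.card (N ⧸ P.subgroupOf N) := Nat.le_of_mul_le_mul_right (h1 ▸ h8) Nat.card_pos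
  have hQ : IsPGroup 2 (N ⧸ P.subgroupOf N) := (hG.to_subgroup N).to_quotient _
  have hnt : Nontrivial (N ⧸ P.subgroupOf N) := Finite.one_lt_card_iff_nontrivial.1 (by omega)
  have hZ := hQ.center_nontrivial
  obtain ⟨k, hk0, hk⟩ := (hQ.to_subgroup (Subgroup.center _)).nontrivial_iff_card.1 hZ
  obtain ⟨c, hc⟩ := exists_prime_orderOf_dvd_card' (G := Subgroup.center (N ⧸ P.subgroupOf N)) 2
    (hk ▸ dvd_pow_self 2 hk0.ne')
  obtain ⟨t, ht⟩ := QuotientGroup.mk'_surjective (P.subgroupOf N) c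
  have := Fintype.ofFinite (N ⧸ P.subgroupOf N)
  obtain ⟨f⟩ : Nonempty (Fin 8 ↪ N ⧸ P.subgroupOf N) :=
    Function.Embedding.nonempty_of_card_le (by rwa [Fintype.card_fin, ← Nat.card_eq_fintype_card])
  choose g hg using fun i => QuotientGroup.mk'_surjective (P.subgroupOf N) (f i)
  have hm : ∀ y : N, ∀ x ∈ P, (y : G) * x * (y : G)⁻¹ ∈ P := fun y x hx => (Subgroup.mem_normalizer_iff.1 y.2 x).1 hx
  refine ⟨t, fun i => g i, hm t, fun h => ?_, ?_, fun i => hm (g i), fun i j hij h => hij (f.injective ?_), fun i => ?_⟩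
  · have h3 : c = 1 := Subtype.ext (ht.symm.trans ((QuotientGroup.eq_one_iff t).2 h))
    rw [h3, orderOf_one] at hc
    omega
  · have h3 : c * c = 1 := by rw [← pow_two, ← hc, pow_orderOf_eq_one]
    have h4 : QuotientGroup.mk' (P.subgroupOf N) (t * t) = 1 := by
      rw [map_mul, ht]
      exact congrArg Subtype.val h3
    exact (QuotientGroup.eq_one_iff (t * t)).1 h4
  · rw [← hg, ← hg]
    exact QuotientGroup.eq.2 h
  · have h4 : QuotientGroup.mk' (P.subgroupOf N) (g i * t * (t * g i)⁻¹) = 1 := by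
      rw [map_mul, map_inv, map_mul, map_mul, ht, Subgroup.mem_center_iff.1 c.2, mul_inv_cancel]
    exact (QuotientGroup.eq_one_iff (g i * t * (t * g i)⁻¹)).1 h4

namespace Loc

/-- **G2** for an abstract `A`-module `V` on which `P` acts trivially and whose kernel lies in `D`. -/
theorem g2_module (h : Loc P A D) {V : Type*} [Group V] [Finite V] (ρ : A →* MulAut V) (hV : ∀ x : V, x * x = 1)
    (hc : Nat.card V ≤ 32) (hinn : ∀ (y : P) (hy : MulAut.conj y ∈ A), ρ ⟨_, hy⟩ = 1)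
    (hker : ∀ a : A, ρ a = 1 → a.1 ∈ D) (h8 : 8 * Nat.card P ≤ Nat.card (Subgroup.normalizer (P : Set G))) :
    False := by
  have hcomm : ∀ x y : V, x * y = y * x := fun x y => by
    have e1 : (x * y)⁻¹ = x * y := inv_eq_of_mul_eq_one_right (hV _)
    rw [← e1, mul_inv_rev, inv_eq_of_mul_eq_one_right (hV x), inv_eq_of_mul_eq_one_right (hV y)]
  obtain ⟨t, g, htN, htP, htt, hgN, hgP, hgt⟩ := exists_eight h.pg h8
  obtain ⟨a, ha, haD⟩ := SetLike.not_le_iff_exists.1 h.ne
  obtain ⟨τ, hτ⟩ := exists_cj htN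
  choose γ hγ using fun i => exists_cj (hgN i)
  have hone : ∀ (y : G) (β : A), y ∈ P → Cj y β.1 → ρ β = 1 := fun y β hy hβ => by
    have e : β.1 = MulAut.conj (⟨y, hy⟩ : P) := hβ.unique (cj_conj ⟨y, hy⟩)
    rw [← hinn ⟨y, hy⟩ (e ▸ β.2)]
    congr 1
    exact Subtype.ext e
  have hfr : ∀ (y : G) (β : A), y ∉ P → Cj y β.1 → Fr (D.subgroupOf A) β := fun y β hy hβ b hb =>
    h.se b b.2 y β hy hβ hb
  let _ : CommGroup V := { (inferInstance : Group V) with mul_comm := hcomm }
  refine g2_abstract ρ hV hc (D.subgroupOf A) (τ := ⟨τ, h.autA hτ.mem⟩) (a₀ := ⟨a, ha⟩)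
    (fun i => ⟨γ i, h.autA (hγ i).mem⟩) ?_ (fun i => h.autD (hγ i).mem) (fun i => ?_) (hfr t _ htP hτ)
    (fun i j hij => hfr _ _ (hgP i j hij) ((hγ i).inv.mul (hγ j))) (fun i j k hjk => ?_) (fun b hb => ?_) hker haD
  · rw [← map_mul]
    exact hone _ _ htt (hτ.mul hτ)
  · rw [← mul_inv_eq_one, ← map_mul, ← map_mul, ← map_inv, ← map_mul]
    exact hone _ _ (hgt i) (((hγ i).mul hτ).mul (hτ.mul (hγ i)).inv)
  · by_cases h1 : ((g i)⁻¹ * g j)⁻¹ * t ∈ P
    · refine Or.inr (hfr _ _ (fun h2 => hgP j k hjk ?_) (((hγ i).inv.mul (hγ k)).inv.mul hτ))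
      have h3 : (g j)⁻¹ * g k = ((g i)⁻¹ * g j)⁻¹ * t * (((g i)⁻¹ * g k)⁻¹ * t)⁻¹ := by group
      rw [h3]
      exact P.mul_mem h1 (P.inv_mem h2)
    · exact Or.inl (hfr _ _ h1 (((hγ i).inv.mul (hγ j)).inv.mul hτ))
  · obtain ⟨y, -, r, m, h1⟩ := h.exists_dih' b.2 hb htP htt hτ
    obtain ⟨k, hk⟩ := h1.ord
    exact ⟨m, r ^ k, (h1.prime.odd_of_ne_two h1.ne_two).pow, h1.notMem, Subtype.ext hk⟩

/-- **G2 on an invariant elementary abelian central subgroup `K` of `P`.** -/
theorem g2_sub (h : Loc P A D) {K : Subgroup G} (hKP : K ≤ P) (hKA : ∀ α ∈ A, ∀ x ∈ K, fn α x ∈ K)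
    (hK2 : ∀ x ∈ K, x * x = 1) (hKc : ∀ x ∈ K, ∀ y ∈ P, y * x = x * y) (hc : Nat.card K ≤ 32)
    (hker : ∀ α ∈ A, (∀ x ∈ K, fn α x = x) → α ∈ D)
    (h8 : 8 * Nat.card P ≤ Nat.card (Subgroup.normalizer (P : Set G))) : False := by
  obtain ⟨ρ, hρ⟩ := exists_resAut (K.subgroupOf P) A fun α hα x hx => by
    have h1 := hKA α hα x hx
    rwa [fn_apply α x.2] at h1
  refine h.g2_module ρ (fun x => Subtype.ext (Subtype.ext (hK2 _ x.2)))
    (by rwa [Nat.card_congr (Subgroup.subgroupOfEquivOfLe hKP).toEquiv]) (fun y hy => ?_)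
    (fun a he => hker a a.2 fun x hx => ?_) h8
  · ext x
    rw [hρ]
    show (y : G) * x * (y : G)⁻¹ = x
    rw [hKc ((x : P) : G) x.2 y y.2, mul_inv_cancel_right]
  · have h1 := hρ a ⟨⟨x, hKP hx⟩, hx⟩
    rw [he] at h1
    rw [fn_apply _ (hKP hx), ← h1]
    rfl

end Loc

/-- `Ω₁ Z(P)` -/
def inVS (P : Subgroup G) : Subgroup G where
  carrier := {x | Sw.InV P x}
  one_mem' := ⟨P.one_mem, mul_one 1, fun y _ => by rw [mul_one, one_mul]⟩
  mul_mem' := fun {a b} ha hb => ⟨P.mul_mem ha.1 hb.1, by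
      rw [mul_assoc, ← mul_assoc b, ha.2.2 b hb.1, mul_assoc, hb.2.1, mul_one, ha.2.1], fun y hy => by
    rw [← mul_assoc, ha.2.2 y hy, mul_assoc, hb.2.2 y hy, mul_assoc]⟩
  inv_mem' := fun {a} ha => by
    rw [inv_eq_of_mul_eq_one_right ha.2.1]
    exact ha

omit [Finite G] in
theorem fn_mem_inVS (α : MulAut P) {x : G} (hx : x ∈ inVS P) : fn α x ∈ inVS P := by
  refine ⟨fn_mem _ hx.1, ?_, fun y hy => ?_⟩
  · rw [← fn_map_mul α hx.1 hx.1, hx.2.1, fn_map_one]
  · rw [← fn_fn_inv α hy, ← fn_map_mul α (fn_mem _ hy) hx.1, ← fn_map_mul α hx.1 (fn_mem _ hy),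
      hx.2.2 _ (fn_mem _ hy)]

/-- **TH2 c.** -/
theorem boxG2 : Sw.BoxG2.{u} := by
  intro G _ _ P A D z h hz2 hzc hz h8 hc
  have hzP : z ∈ P := h.mem_of_centralizes fun x _ => (hzc x).symm
  exact h.g2_sub (K := inVS P) (fun x hx => hx.1) (fun α _ x hx => fn_mem_inVS α hx) (fun x hx => hx.2.1)
    (fun x hx => hx.2.2) hc (fun α hα h1 => hz α hα (h1 z ⟨hzP, hz2, fun y _ => hzc y⟩)) h8

end Cfsg.Agent.FS.Th
end
end

-- part: FS/Sw/Snd
section
prune_inst 0x201064043300000000000000000000100000000000040000004000000041000000000000020000000000000000040020031000004000000000000000000401200002000090080100000000000000000000000000000000000000000000000000000000000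
set_option linter.all false
open scoped Cfsg.Agent.FastGrp

-- part: FS/Sw/Col
section
/-!
# The filter on pairs: colours are invariant under automorphisms (helper49, project FS)
-/

set_option autoImplicit false

namespace Cfsg.Agent.FS.Sw

open Cfsg.Agent.FS.Pc Cfsg.Agent.FS.Th Finset

universe u

variable {G : Type u} [Group G]

theorem card_fn {P : Subgroup G} (α : MulAut P) {S T : Set G} (hS : ∀ y ∈ S, y ∈ P) (hT : ∀ y ∈ T, y ∈ P)
    (h : ∀ y ∈ P, y ∈ S ↔ fn α y ∈ T) : Nat.card S = Nat.card T := by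
  refine Nat.card_eq_of_bijective (fun y : S => (⟨fn α y.1, (h _ (hS _ y.2)).1 y.2⟩ : T))
    ⟨fun x y hxy => Subtype.ext (fn_inj α (hS _ x.2) (hS _ y.2) (congrArg Subtype.val hxy)), fun y => ?_⟩
  have h1 := hT _ y.2
  exact ⟨⟨fn α⁻¹ y.1, (h _ (fn_mem _ h1)).2 (by rw [fn_fn_inv α h1]; exact y.2)⟩, Subtype.ext (fn_fn_inv α h1)⟩

theorem fn_eq_iff {P : Subgroup G} (α : MulAut P) {x y : G} (hx : x ∈ P) (hy : y ∈ P) : x = y ↔ fn α x = fn α y :=
  ⟨fun h => by rw [h], fn_inj α hx hy⟩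

/-- commuting pairs in `P` with a given square of the second member -/
def Prs (P : Subgroup G) (a : G) : Set (G × G) := {q | q.1 ∈ P ∧ q.2 ∈ P ∧ q.2 * q.2 = a ∧ q.1 * q.2 = q.2 * q.1}

theorem card_prs {P : Subgroup G} (α : MulAut P) {a : G} (ha : a ∈ P) :
    Nat.card (Prs P a) = Nat.card (Prs P (fn α a)) := by
  have h1 : ∀ (β : MulAut P) {b : G} (q : G × G), q ∈ Prs P b → (fn β q.1, fn β q.2) ∈ Prs P (fn β b) :=
    fun β b q ⟨q1, q2, q3, q4⟩ => ⟨fn_mem _ q1, fn_mem _ q2, by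
      show fn β q.2 * fn β q.2 = _
      rw [← fn_map_mul β q2 q2, q3], by
      show fn β q.1 * fn β q.2 = fn β q.2 * fn β q.1
      rw [← fn_map_mul β q1 q2, q4, fn_map_mul β q2 q1]⟩
  refine Nat.card_eq_of_bijective (fun q : Prs P a => (⟨_, h1 α q.1 q.2⟩ : Prs P (fn α a)))
    ⟨fun x y hxy => ?_, fun q => ?_⟩
  · have h2 := congrArg Subtype.val hxy
    exact Subtype.ext (Prod.ext (fn_inj α x.2.1 y.2.1 (congrArg Prod.fst h2))
      (fn_inj α x.2.2.1 y.2.2.1 (congrArg Prod.snd h2)))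
  · have h2 := h1 α⁻¹ q.1 q.2
    rw [fn_inv_fn α ha] at h2
    exact ⟨⟨_, h2⟩, Subtype.ext (Prod.ext (fn_fn_inv α q.2.1) (fn_fn_inv α q.2.2.1))⟩

namespace Ok

variable {p : Pre} {z : G} {s : ℕ → G} {c NC Q I : ℕ} {sq : ℕ → ℕ}

theorem testBit_cp (h : Ok p z s c NC Q I sq) {X : ℕ} (hX : X < 2 ^ 2 ^ p.n) (h0 : X.testBit 0 = true) {a b : ℕ}
    (ha : a < 2 ^ p.n) (hb : b < 2 ^ p.n) :
    (p.cp NC X).testBit (2 ^ p.n * a + b) = (X.testBit a && !NC.testBit (2 ^ p.n * a + b)) := by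
  have h2 := h.two_le
  have hF : 2 ^ 2 ^ p.n - 1 < 2 ^ 2 ^ p.n := Nat.sub_lt (Nat.two_pow_pos _) Nat.one_pos
  have h3 : 2 ^ p.n * a + b < 2 ^ p.n * 2 ^ p.n := by nlinarith only [ha, hb]
  unfold Pre.cp
  rw [h.hF, h.hF2, h.hO, h.hN, nland, nadd, nshl, nmul, nland, nmul, nshr, nxor, Nat.testBit_and, Nat.testBit_xor,
    Nat.testBit_two_pow_sub_one, decide_eq_true h3, Bool.true_xor, testBit_cat _ hF]
  congr 1
  cases a with
  | zero => rw [Nat.mul_zero, Nat.zero_add, if_pos hb, Nat.testBit_two_pow_sub_one, decide_eq_true hb, h0]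
  | succ a =>
    have h4 : 2 ^ p.n * (a + 1) + b - 2 ^ p.n = 2 ^ p.n * a + b := by rw [Nat.mul_succ]; omega
    have h5 : X >>> 1 < 2 ^ (2 ^ p.n - 1) := shiftRight_lt (r := 1) (by rwa [Nat.add_sub_cancel' (by omega)])
    have hY := land_ones_lt (s := 2 ^ p.n) (k := p.n) (by omega) (X >>> 1 * ones (2 ^ p.n - 1) p.n)
    have h6 : (X >>> 1 * ones (2 ^ p.n - 1) p.n).testBit (2 ^ p.n * a) = X.testBit (a + 1) := by
      have h7 : 2 ^ p.n * a = (2 ^ p.n - 1) * a + a := by
        rw [← Nat.succ_mul, Nat.succ_eq_add_one, Nat.sub_add_cancel (by omega)]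
      rw [h7, testBit_of_get (by omega), get_mul_ones h5 _ (by omega), Nat.testBit_shiftRight, Nat.add_comm]
    rw [if_neg (by rw [Nat.mul_succ]; omega), h4, testBit_of_get hb, Nat.pred_eq_sub_one,
      get_mul_const hF _ _ hY fun j => ?_, get_land_ones (by omega) (by omega), h6]
    · cases X.testBit (a + 1)
      · simp
      · rw [cond_true, Nat.one_mul, Nat.testBit_two_pow_sub_one, decide_eq_true hb]
    · by_cases hj : j < 2 ^ p.n
      · rw [get_land_ones (by omega) hj]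
        cases Nat.testBit _ _ <;> simp
      · rw [get_eq_zero_of_lt hY (not_lt.1 hj)]
        exact Nat.zero_le _

theorem cw_eq (h : Ok p z s c NC Q I sq) {X : ℕ} {P : Subgroup G} (hX : Rep p.n z s X P) {a : ℕ}
    (ha : a < 2 * 2 ^ p.n) : ∃ m, p.cw NC Q X a = m % 255 ∧ Nat.card (Prs P (e2 z s a)) = m * 4 := by
  have h2 := h.two_le
  have hN := h.N_le
  have hR := hX.inter (h.rep_rt ha)
  have h0 : X.testBit 0 = true := (hX.2 0 (by omega) false).2 (by rw [h.s0]; exact P.mul_mem P.one_mem P.one_mem)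
  let Y := (X &&& p.rt Q a) * ones (2 ^ p.n) p.n &&& p.cp NC X
  have hY : Y < 2 ^ (2 ^ p.n * 2 ^ p.n) := Nat.lt_of_le_of_lt Nat.and_le_left (mul_ones_lt hR.1 _)
  have h3 : 2 ^ p.n * 2 ^ p.n ≤ 16391 := (Nat.mul_le_mul hN hN).trans (by norm_num)
  have hb : ∀ x y, x < 2 ^ p.n → y < 2 ^ p.n → ∀ e f, (Y.testBit (2 ^ p.n * x + y) = true ↔
      (s x * zp z e, s y * zp z f) ∈ Prs P (e2 z s a)) := fun x y hx hy e f => by
    have h4 := h.nc x y hx hy
    rw [Nat.testBit_and, h.testBit_cp hX.1 h0 hx hy, testBit_of_get hy, get_mul_ones hR.1 _ hx, Bool.and_eq_true,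
      Bool.and_eq_true, hR.2 y hy f, hX.2 x hx e, Bool.not_eq_true', ← Bool.not_eq_true, h4, not_not,
      ← h.comm_zp _ _ e f]
    exact ⟨fun ⟨⟨a1, a2⟩, a3, a4⟩ => ⟨a3, a1, a2, a4⟩, fun ⟨a3, a1, a2, a4⟩ => ⟨⟨a1, a2⟩, a3, a4⟩⟩
  refine ⟨cnt (2 ^ p.n * 2 ^ p.n) Y, ?_, ?_⟩
  · have h4 : p.cw NC Q X a = popG (ones 16391 3) (ones 8 15) Y := by
      unfold Pre.cw popG
      rw [rep_eq, h.hO]
      rfl
    rw [h4, popG_eq (m := 2049) (by norm_num) (by norm_num) (hY.trans_le (Nat.pow_le_pow_right Nat.two_pos h3)),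
      cnt_of_lt hY h3]
  · have hd : ∀ i : Fin (2 ^ p.n * 2 ^ p.n), i.1 / 2 ^ p.n < 2 ^ p.n := fun i => Nat.div_lt_of_lt_mul i.2
    have hm : ∀ i : ℕ, i % 2 ^ p.n < 2 ^ p.n := fun i => Nat.mod_lt _ (by omega)
    let φ : {i : Fin (2 ^ p.n * 2 ^ p.n) // Y.testBit i = true} × Bool × Bool → Prs P (e2 z s a) := fun x =>
      ⟨(s (x.1.1 / 2 ^ p.n) * zp z x.2.1, s (x.1.1 % 2 ^ p.n) * zp z x.2.2),
        (hb _ _ (hd _) (hm _) _ _).1 (by rw [Nat.div_add_mod]; exact x.1.2)⟩
    have h1 : Function.Bijective φ := ⟨fun x y hxy => by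
      have h4 := congrArg Subtype.val hxy
      obtain ⟨a1, a2⟩ := h.inj (hd _) (hd _) (congrArg Prod.fst h4)
      obtain ⟨a3, a4⟩ := h.inj (hm _) (hm _) (congrArg Prod.snd h4)
      refine Prod.ext (Subtype.ext (Fin.ext ?_)) (Prod.ext a2 a4)
      rw [← Nat.div_add_mod x.1.1.1 (2 ^ p.n), a1, a3, Nat.div_add_mod], fun q => by
      obtain ⟨x, hx, e, a1⟩ := h.span q.1.1
      obtain ⟨y, hy, f, a2⟩ := h.span q.1.2
      have a3 : q.1 = (s x * zp z e, s y * zp z f) := Prod.ext a1 a2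
      refine ⟨(⟨⟨2 ^ p.n * x + y, by nlinarith only [hx, hy]⟩, (hb x y hx hy e f).2 (a3 ▸ q.2)⟩, e, f), Subtype.ext (Eq.trans ?_ a3.symm)⟩
      show (s ((2 ^ p.n * x + y) / 2 ^ p.n) * _, s ((2 ^ p.n * x + y) % 2 ^ p.n) * _) = _
      rw [Nat.mul_add_div (by omega), Nat.div_eq_of_lt hy, Nat.add_zero, Nat.mul_add_mod, Nat.mod_eq_of_lt hy]⟩
    rw [← Nat.card_eq_of_bijective φ h1, Nat.card_prod, card_cnt, Nat.card_eq_fintype_card, Fintype.card_prod,
      Fintype.card_bool]

/-- Elements in one orbit of `Aut P` have the same colour. -/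
theorem same_true (h : Ok p z s c NC Q I sq) {X : ℕ} {P : Subgroup G} (hX : Rep p.n z s X P) (lev : Bool) {a b : ℕ}
    (ha : a < 2 * 2 ^ p.n) (hb : b < 2 * 2 ^ p.n) (α : MulAut P) (haP : e2 z s a ∈ P)
    (hab : fn α (e2 z s a) = e2 z s b) : p.same lev NC Q X a b = true := by
  have h2 : p.c2 Q X a = p.c2 Q X b := by
    have h3 := card_fn α (S := P ∩ {y | y * y = e2 z s a}) (T := P ∩ {y | y * y = e2 z s b}) (fun _ hy => hy.1)
      (fun _ hy => hy.1) fun y hy => by
        refine and_congr (iff_of_true hy (fn_mem _ hy)) ?_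
        rw [Set.mem_ofPred_eq, Set.mem_ofPred_eq, ← fn_map_mul α hy hy, ← hab]
        exact fn_eq_iff α (P.mul_mem hy hy) haP
    rw [h.card_eq (hX.inter (h.rep_rt ha)), h.card_eq (hX.inter (h.rep_rt hb))] at h3
    exact Nat.eq_of_mul_eq_mul_left (by norm_num) h3
  have h4 : p.c4 Q X a = p.c4 Q X b := by
    have h3 := card_fn α (S := P ∩ {y | y * y ∈ {y | y * y = e2 z s a}}) (T := P ∩ {y | y * y ∈ {y | y * y = e2 z s b}})
      (fun _ hy => hy.1) (fun _ hy => hy.1) fun y hy => by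
        have h5 := P.mul_mem hy hy
        refine and_congr (iff_of_true hy (fn_mem _ hy)) ?_
        simp only [Set.mem_ofPred_eq]
        rw [← fn_map_mul α hy hy, ← fn_map_mul α h5 h5, ← hab]
        exact fn_eq_iff α (P.mul_mem h5 h5) haP
    rw [h.card_eq (hX.inter (h.rep_sqin (h.rep_rt ha))), h.card_eq (hX.inter (h.rep_sqin (h.rep_rt hb)))] at h3
    exact Nat.eq_of_mul_eq_mul_left (by norm_num) h3
  have h5 : p.cw NC Q X a = p.cw NC Q X b := by
    obtain ⟨m, a1, a2⟩ := h.cw_eq hX ha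
    obtain ⟨m', b1, b2⟩ := h.cw_eq hX hb
    rw [card_prs α haP, hab, b2] at a2
    rw [a1, b1, Nat.eq_of_mul_eq_mul_right (by norm_num) a2]
  unfold Pre.same
  rw [h2, h4, h5, Nat.beq_refl, Nat.beq_refl, Nat.beq_refl]
  cases lev <;> rfl

end Ok

end Cfsg.Agent.FS.Sw
end

-- part: FS/Sw/Cls
section
/-!
# The filter on pairs: the test at one class (helper49, project FS)
-/

set_option autoImplicit false

namespace Cfsg.Agent.FS.Sw

open Cfsg Cfsg.Agent.FS.Pc Cfsg.Agent.FS.Th Finset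

universe u

variable {G : Type u} [Group G]

theorem locZ_equiv [Finite G] {P : Subgroup G} {w : G} (h : LocZ w P ⊥) (hw : ∀ g, g * w = w * g) (e : G ≃* G) :
    LocZ (e w) (P.map e.toMonoidHom) ⊥ := by
  obtain ⟨A, D, h1, -, h2⟩ := h
  have hk : ∀ g, e.toMonoidHom g = 1 → g = 1 := fun g hg => e.injective (by rw [map_one]; exact hg)
  obtain ⟨A', D', h5, h6⟩ := h1.quot e.toMonoidHom e.surjective (fun g hg => by rw [hk g hg]; exact P.one_mem)
    (fun α _ x _ h5 => by rw [hk x h5, fn_map_one, map_one]) (fun α _ h5 => ⟨0, by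
      ext x
      have h6 := e.injective (h5 x x.2)
      rw [fn_apply _ x.2] at h6
      rw [pow_zero, pow_one]
      exact h6⟩)
  refine h5.locZ_bot fun β hβ h7 => ?_
  obtain ⟨α, hα, h8, h9⟩ := h6 β hβ
  have h10 := h8 w (h1.mem_of_centralizes fun x _ => (hw x).symm)
  exact h9.1 (h2 α hα (e.injective (h10.symm.trans h7)))

theorem idx_two [Finite G] (K : Subgroup G) (t : G)
    (h : 2 * Nat.card ((K : Set G) ∩ {y | t * y ≠ y * t} : Set G) = Nat.card K) {x y : G} (hx : x ∈ K) (hy : y ∈ K)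
    (h1 : t * x ≠ x * t) (h2 : t * y ≠ y * t) : t * (x * y) = x * y * t := by
  let C : Subgroup G := K ⊓ Subgroup.centralizer {t}
  have hC : ∀ y, y ∈ C ↔ y ∈ K ∧ t * y = y * t := fun y =>
    and_congr_right fun _ => Subgroup.mem_centralizer_singleton_iff.trans eq_comm
  have h3 := Set.ncard_inter_add_ncard_diff_eq_ncard (K : Set G) {y | t * y ≠ y * t}
  have h4 : (K : Set G) \ {y | t * y ≠ y * t} = C := by
    ext y
    rw [SetLike.mem_coe, hC]
    exact and_congr_right fun _ => not_not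
  rw [h4] at h3
  have h5 : Nat.card (C.subgroupOf K) = Nat.card C := Nat.card_congr (Subgroup.subgroupOfEquivOfLe inf_le_left).toEquiv
  have h6 := (C.subgroupOf K).card_mul_index
  have h7 : 0 < Nat.card C := Nat.card_pos
  have h8 : (C.subgroupOf K).index = 2 := by
    have a1 : (C : Set G).ncard = Nat.card C := rfl
    have a2 : (K : Set G).ncard = Nat.card K := rfl
    have a3 : ((K : Set G) ∩ {y | t * y ≠ y * t}).ncard = Nat.card ((K : Set G) ∩ {y | t * y ≠ y * t} : Set G) := rfl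
    rw [h5] at h6
    refine Nat.eq_of_mul_eq_mul_left h7 (h6.trans ?_)
    omega
  have h9 := (Subgroup.mul_mem_iff_of_index_two h8 (a := ⟨x, hx⟩) (b := ⟨y, hy⟩)).2
    (iff_of_false (fun a => h1 ((hC x).1 a).2) fun a => h2 ((hC y).1 a).2)
  exact ((hC _).1 h9).2

theorem exists_third [Finite G] {P : Subgroup G} (h : 2 * Nat.card P < Nat.card (Subgroup.normalizer (P : Set G)))
    (t : G) : ∃ s, (∀ x ∈ P, s * x * s⁻¹ ∈ P) ∧ s ∉ P ∧ s⁻¹ * t ∉ P := by
  by_contra h1
  have h2 : (Subgroup.normalizer (P : Set G) : Set G) ⊆ (P : Set G) ∪ (fun x => t * x) '' P := fun s hs => by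
    by_cases h3 : s ∈ P
    · exact Or.inl h3
    · refine Or.inr ⟨(s⁻¹ * t)⁻¹, P.inv_mem ?_, by group⟩
      by_contra h4
      exact h1 ⟨s, fun x hx => (Subgroup.mem_normalizer_iff.1 hs x).1 hx, h3, h4⟩
  have h3 := (Set.ncard_le_ncard h2).trans (Set.ncard_union_le _ _)
  have h4 : ((fun x => t * x) '' (P : Set G)).ncard ≤ (P : Set G).ncard := Set.ncard_image_le
  have a1 : (P : Set G).ncard = Nat.card P := rfl
  have a2 : (Subgroup.normalizer (P : Set G) : Set G).ncard = Nat.card (Subgroup.normalizer (P : Set G)) := rfl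
  omega

theorem nt_test [Finite G] {P : Subgroup G} {A D : Subgroup (MulAut P)} (h : Loc P A D) {w : G} (hw2 : w * w = 1)
    (hwc : ∀ g, g * w = w * g) (hz : ∀ α ∈ A, fn α w = w → α ∈ D)
    (hc : 2 * Nat.card P < Nat.card (Subgroup.normalizer (P : Set G))) {t : G} (htN : ∀ x ∈ P, t * x * t⁻¹ ∈ P)
    (htP : t ∉ P) (htt : t * t ∈ P)
    (h2 : 2 * Nat.card ((inVS P : Set G) ∩ {y | t * y ≠ y * t} : Set G) = Nat.card (inVS P)) : False := by
  obtain ⟨s, a1, a2, a3⟩ := exists_third hc t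
  have hwV : w ∈ inVS P := ⟨h.mem_of_centralizes fun x _ => (hwc x).symm, hw2, fun y _ => hwc y⟩
  obtain ⟨a, ha, haD⟩ := SetLike.not_le_iff_exists.1 h.ne
  have h3 : t * fn a w ≠ fn a w * t := fun h3 => htP ((h.cent_of_stab hwc hz ha haD t).1 h3)
  refine h.nt_sub (K := inVS P) (fun x hx => hx.1) (fun α _ x hx => fn_mem_inVS α hx) (fun x hx => hx.2.1)
    (fun x hx => hx.2.2) htN htP htt a1 a2 a3
    (fun b hb hbD => ⟨w, hwV, hwc t, fun h4 => htP ((h.cent_of_stab hwc hz hb hbD t).1 h4)⟩)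
    (v := fn a w * (t * fn a w * t⁻¹)⁻¹) fun x hx => ?_
  by_cases h4 : t * x = x * t
  · exact Or.inl (by rw [h4, mul_inv_cancel_right])
  · have h5 := idx_two _ t h2 hx (fn_mem_inVS a hwV) h4 h3
    refine Or.inr ?_
    calc t * x * t⁻¹ = t * (x * fn a w) * t⁻¹ * (t * fn a w * t⁻¹)⁻¹ := by group
      _ = _ := by rw [h5]; group

theorem shp_eq (p : Pre) (lev : Bool) (c NC Q w X t ti a : ℕ) : p.shp lev c NC Q w X t ti a =
    ite' (p.same lev NC Q X a w)
      (ite' (p.same lev NC Q X (p.mul c w a) (p.mul c a (p.mul c (p.mul c t a) ti))) 2 1) 0 := by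
  unfold Pre.shp
  rw [frc_eq, frc_eq, frc_eq, frc_eq]

theorem shape_eq {p : Pre} {lev : Bool} {c NC Q w X V pv t : ℕ} (h : p.shape lev c NC Q w X V pv t = true) :
    ∃ i e, e = p.mul c (t * 2) (i * 2) ∧ e < 2 ∧ i * 2 < p.N + p.N ∧
      Pre.cntM (p.shp lev c NC Q w X (t * 2) (i * 2 + e)) (fun k => bor (Nat.blt k 4)
        (Nat.beq (Nat.shiftLeft (pop (V &&& row p.n p.F NC t)) 1) pv)) p.N1 (V &&& row p.n p.F NC t) 0 = true := by
  unfold Pre.shape at h
  rw [frc_eq, frc_eq, frc_eq, frc_eq, frc_eq, band_eq, band_eq, Bool.and_eq_true, Bool.and_eq_true, blt_iff, blt_iff,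
    shl_eq t, shl_eq (ctz _), Nat.pow_one, nland, nadd, nadd] at h
  exact ⟨_, _, rfl, h⟩

namespace Ok

variable {p : Pre} {z : G} {s : ℕ → G} {c NC Q I : ℕ} {sq : ℕ → ℕ}

theorem e2_double (_h : Ok p z s c NC Q I sq) (a : ℕ) : e2 z s (a * 2) = s a := by
  unfold e2
  rw [Nat.shiftRight_eq_div_pow, Nat.testBit_zero, Nat.pow_one, Nat.mul_div_cancel _ Nat.two_pos, Nat.mul_mod_left]
  exact mul_one _

theorem rep_e2 (h : Ok p z s c NC Q I sq) {X : ℕ} {S : Set G} (hX : Rep p.n z s X S) {a : ℕ} (ha : a < 2 * 2 ^ p.n) :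
    X.testBit (a / 2) = true ↔ e2 z s a ∈ S := by
  have h1 := hX.2 _ (h.half_lt ha) (a.testBit 0)
  rw [Nat.shiftRight_eq_div_pow] at h1
  unfold e2
  rwa [Nat.shiftRight_eq_div_pow]

theorem orN_spec (h : Ok p z s c NC Q I sq) {v : ℕ} (hv : v < 2 ^ p.n) {P : Subgroup G}
    (hP : ∀ g, g ∈ P ↔ s v * g = g * s v) : ∀ U : List (ℕ × ℕ), (∀ u ∈ U, u.1 < 2 ^ p.n ∧ u.2 < 2 ^ 2 ^ p.n ∧
      ∀ g, u.2.testBit g = true → ∃ e, s v * s g = s g * s u.1 * zp z e) →
    p.orN NC (row p.n p.F NC v) U < 2 ^ 2 ^ p.n ∧ ∀ g, (p.orN NC (row p.n p.F NC v) U).testBit g = true →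
      ∀ e, s g * zp z e ∈ Subgroup.normalizer (P : Set G)
  | [], _ => ⟨Nat.two_pow_pos _, fun g hg => by
      rw [show p.orN NC (row p.n p.F NC v) [] = 0 from rfl, Nat.zero_testBit] at hg
      cases hg⟩
  | u :: U, hU => by
    obtain ⟨a1, a2⟩ := h.orN_spec hv hP U fun u hu => hU u (List.mem_cons_of_mem _ hu)
    obtain ⟨b1, b2, b3⟩ := hU u List.mem_cons_self
    have h1 : p.orN NC (row p.n p.F NC v) (u :: U) = ite' (Nat.beq (row p.n p.F NC u.1) (row p.n p.F NC v))
      (Nat.lor u.2 (p.orN NC (row p.n p.F NC v) U)) (p.orN NC (row p.n p.F NC v) U) := rfl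
    rw [h1]
    cases h2 : Nat.beq (row p.n p.F NC u.1) (row p.n p.F NC v)
    · exact ⟨a1, a2⟩
    rw [ite'_true, nlor]
    refine ⟨Nat.or_lt_two_pow b2 a1, fun g hg e => ?_⟩
    rw [Nat.testBit_or, Bool.or_eq_true] at hg
    rcases hg with hg | hg
    swap
    · exact a2 g hg e
    obtain ⟨f, h3⟩ := b3 g hg
    have h4 : ∀ y, s u.1 * y = y * s u.1 ↔ s v * y = y * s v := fun y => by
      obtain ⟨a, ha, e, rfl⟩ := h.span y
      have h5 := (h.rep_row b1).2 a ha e
      rw [(beq_iff _ _).1 h2, (h.rep_row hv).2 a ha e] at h5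
      exact (not_iff_not.1 h5).symm
    have h5 : s v = s g * (s u.1 * zp z f) * (s g)⁻¹ := by rw [← mul_assoc, ← h3, mul_inv_cancel_right]
    refine Subgroup.mul_mem _ (Subgroup.mem_normalizer_iff.2 fun y => ?_)
      (Subgroup.le_normalizer ((hP _).2 (h.zp_comm e _).symm))
    rw [hP, hP, ← h4, eq_comm, ← h.comm_zp' _ _ f, h5]
    constructor
    · intro h6
      calc _ = s g * (s u.1 * zp z f * y) * (s g)⁻¹ := by group
        _ = _ := by rw [← h6]; group
    · intro h6
      calc _ = (s g)⁻¹ * (s g * y * (s g)⁻¹ * (s g * (s u.1 * zp z f) * (s g)⁻¹)) * s g := by group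
        _ = _ := by rw [← h6]; group

theorem shape_false (h : Ok p z s c NC Q I sq) {P : Subgroup G} {A D : Subgroup (MulAut P)} (hL : Loc P A D)
    {w : ℕ} (hw : w < 2 * 2 ^ p.n) (hw2 : e2 z s w * e2 z s w = 1) (hwc : ∀ g, g * e2 z s w = e2 z s w * g)
    (hz : ∀ α ∈ A, fn α (e2 z s w) = e2 z s w → α ∈ D) {X V : ℕ} (hX : Rep p.n z s X P)
    (hV : Rep p.n z s V (inVS P)) {t : ℕ} (ht : t < 2 ^ p.n) (htN : ∀ x ∈ P, s t * x * (s t)⁻¹ ∈ P) (htP : s t ∉ P)
    (htt : s t * s t ∈ P) (lev : Bool) (hs : p.shape lev c NC Q w X V (pop V) t = true) : False := by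
  have := h.finite
  obtain ⟨i, e, he, a1, a2, a3⟩ := shape_eq hs
  rw [h.hN] at a2
  have ht2 : t * 2 < 2 * 2 ^ p.n := by omega
  obtain ⟨-, b1⟩ := h.mul (t * 2) (i * 2) ht2 (by omega)
  rw [← he] at b1
  have hti : i * 2 + e < 2 * 2 ^ p.n := by omega
  have b2 : e2 z s (i * 2 + e) = (s t)⁻¹ := by
    refine eq_inv_of_mul_eq_one_right ?_
    rw [h.e2_double, h.e2_double] at b1
    have b3 : e2 z s (i * 2 + e) = s i * zp z (e.testBit 0) := by
      unfold e2
      rw [Nat.shiftRight_eq_div_pow, Nat.testBit_zero, Nat.testBit_zero, show (i * 2 + e) / 2 ^ 1 = i by omega,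
        show (i * 2 + e) % 2 = e % 2 by omega]
    have b4 : e2 z s e = zp z (e.testBit 0) := by
      unfold e2
      rw [Nat.shiftRight_eq_div_pow, show e / 2 ^ 1 = 0 by omega, h.s0, one_mul]
    rw [b3, ← mul_assoc, b1, b4, h.zp_sq]
  obtain ⟨c1, c2⟩ := cntM_spec _ _ _ a3
  have hM := hV.inter (h.rep_row ht)
  have hwV : e2 z s w ∈ inVS P := ⟨hL.mem_of_centralizes fun x _ => (hwc x).symm, hw2, fun y _ => hwc y⟩
  have hwP : e2 z s w ∈ P := hwV.1
  -- the value at an element of the orbit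
  have key : ∀ (β : MulAut P), s t * fn β (e2 z s w) ≠ fn β (e2 z s w) * s t → ∃ a, a < 2 * 2 ^ p.n ∧
      e2 z s a = fn β (e2 z s w) ∧ (V &&& row p.n p.F NC t).testBit (a / 2) = true ∧
      p.shp lev c NC Q w X (t * 2) (i * 2 + e) a = 1 ∧ ∀ α : MulAut P,
        fn α (e2 z s w * e2 z s a) ≠ e2 z s a * (s t * e2 z s a * (s t)⁻¹) := fun β hβ => by
    obtain ⟨a, ha, d1⟩ := h.span2 (fn β (e2 z s w))
    have d2 := (h.rep_e2 hM ha).2 (d1 ▸ ⟨fn_mem_inVS β hwV, hβ⟩)
    have haP : e2 z s a ∈ P := d1 ▸ fn_mem β hwP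
    have d3 := h.same_true hX lev ha hw β⁻¹ haP (by rw [← d1, fn_inv_fn β hwP])
    have d4 := c1 a d2
    obtain ⟨m1, m2⟩ := h.mul _ _ ht2 ha
    obtain ⟨m3, m4⟩ := h.mul _ _ m1 hti
    obtain ⟨m5, m6⟩ := h.mul _ _ ha m3
    obtain ⟨m7, m8⟩ := h.mul _ _ hw ha
    rw [shp_eq, d3, ite'_true] at d4
    cases d5 : p.same lev NC Q X (p.mul c w a) (p.mul c a (p.mul c (p.mul c (t * 2) a) (i * 2 + e)))
    · refine ⟨a, ha, d1.symm, d2, by rw [shp_eq, d3, d5, ite'_true, ite'_false], fun α hα => ?_⟩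
      rw [h.same_true hX lev m7 m5 α (m8 ▸ P.mul_mem hwP haP)
        (by rw [← m8, hα, ← m6, ← m4, ← m2, b2, h.e2_double])] at d5
      cases d5
    · rw [d5, ite'_true] at d4
      omega
  obtain ⟨α, -, -, -, hα⟩ := hL.shape hwc hw2 hz htN htP htt
  set v := fn α (e2 z s w) with hv
  have n1 : s t * v ≠ v * s t := fun h1 => htP ((hα.cen _).1 h1)
  have n2 : s t * fn α v ≠ fn α v * s t := fun h1 => htP ((hα.cen2 _).1 h1)
  have hvV : v ∈ inVS P := fn_mem_inVS α hwV
  have huV : fn α v ∈ inVS P := fn_mem_inVS α hvV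
  have n3 : ∀ y, s t * y ≠ y * s t → s t * (s t * y * (s t)⁻¹) ≠ s t * y * (s t)⁻¹ * s t := fun y hy h1 => hy (by
    rw [inv_mul_cancel_right] at h1
    rw [← mul_left_cancel h1, inv_mul_cancel_right, mul_left_cancel h1])
  have n4 : ∀ y, s t * y ≠ y * s t → y ≠ s t * y * (s t)⁻¹ := fun y hy h1 => hy (by
    conv_rhs => rw [h1]
    rw [inv_mul_cancel_right])
  obtain ⟨k1, l1, e1, f1, g1, g5⟩ := key α n1
  rcases hα.alt with ⟨-, h1⟩ | ⟨h1, h2, h3, β, h4⟩
  · exact g5 α (by rw [e1]; exact h1)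
  have h5 : fn α⁻¹ (e2 z s w) = s t * v * (s t)⁻¹ := by rw [← hα.inv, fn_inv_fn α (htN _ hvV.1)]
  have h6 : fn (α * α) (e2 z s w) = fn α v := fn_mul _ _ hwP
  obtain ⟨k2, l2, e2', f2, g2, -⟩ := key α⁻¹ (by rw [h5]; exact n3 _ n1)
  obtain ⟨k3, l3, e3, f3, g3, -⟩ := key (α * α) (by rw [h6]; exact n2)
  obtain ⟨k4, l4, e4, f4, g4, -⟩ := key β (by rw [h4]; exact n3 _ n2)
  rw [h5] at e2'
  rw [h6] at e3
  rw [h4] at e4
  have ne : ∀ {a b : ℕ} {x y : G}, e2 z s a = x → e2 z s b = y → x ≠ y → a ≠ b := fun q1 q2 q3 q4 =>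
    q3 (by rw [← q1, ← q2, q4])
  have h7 : v ≠ s t * fn α v * (s t)⁻¹ := fun q => h2 (by
    have q2 := huV.2.2 _ htt
    calc fn α v = s t * s t * fn α v * (s t * s t)⁻¹ := by rw [q2, mul_inv_cancel_right]
      _ = s t * (s t * fn α v * (s t)⁻¹) * (s t)⁻¹ := by group
      _ = s t * v * (s t)⁻¹ := by rw [← q])
  obtain ⟨c', c3, c4⟩ := c2 {k1, k2, k3, k4} fun a ha => by
    simp only [mem_insert, mem_singleton] at ha
    rcases ha with rfl | rfl | rfl | rfl
    exacts [⟨f1, g1⟩, ⟨f2, g2⟩, ⟨f3, g3⟩, ⟨f4, g4⟩]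
  rw [card_eq_four.2 ⟨k1, k2, k3, k4, ne e1 e2' (n4 _ n1), ne e1 e3 h1.symm, ne e1 e4 h7, ne e2' e3 h2.symm,
    ne e2' e4 (fun q => h1 (mul_left_cancel (mul_right_cancel q)).symm), ne e3 e4 (n4 _ n2), rfl⟩] at c3
  rw [bor_eq, Bool.or_eq_true, blt_iff, beq_iff, shl_eq] at c4
  refine h3 (idx_two (inVS P) (s t) ?_ hvV huV n1 n2)
  have c5 := h.card_eq hV
  rw [h.card_eq hM]
  exact Eq.trans (by omega) c5.symm

theorem cls_false (h : Ok p z s c NC Q I sq) {P : Subgroup G} {w : ℕ} (hw : w < 2 * 2 ^ p.n)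
    (hw2 : e2 z s w * e2 z s w = 1) (hwc : ∀ g, g * e2 z s w = e2 z s w * g) (hL : LocZ (e2 z s w) P ⊥)
    {d : ℕ × List (ℕ × ℕ)} (hd : d ∈ p.C) (h0 : 0 < d.1) (h1 : d.1 < 2 ^ p.n) (hU : ∀ u ∈ d.2, u.1 < 2 ^ p.n)
    (hP : ∀ g, g ∈ P ↔ s d.1 * g = g * s d.1) (hsq : s d.1 * s d.1 = 1) (lev : Bool)
    (hc : p.cls lev c NC Q I w d = true) : False := by
  have := h.finite
  obtain ⟨A, D, hL, -, hz⟩ := hL
  have hR := h.rep_row h1
  have hX : Rep p.n z s (p.F ^^^ row p.n p.F NC d.1) P := by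
    have h2 := hR.compl
    rw [← h.hF] at h2
    exact h2.congr fun y => not_not.trans (hP y).symm
  obtain ⟨n1, n2⟩ := h.orN_spec h1 hP d.2 fun u hu => ⟨hU u hu, h.cj d hd u hu h1 (hU u hu)⟩
  have hV : Rep p.n z s (I &&& (p.F ^^^ p.nz NC (p.F ^^^ row p.n p.F NC d.1))) (inVS P) := by
    have h2 := h.rep_I.inter (h.rep_nz hX h0 h1 fun y hy => ((hP y).1 hy).symm).compl
    rw [← h.hF] at h2
    refine h2.congr fun y => ⟨fun ⟨a1, a2⟩ => ?_, fun a => ⟨a.2.1, fun ⟨x, hx, a2⟩ => a2 (a.2.2 x hx)⟩⟩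
    have a3 : ∀ x ∈ P, x * y = y * x := fun x hx => by_contra fun a4 => a2 ⟨x, hx, a4⟩
    exact ⟨(hP y).2 (a3 _ ((hP _).2 rfl)), a1, a3⟩
  have hlt : ∀ Y Z, p.orN NC (row p.n p.F NC d.1) d.2 &&& Y &&& Z < 2 ^ 2 ^ p.n := fun Y Z =>
    Nat.lt_of_le_of_lt (Nat.and_le_left.trans Nat.and_le_left) n1
  have hT : ∀ t, (p.orN NC (row p.n p.F NC d.1) d.2 &&& row p.n p.F NC d.1 &&&
      p.sqin (p.F ^^^ row p.n p.F NC d.1)).testBit t = true →
      t < 2 ^ p.n ∧ (∀ x ∈ P, s t * x * (s t)⁻¹ ∈ P) ∧ s t ∉ P ∧ s t * s t ∈ P := fun t ht => by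
    have a1 := lt_of_testBit_true (hlt _ _) ht
    rw [Nat.testBit_and, Nat.testBit_and, Bool.and_eq_true, Bool.and_eq_true, hR.2 t a1 false,
      (h.rep_sqin hX).2 t a1 false] at ht
    have a2 := n2 t ht.1.1 false
    rw [show s t * zp z false = s t from mul_one _] at ht a2
    exact ⟨a1, fun x hx => (Subgroup.mem_normalizer_iff.1 a2 x).1 hx, fun a3 => ht.1.2 ((hP _).1 a3), ht.2⟩
  have hN : 2 * pop (p.orN NC (row p.n p.F NC d.1) d.2) ≤ Nat.card (Subgroup.normalizer (P : Set G)) := by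
    rw [pop_eq h.N_le n1]
    exact h.card_le (S := Subgroup.normalizer (P : Set G)) fun a _ ha e => n2 a ha e
  have hcP : Nat.card P = _ := h.card_eq hX
  have hcV : Nat.card (inVS P) = _ := h.card_eq hV
  unfold Pre.cls at hc
  simp only [frc_eq, band_eq, bor_eq, Bool.and_eq_true, Bool.or_eq_true, blt_iff, ble_iff, beq_iff, shl_eq, nland, nxor,
    tb_eq] at hc
  rcases hc with hc | hc | ⟨a1, a2⟩ | ⟨-, a1, a2⟩ | ⟨a1, a2⟩
  · have h2 := h.q _ h1
    rw [hsq, hc] at h2
    have h3 : s 0 * zp z false = s (sq d.1) * zp z true := by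
      rw [← h2, h.s0]
      exact mul_one _
    cases (h.inj (Nat.two_pow_pos _) (h.sqlt _ h1) h3).2
  · refine hL.proper (top_le_iff.1 fun y _ => (hP y).2 ?_)
    obtain ⟨a, ha, e, rfl⟩ := h.span y
    by_contra h2
    have h3 := (hR.2 a ha e).2 h2
    rw [hc, Nat.zero_testBit] at h3
    cases h3
  · obtain ⟨t, b1, b2⟩ := anyM_spec _ _ (h.lt128 (hlt _ _)) a2
    obtain ⟨b3, b4, b5, b6⟩ := hT t b1
    rw [beq_iff] at b2
    refine nt_test hL hw2 hwc hz (by omega) b4 b5 b6 ?_
    rw [h.card_eq (hV.inter (h.rep_row b3)), hcV]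
    omega
  · exact boxG2 G P A D _ hL hw2 hwc hz (by omega) (le_trans (le_of_eq hcV) (by omega))
  · obtain ⟨b3, b4, b5, b6⟩ := hT _ (testBit_ctz a1.ne' (h.lt128 (hlt _ _)))
    exact h.shape_false hL hw hw2 hwc hz hX hV b3 b4 b5 b6 lev a2

end Ok

end Cfsg.Agent.FS.Sw
end

-- part: FS/Sw/Pre
section
/-!
# The filter on pairs: the precomputed data are correct (helper79, project FS)
-/

set_option autoImplicit false

namespace Cfsg.Agent.FS.Sw

open Cfsg.Agent.FS.Pc Finset

universe u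

/-! ### parity -/

theorem par_succ (r a : ℕ) : par (r + 1) a = xor (a.testBit r) (par r a) := rfl

theorem par_congr {a b : ℕ} : ∀ r, (∀ i, i < r → a.testBit i = b.testBit i) → par r a = par r b
  | 0, _ => rfl
  | r + 1, h => by rw [par_succ, par_succ, h r (Nat.lt_succ_self r), par_congr r fun i hi => h i (by omega)]

theorem par_xor (a b : ℕ) : ∀ r, par r (a ^^^ b) = xor (par r a) (par r b)
  | 0 => rfl
  | r + 1 => by
    rw [par_succ, par_succ, par_succ, par_xor a b r, Nat.testBit_xor]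
    cases a.testBit r <;> cases b.testBit r <;> cases par r a <;> cases par r b <;> rfl

theorem par_zero : ∀ r, par r 0 = false
  | 0 => rfl
  | r + 1 => by rw [par_succ, par_zero r, Nat.zero_testBit]; rfl

theorem cnt_par (X : ℕ) : ∀ K, (cnt K X).testBit 0 = par K X
  | 0 => Nat.zero_testBit 0
  | K + 1 => by
    have h1 := cnt_par X K
    unfold cnt at h1 ⊢
    rw [range_add_one, filter_insert, par_succ, ← h1]
    cases h2 : X.testBit K
    · rw [if_neg (by simp), Bool.false_xor]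
    · rw [if_pos rfl, card_insert_of_notMem (by simp), Nat.testBit_zero, Nat.testBit_zero]
      generalize (filter (fun i => X.testBit i = true) (range K)).card = m
      rcases Nat.mod_two_eq_zero_or_one m with h | h
      · rw [h, show (m + 1) % 2 = 1 by omega]
        rfl
      · rw [h, show (m + 1) % 2 = 0 by omega]
        rfl

/-! ### repacking -/

theorem repack_spec {w : ℕ} (hw : w ≤ 32) (R : ℕ) : ∀ m, repack w R m < 2 ^ (32 * m) ∧
    ∀ i, i < m → Pc.get 32 (repack w R m) i = Pc.get w R i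
  | 0 => ⟨Nat.two_pow_pos _, fun i hi => by omega⟩
  | m + 1 => by
    obtain ⟨h1, h2⟩ := repack_spec hw R m
    have h3 : repack w R (m + 1) = repack w R m + Pc.get w R m <<< (32 * m) := by
      show repack w R m + (Nat.land (R >>> (w * m)) (msk w)) <<< (32 * m) = _
      rw [land_msk]
      rfl
    have h4 : Pc.get w R m < 2 ^ 32 := (get_lt _ _ _).trans_le (Nat.pow_le_pow_right (by norm_num) hw)
    rw [h3]
    refine ⟨by rw [Nat.mul_succ]; exact cat_lt h1 h4, fun i hi => ?_⟩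
    rcases Nat.lt_succ_iff_lt_or_eq.1 hi with h5 | h5
    · rw [get_cat_lo _ h1 h5, h2 i h5]
    · have h6 := get_cat_hi (Pc.get w R m) h1 0
      rw [Nat.add_zero, get_zero_of_lt h4] at h6
      rw [h5, h6]

theorem tri_lt {k j n : ℕ} (hj : j ≤ k) (hn : k < n) : tri k j < tri n 0 := by
  have h1 : ∀ k, tri (k + 1) 0 = tri k 0 + k + 1 := fun k => by
    unfold tri
    rw [show (k + 1) * (k + 1 + 1) = k * (k + 1) + 2 * (k + 1) by ring, Nat.add_mul_div_left _ _ (by norm_num)]
    omega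
  induction n, hn using Nat.le_induction with
  | base => rw [h1, show tri k j = tri k 0 + j from rfl]; omega
  | succ n hn ih => rw [h1]; omega

variable {G : Type u} [Group G]

theorem ext_repack {z : G} {x : ℕ → G} {c r n w R : ℕ} (h : Ext z x c r n w R) (hw : w ≤ 32) :
    Ext z x c r n 32 (repack w R (tri n 0)) :=
  ⟨⟨h.pc.tsq, h.pc.tc, fun k hk => by rw [(repack_spec hw R _).2 _ (tri_lt le_rfl hk)]; exact h.pc.pw k hk,
    fun k hk j hj => by rw [(repack_spec hw R _).2 _ (tri_lt hj.le hk)]; exact h.pc.cj k hk j hj⟩,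
    h.width.trans hw, h.z2, h.zc, h.span, h.card⟩

/-! ### planes -/

theorem pa_lt (n k : ℕ) : pa n k < 2 ^ 5 := Nat.and_lt_two_pow _ (by norm_num)

theorem perm1 : ∀ n, n < 8 → (∀ i, i < 5 → n + n ≤ swf 5 (n + n) i ∧
    ∀ k, k < 32 → k.testBit i = (pa n k).testBit (swf 5 (n + n) i - (n + n))) ∧
      ∀ i, i < n + n → swf 5 (n + n) (i + 5) = i := by decide +kernel

theorem perm2 : ∀ n, n < 8 → ∀ i, i < n + n + 5 →
    swf n n i = if i < n then i + n else if i < n + n then i - n else i := by decide +kernel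

theorem addr_lt {n a b : ℕ} (ha : a < 2 ^ n) (hb : b < 2 ^ n) : 2 ^ n * a + b < 2 ^ (n + n) := by
  rw [Nat.pow_add]
  nlinarith

theorem addr_lt' {s t a b : ℕ} (ha : a < 2 ^ t) (hb : b < 2 ^ s) : 2 ^ s * a + b < 2 ^ (s + t) := by
  rw [Nat.pow_add]
  nlinarith

theorem plane_lt (n X k : ℕ) : plane n (2 ^ (2 ^ n * 2 ^ n) - 1) X k < 2 ^ (2 ^ n * 2 ^ n) :=
  Nat.and_lt_two_pow _ (Nat.sub_lt (Nat.two_pow_pos _) Nat.one_pos)

theorem testBit_plane {n p : ℕ} (hp : p < 2 ^ (n + n)) (X k : ℕ) :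
    (plane n (2 ^ (2 ^ n * 2 ^ n) - 1) X k).testBit p = X.testBit (2 ^ (n + n) * pa n k + p) := by
  unfold plane
  rw [nland, nshr, shl_eq, nadd, Nat.testBit_and, Nat.testBit_shiftRight, Nat.testBit_two_pow_sub_one,
    decide_eq_true (by rwa [← Nat.pow_add]), Bool.and_true, Nat.mul_comm]

theorem testBit_PM {n : ℕ} (hn : n ≤ 7) (T : ℕ) {k p : ℕ} (hk : k < 32) (hp : p < 2 ^ (n + n)) :
    (swps (n + n + 5) 5 (n + n) T).testBit (2 ^ (n + n) * pa n k + p) = (Pc.get 32 T p).testBit k := by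
  obtain ⟨h1, h2⟩ := perm1 n (by omega)
  rw [← testBit_of_get hk]
  refine (prm_swps (by norm_num) T _ le_rfl).1 _ _ (addr_lt' (pa_lt n k) hp)
    (by rw [Nat.add_comm _ 5]; exact addr_lt' (s := 5) hp hk) fun i hi => ?_
  rw [show 32 = 2 ^ 5 from rfl, Nat.testBit_two_pow_mul_add _ hk, Nat.testBit_two_pow_mul_add _ hp]
  by_cases h3 : i < 5
  · rw [if_pos h3, if_neg (not_lt.2 (h1 i h3).1), (h1 i h3).2 k hk]
  · obtain ⟨j, rfl⟩ : ∃ j, i = j + 5 := ⟨i - 5, by omega⟩
    rw [if_neg h3, h2 j (by omega), if_pos (by omega), Nat.add_sub_cancel]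

theorem testBit_PT {n : ℕ} (h1 : 1 ≤ n) (hn : n ≤ 7) (X : ℕ) {k a b : ℕ} (hk : k < 2 ^ 5) (ha : a < 2 ^ n)
    (hb : b < 2 ^ n) : (swps (n + n + 5) n n X).testBit (2 ^ (n + n) * k + (2 ^ n * a + b)) =
      X.testBit (2 ^ (n + n) * k + (2 ^ n * b + a)) := by
  refine (prm_swps h1 X _ (by omega)).1 _ _ (addr_lt' hk (addr_lt ha hb)) (addr_lt' hk (addr_lt hb ha)) fun i hi => ?_
  rw [perm2 n (by omega) i hi, Nat.testBit_two_pow_mul_add _ (addr_lt ha hb),
    Nat.testBit_two_pow_mul_add _ (addr_lt hb ha), Nat.testBit_two_pow_mul_add _ ha, Nat.testBit_two_pow_mul_add _ hb]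
  by_cases h2 : i < n
  · simp only [if_pos h2]
    rw [if_pos (by omega), if_pos (by omega), if_neg (by omega), Nat.add_sub_cancel]
  · simp only [if_neg h2]
    by_cases h3 : i < n + n
    · simp only [if_pos h3]
      rw [if_pos (by omega), if_pos (by omega)]
    · simp only [if_neg h3]

theorem testBit_diag (n X j : ℕ) : (diag (ones (2 ^ n + 1) n) (2 ^ (2 ^ n + 1) - 2) X).testBit j =
    (decide (j < 2 ^ n) && X.testBit (2 ^ n * j + j)) := by
  unfold diag
  rw [nmod, nland, testBit_cmp (f := fun i => X.testBit ((2 ^ n + 1) * i)) (Nat.succ_pos _)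
    (land_ones_lt (Nat.succ_pos _) X) (fun i hi => get_land_ones (Nat.succ_pos _) hi)
    fun D hD _ => lt_sub_two_of_lt (Nat.two_pow_pos n) (Nat.lt_succ_self _) hD, Nat.succ_mul]

theorem diag_lt (n X : ℕ) : diag (ones (2 ^ n + 1) n) (2 ^ (2 ^ n + 1) - 2) X < 2 ^ 2 ^ n :=
  lt_of_testBit fun i hi => by rw [testBit_diag, decide_eq_false (by omega), Bool.false_and]

theorem testBit_orPl (n F2 X r p : ℕ) : ∀ j, (orPl n F2 X r j).testBit p = true ↔
    ∃ i, i < j ∧ (plane n F2 X (r + i)).testBit p = true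
  | 0 => by
    rw [show orPl n F2 X r 0 = 0 from rfl, Nat.zero_testBit]
    exact ⟨fun h => (by cases h), fun ⟨i, hi, _⟩ => by omega⟩
  | j + 1 => by
    rw [show orPl n F2 X r (j + 1) = orPl n F2 X r j ||| plane n F2 X (r + j) from rfl, Nat.testBit_or,
      Bool.or_eq_true, testBit_orPl n F2 X r p j]
    constructor
    · rintro (⟨i, hi, h⟩ | h)
      · exact ⟨i, by omega, h⟩
      · exact ⟨j, by omega, h⟩
    · rintro ⟨i, hi, h⟩
      rcases Nat.lt_succ_iff_lt_or_eq.1 hi with h1 | h1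
      · exact Or.inl ⟨i, h1, h⟩
      · exact Or.inr (h1 ▸ h)

theorem diags_spec (n F2 X r : ℕ) : ∀ j,
    diags n F2 (ones (2 ^ n + 1) n) (2 ^ (2 ^ n + 1) - 2) X r j < 2 ^ (2 ^ n * j) ∧ ∀ i, i < j →
      Pc.get (2 ^ n) (diags n F2 (ones (2 ^ n + 1) n) (2 ^ (2 ^ n + 1) - 2) X r j) i =
        diag (ones (2 ^ n + 1) n) (2 ^ (2 ^ n + 1) - 2) (plane n F2 X (r + i))
  | 0 => ⟨Nat.two_pow_pos _, fun i hi => by omega⟩
  | j + 1 => by
    obtain ⟨h1, h2⟩ := diags_spec n F2 X r j
    have h3 : diags n F2 (ones (2 ^ n + 1) n) (2 ^ (2 ^ n + 1) - 2) X r (j + 1) =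
        diags n F2 (ones (2 ^ n + 1) n) (2 ^ (2 ^ n + 1) - 2) X r j +
          diag (ones (2 ^ n + 1) n) (2 ^ (2 ^ n + 1) - 2) (plane n F2 X (r + j)) <<< (2 ^ n * j) := by
      rw [Nat.mul_comm, ← shl_eq]
      rfl
    have h4 := diag_lt n (plane n F2 X (r + j))
    rw [h3]
    refine ⟨by rw [Nat.mul_succ]; exact cat_lt h1 h4, fun i hi => ?_⟩
    rcases Nat.lt_succ_iff_lt_or_eq.1 hi with h5 | h5
    · rw [get_cat_lo _ h1 h5, h2 i h5]
    · have h6 := get_cat_hi (diag (ones (2 ^ n + 1) n) (2 ^ (2 ^ n + 1) - 2) (plane n F2 X (r + j))) h1 0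
      rw [get_zero_of_lt h4] at h6
      rw [h5]
      exact h6

theorem sqt_spec {n Dg : ℕ} {sq : ℕ → ℕ} : ∀ j,
    (∀ i, i < j → ∀ y, y < 2 ^ n → (Pc.get (2 ^ n) Dg i).testBit y = (sq y).testBit i) → ∀ X, X < 2 ^ 2 ^ n →
      sqt n (2 ^ 2 ^ n - 1) (2 ^ n + 1) Dg j X < 2 ^ ((2 ^ n + 1) * 2 ^ j) ∧ ∀ u, u < 2 ^ j → ∀ y,
        (Pc.get (2 ^ n + 1) (sqt n (2 ^ 2 ^ n - 1) (2 ^ n + 1) Dg j X) u).testBit y =
          (X.testBit y && decide (sq y % 2 ^ j = u))
  | 0, _, X, hX => by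
    have h1 : X < 2 ^ (2 ^ n + 1) := hX.trans (Nat.pow_lt_pow_right (by norm_num) (Nat.lt_succ_self _))
    refine ⟨by rw [Nat.pow_zero, Nat.mul_one]; exact h1, fun u hu y => ?_⟩
    obtain rfl : u = 0 := by simpa using hu
    rw [show sqt n (2 ^ 2 ^ n - 1) (2 ^ n + 1) Dg 0 X = X from rfl, get_zero_of_lt h1, Nat.pow_zero, Nat.mod_one,
      decide_eq_true rfl, Bool.and_true]
  | j + 1, h, X, hX => by
    have h0 : sqt n (2 ^ 2 ^ n - 1) (2 ^ n + 1) Dg (j + 1) X =
        frc (Nat.land X (row n (2 ^ 2 ^ n - 1) Dg j)) fun Y => Nat.add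
          (frc (Nat.xor X Y) (sqt n (2 ^ 2 ^ n - 1) (2 ^ n + 1) Dg j))
          (Nat.shiftLeft (sqt n (2 ^ 2 ^ n - 1) (2 ^ n + 1) Dg j Y) (Nat.shiftLeft (2 ^ n + 1) j)) := rfl
    rw [h0, frc_eq, frc_eq, row_eq, shl_eq (2 ^ n + 1), nadd, nshl, nland, nxor]
    have hY : X &&& Pc.get (2 ^ n) Dg j < 2 ^ 2 ^ n := Nat.and_lt_two_pow _ (get_lt _ _ _)
    obtain ⟨a1, a2⟩ := sqt_spec j (fun i hi => h i (by omega)) _ (xor_lt hX hY)
    obtain ⟨b1, b2⟩ := sqt_spec j (fun i hi => h i (by omega)) _ hY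
    refine ⟨by rw [Nat.pow_succ, Nat.mul_two, Nat.mul_add]; exact cat_lt a1 b1, fun u hu y => ?_⟩
    have hm : sq y % 2 ^ (j + 1) = sq y % 2 ^ j + 2 ^ j * (sq y / 2 ^ j % 2) := Nat.mod_pow_succ
    have hl : sq y % 2 ^ j < 2 ^ j := Nat.mod_lt _ (Nat.two_pow_pos j)
    have hb : ∀ hy : y < 2 ^ n, (Pc.get (2 ^ n) Dg j).testBit y = decide (sq y / 2 ^ j % 2 = 1) := fun hy => by
      rw [h j (Nat.lt_succ_self j) y hy, Nat.testBit_eq_decide_div_mod_eq]
    cases hx : X.testBit y
    · by_cases h1 : u < 2 ^ j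
      · rw [get_cat_lo _ a1 h1, a2 u h1, Nat.testBit_xor, Nat.testBit_and, hx]
        rfl
      · obtain ⟨v, rfl⟩ := Nat.exists_eq_add_of_le (not_lt.1 h1)
        rw [get_cat_hi _ a1, b2 v (by rw [Nat.pow_succ] at hu; omega), Nat.testBit_and, hx]
        rfl
    have hy := lt_of_testBit_true hX hx
    by_cases h1 : u < 2 ^ j
    · rw [get_cat_lo _ a1 h1, a2 u h1, Nat.testBit_xor, Nat.testBit_and, hx, hb hy, hm]
      rcases Nat.mod_two_eq_zero_or_one (sq y / 2 ^ j) with h2 | h2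
      · rw [h2]
        simp
      · rw [h2, decide_eq_false (show ¬ sq y % 2 ^ j + 2 ^ j * 1 = u by omega)]
        simp
    · obtain ⟨v, rfl⟩ := Nat.exists_eq_add_of_le (not_lt.1 h1)
      rw [get_cat_hi _ a1, b2 v (by rw [Nat.pow_succ] at hu; omega), Nat.testBit_and, hx, hb hy, hm]
      rcases Nat.mod_two_eq_zero_or_one (sq y / 2 ^ j) with h2 | h2
      · rw [h2, decide_eq_false (show ¬ sq y % 2 ^ j + 2 ^ j * 0 = 2 ^ j + v by omega)]
        simp
      · rw [h2, show decide (sq y % 2 ^ j + 2 ^ j * 1 = 2 ^ j + v) = decide (sq y % 2 ^ j = v) from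
          decide_eq_decide.2 (by omega)]
        simp

/-! ### the lists -/

/-- the list `e (r - 1), …, e 0` -/
noncomputable def EL (e : ℕ → ℕ) (r : ℕ) : List ℕ := Nat.rec (motive := fun _ => List ℕ) [] (fun i L => e i :: L) r

theorem mkE_eq {α : Type} (n F2 N2 O1 md PM D : ℕ) : ∀ (r : ℕ) (k : List ℕ → α), mkE n F2 N2 O1 md PM D r k =
    k (EL (fun i => plane n F2 D i + diag O1 md (plane n F2 PM i) <<< N2) r)
  | 0, _ => rfl
  | r + 1, k => by
    have h : mkE n F2 N2 O1 md PM D (r + 1) k =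
      frc (Nat.add (plane n F2 D r) (Nat.shiftLeft (diag O1 md (plane n F2 PM r)) N2)) fun e =>
        mkE n F2 N2 O1 md PM D r fun L => k (e :: L) := rfl
    rw [h, frc_eq, mkE_eq n F2 N2 O1 md PM D r]
    rfl

theorem testBit_xorL (e : ℕ → ℕ) (c p v : ℕ) : ∀ r A, (∀ i, i < r → (e i).testBit p = v.testBit i) →
    (xorL (EL e r) c r A).testBit p = xor (A.testBit p) (par r (v &&& c))
  | 0, A, _ => (Bool.xor_false _).symm
  | r + 1, A, h => by
    have h0 : xorL (EL e (r + 1)) c (r + 1) A =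
      ite' (tb c r) (frc (Nat.xor A (e r)) (xorL (EL e r) c r)) (xorL (EL e r) c r A) := rfl
    rw [h0, tb_eq, frc_eq, par_succ, Nat.testBit_and]
    cases c.testBit r
    · rw [ite'_false, testBit_xorL e c p v r A fun i hi => h i (by omega), Bool.and_false, Bool.false_xor]
    · rw [ite'_true, testBit_xorL e c p v r _ fun i hi => h i (by omega), nxor, Nat.testBit_xor,
        h r (Nat.lt_succ_self r), Bool.and_true, Bool.xor_assoc]

theorem mkU_eq {α : Type} (f : ℕ → ℕ) : ∀ (us : List ℕ) (k : List (ℕ × ℕ) → α),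
    mkU f us k = k (us.map fun u => (u, f u))
  | [], _ => rfl
  | u :: us, k => by
    have h : mkU f (u :: us) k = frc u fun u => frc (f u) fun m => mkU f us fun L => k ((u, m) :: L) := rfl
    rw [h, frc_eq, frc_eq, mkU_eq f us]
    rfl

theorem mkC_eq {α : Type} (f : ℕ → ℕ → ℕ) : ∀ (cs : List (ℕ × List ℕ)) (k : List (ℕ × List (ℕ × ℕ)) → α),
    mkC f cs k = k (cs.map fun c => (c.1, c.2.map fun u => (u, f c.1 u)))
  | [], _ => rfl
  | c :: cs, k => by
    have h : mkC f (c :: cs) k = frc c.1 fun v => mkU (f v) c.2 fun U => mkC f cs fun L => k ((v, U) :: L) := rfl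
    rw [h, frc_eq, mkU_eq, mkC_eq f cs]
    rfl

theorem cjm_spec (n F2 PM PT r v u : ℕ) : cjm n (2 ^ 2 ^ n - 1) F2 PM PT r v u < 2 ^ 2 ^ n ∧
    ∀ g, (cjm n (2 ^ 2 ^ n - 1) F2 PM PT r v u).testBit g = true → g < 2 ^ n ∧ ∀ i, i < n →
      (plane n F2 PM (r + i)).testBit (2 ^ n * v + g) = (plane n F2 PT (r + i)).testBit (2 ^ n * u + g) := by
  have h1 : ∀ j, Nat.rec (motive := fun _ => ℕ) 0 (fun i A => Nat.lor A
      (Nat.xor (row n (2 ^ 2 ^ n - 1) (plane n F2 PM (Nat.add r i)) v)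
        (row n (2 ^ 2 ^ n - 1) (plane n F2 PT (Nat.add r i)) u))) j < 2 ^ 2 ^ n ∧ ∀ g, g < 2 ^ n →
      Nat.testBit (Nat.rec (motive := fun _ => ℕ) 0 (fun i A => Nat.lor A
        (Nat.xor (row n (2 ^ 2 ^ n - 1) (plane n F2 PM (Nat.add r i)) v)
          (row n (2 ^ 2 ^ n - 1) (plane n F2 PT (Nat.add r i)) u))) j) g = false → ∀ i, i < j →
      (plane n F2 PM (r + i)).testBit (2 ^ n * v + g) = (plane n F2 PT (r + i)).testBit (2 ^ n * u + g) := by
    intro j
    induction j with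
    | zero => exact ⟨Nat.two_pow_pos _, fun g _ _ i hi => by omega⟩
    | succ j ih =>
      refine ⟨Nat.or_lt_two_pow ih.1 (xor_lt (by rw [row_eq]; exact get_lt _ _ _) (by rw [row_eq]; exact get_lt _ _ _)),
        fun g hg h2 i hi => ?_⟩
      have h3 : Nat.testBit (_ ||| (_ ^^^ _)) g = false := h2
      rw [Nat.testBit_or, Bool.or_eq_false_iff] at h3
      rcases Nat.lt_succ_iff_lt_or_eq.1 hi with h4 | h4
      · exact ih.2 g hg h3.1 i h4
      · have h5 := h3.2
        rw [Nat.testBit_xor, row_eq, row_eq, ← testBit_of_get hg, ← testBit_of_get hg, nadd] at h5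
        rw [h4]
        revert h5
        cases (plane n F2 PM (r + j)).testBit (2 ^ n * v + g) <;>
          cases (plane n F2 PT (r + j)).testBit (2 ^ n * u + g) <;> simp
  have h2 : cjm n (2 ^ 2 ^ n - 1) F2 PM PT r v u < 2 ^ 2 ^ n :=
    xor_lt (Nat.sub_lt (Nat.two_pow_pos _) Nat.one_pos) (h1 n).1
  refine ⟨h2, fun g hg => ?_⟩
  have h3 := lt_of_testBit_true h2 hg
  refine ⟨h3, (h1 n).2 g h3 ?_⟩
  unfold cjm at hg
  rw [nxor, Nat.testBit_xor, Nat.testBit_two_pow_sub_one, decide_eq_true h3, Bool.true_xor, Bool.not_eq_true'] at hg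
  exact hg

/-! ### the data -/

/-- the table -/
noncomputable def vT (n r w R : ℕ) : ℕ := tab r n 32 (repack w R (tri n 0))

/-- the planes -/
noncomputable def vPM (n r w R : ℕ) : ℕ := swps (n + n + 5) 5 (n + n) (vT n r w R)

/-- the transposed planes -/
noncomputable def vPT (n r w R : ℕ) : ℕ := swps (n + n + 5) n n (vPM n r w R)

/-- the value computed by `pre` -/
noncomputable def preV (n r w R : ℕ) (cs : List (ℕ × List ℕ)) : Pre :=
  ⟨n, r, 2 ^ n, 2 ^ 2 ^ n - 1, 2 ^ n + 1, 2 ^ n * 2 ^ n, 2 ^ (2 ^ n * 2 ^ n) - 1, ones (2 ^ n) n,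
    (2 ^ (2 ^ n - 1) - 1) * ones (2 ^ n) n, ones (2 ^ n + 1) n, 2 ^ (2 ^ n + 1) - 1, 2 ^ 2 ^ n - 2, vT n r w R,
    orPl n (2 ^ (2 ^ n * 2 ^ n) - 1) (vPM n r w R ^^^ vPT n r w R) r n,
    (2 ^ (2 ^ n * 2 ^ n) - 1) ^^^ orPl n (2 ^ (2 ^ n * 2 ^ n) - 1) (vPM n r w R) r n,
    sqt n (2 ^ 2 ^ n - 1) (2 ^ n + 1) (diags n (2 ^ (2 ^ n * 2 ^ n) - 1) (ones (2 ^ n + 1) n) (2 ^ (2 ^ n + 1) - 2)
      (vPM n r w R) r n) n (2 ^ 2 ^ n - 1),
    EL (fun i => plane n (2 ^ (2 ^ n * 2 ^ n) - 1) (vPM n r w R ^^^ vPT n r w R) i +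
      diag (ones (2 ^ n + 1) n) (2 ^ (2 ^ n + 1) - 2) (plane n (2 ^ (2 ^ n * 2 ^ n) - 1) (vPM n r w R) i) <<<
        (2 ^ n * 2 ^ n)) r,
    cs.map fun c => (c.1, c.2.map fun u =>
      (u, cjm n (2 ^ 2 ^ n - 1) (2 ^ (2 ^ n * 2 ^ n) - 1) (vPM n r w R) (vPT n r w R) r c.1 u))⟩

theorem pre_eq {α : Type} (n r w R : ℕ) (cs : List (ℕ × List ℕ)) (k : Pre → α) :
    pre n r w R cs k = k (preV n r w R cs) := by
  unfold pre
  simp only [frc_eq]
  rw [mkE_eq, mkC_eq]
  simp only [one_shl, shl_eq (2 ^ n), msk_eq, Nat.pred_eq_sub_one, Nat.succ_eq_add_one, Nat.sub_sub]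
  rfl

theorem conc_eq {α : Type} (p : Pre) (c : ℕ) (k : ℕ → ℕ → ℕ → α) : p.conc c k =
    k (p.NC0 ||| (xorL p.E c p.r 0 &&& p.F2)) (xorL p.E c p.r 0 >>> p.N2)
      (p.sq 0 &&& (p.F ^^^ xorL p.E c p.r 0 >>> p.N2)) := by
  unfold Pre.conc
  simp only [frc_eq]
  rfl

theorem ok_preV {z : G} {x : ℕ → G} {c r n w R : ℕ} (h : Ext z x c r n w R) (h1 : 1 ≤ n) (h7 : n ≤ 7) (hw : w ≤ 32)
    (cs : List (ℕ × List ℕ)) : Ok (preV n r w R cs) z (el x n) c
      ((preV n r w R cs).NC0 ||| (xorL (preV n r w R cs).E c r 0 &&& (preV n r w R cs).F2))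
      (xorL (preV n r w R cs).E c r 0 >>> (preV n r w R cs).N2)
      ((preV n r w R cs).sq 0 &&& ((preV n r w R cs).F ^^^ xorL (preV n r w R cs).E c r 0 >>> (preV n r w R cs).N2))
      (fun y => Pc.get 32 (vT n r w R) (2 ^ n * y + y) >>> r) := by
  have hE := ext_repack h hw
  have hrn : r + n ≤ 32 := hE.width
  have hm : ∀ {a b : ℕ}, a < 2 ^ n → b < 2 ^ n → Pc.get 32 (vT n r w R) (2 ^ n * a + b) >>> r < 2 ^ n ∧
      el x n a * el x n b = el x n (Pc.get 32 (vT n r w R) (2 ^ n * a + b) >>> r) *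
        zp z (par r (Pc.get 32 (vT n r w R) (2 ^ n * a + b) &&& c)) := fun ha hb => hE.mul ha hb
  have hPM : ∀ {k a b : ℕ}, k < 32 → a < 2 ^ n → b < 2 ^ n →
      (plane n (2 ^ (2 ^ n * 2 ^ n) - 1) (vPM n r w R) k).testBit (2 ^ n * a + b) =
        (Pc.get 32 (vT n r w R) (2 ^ n * a + b)).testBit k := fun hk ha hb => by
    rw [testBit_plane (addr_lt ha hb)]
    exact testBit_PM h7 _ hk (addr_lt ha hb)
  have hPT : ∀ {k a b : ℕ}, k < 32 → a < 2 ^ n → b < 2 ^ n →
      (plane n (2 ^ (2 ^ n * 2 ^ n) - 1) (vPT n r w R) k).testBit (2 ^ n * a + b) =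
        (Pc.get 32 (vT n r w R) (2 ^ n * b + a)).testBit k := fun hk ha hb => by
    rw [testBit_plane (addr_lt ha hb)]
    exact (testBit_PT h1 h7 _ (pa_lt _ _) ha hb).trans (testBit_PM h7 _ hk (addr_lt hb ha))
  have hD : ∀ {k a b : ℕ}, k < 32 → a < 2 ^ n → b < 2 ^ n →
      (plane n (2 ^ (2 ^ n * 2 ^ n) - 1) (vPM n r w R ^^^ vPT n r w R) k).testBit (2 ^ n * a + b) =
        (Pc.get 32 (vT n r w R) (2 ^ n * a + b) ^^^ Pc.get 32 (vT n r w R) (2 ^ n * b + a)).testBit k :=
    fun hk ha hb => by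
      rw [Nat.testBit_xor, ← hPM hk ha hb, ← hPT hk ha hb, testBit_plane (addr_lt ha hb),
        testBit_plane (addr_lt ha hb), testBit_plane (addr_lt ha hb), Nat.testBit_xor]
  have hQ : ∀ y v, (∀ i, i < r → (decide (y < 2 ^ n) && (plane n (2 ^ (2 ^ n * 2 ^ n) - 1) (vPM n r w R) i).testBit
      (2 ^ n * y + y)) = v.testBit i) →
      (xorL (preV n r w R cs).E c r 0 >>> (preV n r w R cs).N2).testBit y = par r (v &&& c) := fun y v hv => by
    rw [Nat.testBit_shiftRight]
    refine (testBit_xorL _ c _ v r 0 fun i hi => ?_).trans (by rw [Nat.zero_testBit, Bool.false_xor])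
    show Nat.testBit (_ + _ <<< (2 ^ n * 2 ^ n)) (2 ^ n * 2 ^ n + y) = _
    rw [testBit_cat _ (plane_lt _ _ _), if_neg (by omega), Nat.add_sub_cancel_left, testBit_diag, hv i hi]
  have zpc : ∀ (e : Bool) (y : G), zp z e * y = y * zp z e := fun e y => by
    cases e
    · exact (one_mul y).trans (mul_one y).symm
    · exact h.zc y
  refine ⟨h1, h7, rfl, rfl, rfl, rfl, rfl, rfl, rfl, rfl, rfl, h.z2, h.zc, h.span', h.inj, el_nil x n,
    fun y hy g => ?_, fun a b ha hb => ?_, fun a b ha hb => ?_, lt_of_testBit fun y hy => ?_,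
    fun y hy => (hm hy hy).1, fun y hy => ?_, fun u hu y => ?_, rfl, fun d hd u hu hd1 hu1 => ?_⟩
  · obtain ⟨a, -, e, rfl⟩ := h.span' g
    have h2 : el x n a ∈ Subgroup.centralizer {y} := el_mem a n fun k hk => by
      have h3 : el x n (2 ^ k) * y = y * el x n (2 ^ k) := hy k hk
      have h4 := el_top x (Nat.two_pow_pos k)
      rw [Nat.zero_xor, el_nil, mul_one] at h4
      rw [el_of_lt x (Nat.pow_lt_pow_right (by norm_num) (Nat.lt_succ_self k)) hk, h4] at h3
      exact Subgroup.mem_centralizer_singleton_iff.2 h3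
    rw [mul_assoc, zpc, ← mul_assoc, Subgroup.mem_centralizer_singleton_iff.1 h2, mul_assoc]
  · have ha' : a >>> 1 < 2 ^ n := by
      have : a < 2 * 2 ^ n := ha
      rw [Nat.shiftRight_eq_div_pow]
      omega
    have hb' : b >>> 1 < 2 ^ n := by
      have : b < 2 * 2 ^ n := hb
      rw [Nat.shiftRight_eq_div_pow]
      omega
    obtain ⟨h2, h3⟩ := hm ha' hb'
    have h4 : (preV n r w R cs).mul c a b = (Pc.get 32 (vT n r w R) (2 ^ n * (a >>> 1) + b >>> 1) >>> r) * 2 +
        (cnt r ((Pc.get 32 (vT n r w R) (2 ^ n * (a >>> 1) + b >>> 1) &&& c) % 2 ^ r) ^^^ (a ^^^ b)) % 2 := by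
      have h5 : Nat.land (Nat.shiftRight (vT n r w R) (Nat.shiftLeft (Nat.add (Nat.shiftLeft (Nat.shiftRight a 1) n)
          (Nat.shiftRight b 1)) 5)) 4294967295 = Pc.get 32 (vT n r w R) (2 ^ n * (a >>> 1) + b >>> 1) := by
        rw [shl_eq, shl_eq, Nat.mul_comm _ (2 ^ n), Nat.mul_comm _ (2 ^ 5)]
        exact Nat.and_two_pow_sub_one_eq_mod _ 32
      show Nat.add (Nat.shiftLeft (Nat.shiftRight (Nat.land _ 4294967295) r) 1) (Nat.land (Nat.xor
        (pop (Nat.land (Nat.land (Nat.land _ 4294967295) c) (msk r))) (Nat.xor a b)) 1) = _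
      erw [h5]
      rw [land_msk, pop_eq (by omega) (Nat.mod_lt _ (Nat.two_pow_pos r)), shl_eq, nland, Nat.and_one_is_mod]
      rfl
    rw [h4]
    generalize Pc.get 32 (vT n r w R) (2 ^ n * (a >>> 1) + b >>> 1) = t at h2 h3 ⊢
    have h5 := Nat.mod_lt (cnt r ((t &&& c) % 2 ^ r) ^^^ (a ^^^ b)) (show 0 < 2 by norm_num)
    refine ⟨by show _ < 2 * 2 ^ n; omega, ?_⟩
    unfold e2
    have h6 : (t >>> r * 2 + (cnt r ((t &&& c) % 2 ^ r) ^^^ (a ^^^ b)) % 2) >>> 1 = t >>> r := by
      rw [Nat.shiftRight_eq_div_pow _ 1]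
      omega
    have h8 : (t >>> r * 2 + (cnt r ((t &&& c) % 2 ^ r) ^^^ (a ^^^ b)) % 2).testBit 0 =
        xor (par r (t &&& c)) (xor (a.testBit 0) (b.testBit 0)) := by
      rw [← Nat.testBit_xor, ← par_congr (a := (t &&& c) % 2 ^ r) r fun i hi => by
        rw [Nat.testBit_mod_two_pow, decide_eq_true hi, Bool.true_and], ← cnt_par, ← Nat.testBit_xor,
        Nat.testBit_zero, Nat.testBit_zero]
      congr 1
      rw [Nat.mul_comm, Nat.mul_add_mod, Nat.mod_mod]
    rw [h6, h8, zp_xor h.z2, ← mul_assoc (el x n (t >>> r)), ← h3, zp_xor h.z2, mul_assoc,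
      ← mul_assoc (zp z (a.testBit 0)), zpc]
    simp only [mul_assoc]
  · have ha' : a < 2 ^ n := ha
    have hb' : b < 2 ^ n := hb
    obtain ⟨h2, h3⟩ := hm ha' hb'
    obtain ⟨h4, h5⟩ := hm hb' ha'
    have h6 : (xorL (preV n r w R cs).E c r 0 &&& (preV n r w R cs).F2).testBit (2 ^ n * a + b) =
        xor (par r (Pc.get 32 (vT n r w R) (2 ^ n * a + b) &&& c))
          (par r (Pc.get 32 (vT n r w R) (2 ^ n * b + a) &&& c)) := by
      have h7 : 2 ^ n * a + b < 2 ^ n * 2 ^ n := by rw [← Nat.pow_add]; exact addr_lt ha' hb'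
      rw [← par_xor, ← Nat.and_xor_distrib_right, Nat.testBit_and,
        show (preV n r w R cs).F2 = 2 ^ (2 ^ n * 2 ^ n) - 1 from rfl, Nat.testBit_two_pow_sub_one, decide_eq_true h7,
        Bool.and_true]
      refine (testBit_xorL _ c _ _ r 0 fun i hi => ?_).trans (by rw [Nat.zero_testBit, Bool.false_xor])
      show Nat.testBit (_ + _ <<< (2 ^ n * 2 ^ n)) _ = _
      rw [testBit_cat _ (plane_lt _ _ _), if_pos h7, hD (by omega) ha' hb']
    have h8 : (preV n r w R cs).NC0.testBit (2 ^ n * a + b) = true ↔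
        Pc.get 32 (vT n r w R) (2 ^ n * a + b) >>> r ≠ Pc.get 32 (vT n r w R) (2 ^ n * b + a) >>> r := by
      refine (testBit_orPl _ _ _ _ _ n).trans ⟨fun ⟨i, hi, h9⟩ h10 => ?_, fun h9 => ?_⟩
      · rw [hD (by omega) ha' hb', Nat.testBit_xor, ← Nat.testBit_shiftRight, ← Nat.testBit_shiftRight, h10,
          Bool.xor_self] at h9
        cases h9
      · by_contra h10
        refine h9 (eq_of_testBit_lt h2 h4 fun i hi => ?_)
        have h11 : ¬ _ := fun h11 => h10 ⟨i, hi, h11⟩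
        rw [hD (by omega) ha' hb', Nat.testBit_xor, ← Nat.testBit_shiftRight, ← Nat.testBit_shiftRight] at h11
        revert h11
        cases (Pc.get 32 (vT n r w R) (2 ^ n * a + b) >>> r).testBit i <;>
          cases (Pc.get 32 (vT n r w R) (2 ^ n * b + a) >>> r).testBit i <;> simp
    show Nat.testBit (_ ||| _) (2 ^ n * a + b) = true ↔ el x n a * el x n b ≠ el x n b * el x n a
    rw [Nat.testBit_or, Bool.or_eq_true, h6, h8, h3, h5]
    constructor
    · intro h9 h10
      obtain ⟨h11, h12⟩ := h.inj h2 h4 h10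
      rcases h9 with h9 | h9
      · exact h9 h11
      · rw [h12, Bool.xor_self] at h9
        cases h9
    · intro h9
      by_contra h10
      rw [not_or, not_not] at h10
      refine h9 ?_
      rw [h10.1]
      congr 2
      have h11 := h10.2
      revert h11
      cases par r (Pc.get 32 (vT n r w R) (2 ^ n * a + b) &&& c) <;>
        cases par r (Pc.get 32 (vT n r w R) (2 ^ n * b + a) &&& c) <;> simp
  · have hy' : 2 ^ n ≤ y := hy
    rw [hQ y 0 fun i _ => by rw [decide_eq_false (by omega), Bool.false_and, Nat.zero_testBit], Nat.zero_and, par_zero]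
  · have hy' : y < 2 ^ n := hy
    rw [hQ y _ fun i hi => by rw [decide_eq_true hy', Bool.true_and, hPM (by omega) hy' hy']]
    exact (hm hy' hy').2
  · have hu' : u < 2 ^ n := hu
    refine ((sqt_spec (n := n) (sq := fun y => Pc.get 32 (vT n r w R) (2 ^ n * y + y) >>> r) n (fun i hi y hy => ?_) _
      (Nat.sub_lt (Nat.two_pow_pos _) Nat.one_pos)).2 u hu' y).trans ?_
    · rw [(diags_spec _ _ _ _ n).2 i hi, testBit_diag, decide_eq_true hy, Bool.true_and, hPM (by omega) hy hy,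
        Nat.testBit_shiftRight]
    · rw [Nat.testBit_two_pow_sub_one]
      show _ = (decide (y < 2 ^ n) && _)
      by_cases hy : y < 2 ^ n
      · rw [Nat.mod_eq_of_lt (hm hy hy).1]
      · rw [decide_eq_false hy, Bool.false_and, Bool.false_and]
  · obtain ⟨d, -, rfl⟩ := List.mem_map.1 hd
    obtain ⟨u, -, rfl⟩ := List.mem_map.1 hu
    have hd' : d.1 < 2 ^ n := hd1
    have hu' : u < 2 ^ n := hu1
    obtain ⟨h2, h3⟩ := cjm_spec n (2 ^ (2 ^ n * 2 ^ n) - 1) (vPM n r w R) (vPT n r w R) r d.1 u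
    refine ⟨h2, fun g hg => ?_⟩
    obtain ⟨h4, h5⟩ := h3 g hg
    obtain ⟨h6, h8⟩ := hm hd' h4
    obtain ⟨h9, h10⟩ := hm h4 hu'
    have h11 := eq_of_testBit_lt h6 h9 fun i hi => by
      rw [Nat.testBit_shiftRight, Nat.testBit_shiftRight, ← hPM (by omega) hd' h4, h5 i hi, hPT (by omega) hu' h4]
    refine ⟨xor (par r (Pc.get 32 (vT n r w R) (2 ^ n * g + u) &&& c))
      (par r (Pc.get 32 (vT n r w R) (2 ^ n * d.1 + g) &&& c)), ?_⟩
    show el x n d.1 * el x n g = el x n g * el x n u * _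
    rw [h8, h10, h11, mul_assoc, ← zp_xor h.z2, ← Bool.xor_assoc, Bool.xor_self, Bool.false_xor]

end Cfsg.Agent.FS.Sw
end

-- part: FS/Sw/Snd
section
/-!
# The filter on pairs: soundness (helper49, project FS)
-/

set_option autoImplicit false

namespace Cfsg.Agent.FS.Sw

open Cfsg Cfsg.FusionSystem Cfsg.Agent.FS.Pc Cfsg.Agent.FS.Th Finset

universe u

variable {G : Type u} [Group G]

theorem cov_in {j : ℕ} : ∀ (U : List (ℕ × ℕ)) (A : ℕ), (List.rec (motive := fun _ => ℕ) A
    (fun u _ B => Nat.lor B (Nat.shiftLeft 1 u.1)) U).testBit j = true → A.testBit j = true ∨ ∃ u ∈ U, u.1 = j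
  | [], _, h => Or.inl h
  | u :: U, A, h => by
    have h1 : Nat.testBit (Nat.lor (List.rec (motive := fun _ => ℕ) A
      (fun u _ B => Nat.lor B (Nat.shiftLeft 1 u.1)) U) (Nat.shiftLeft 1 u.1)) j = true := h
    rw [nlor, one_shl, Nat.testBit_or, Bool.or_eq_true, Nat.testBit_two_pow, decide_eq_true_iff] at h1
    rcases h1 with h1 | h1
    · exact (cov_in U A h1).imp_right fun ⟨v, a1, a2⟩ => ⟨v, List.mem_cons_of_mem _ a1, a2⟩
    · exact Or.inr ⟨u, List.mem_cons_self, h1⟩

theorem cov_out {j : ℕ} : ∀ (C : List (ℕ × List (ℕ × ℕ))), (List.rec (motive := fun _ => ℕ) 1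
    (fun d _ A => List.rec (motive := fun _ => ℕ) A (fun u _ B => Nat.lor B (Nat.shiftLeft 1 u.1)) d.2) C).testBit j =
      true → j = 0 ∨ ∃ d ∈ C, ∃ u ∈ d.2, u.1 = j
  | [], h => Or.inl (by
      have h1 : Nat.testBit 1 j = true := h
      rwa [testBit_one', decide_eq_true_iff] at h1)
  | d :: C, h => by
    rcases cov_in d.2 _ h with h1 | h1
    · exact (cov_out C h1).imp_right fun ⟨v, a1, a2⟩ => ⟨v, List.mem_cons_of_mem _ a1, a2⟩
    · exact Or.inr ⟨d, List.mem_cons_self, h1⟩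

theorem cover_spec {p : Pre} (h : p.cover = true) :
    (∀ d ∈ p.C, d.1 < p.N ∧ 0 < d.1 ∧ ∀ u ∈ d.2, u.1 < p.N ∧ 0 < u.2) ∧
      ∀ j, (p.sq 0).testBit j = true → j = 0 ∨ ∃ d ∈ p.C, ∃ u ∈ d.2, u.1 = j := by
  unfold Pre.cover at h
  rw [band_eq, Bool.and_eq_true, frc_eq, allL_spec, beq_iff] at h
  refine ⟨fun d hd => ?_, fun j hj => cov_out _ ?_⟩
  · have h1 := h.1 d hd
    rw [band_eq, band_eq, Bool.and_eq_true, Bool.and_eq_true, blt_iff, blt_iff, allL_spec] at h1
    refine ⟨h1.1, h1.2.1, fun u hu => ?_⟩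
    have h2 := h1.2.2 u hu
    rwa [band_eq, Bool.and_eq_true, blt_iff, blt_iff] at h2
  · rw [← h.2, nland, Nat.testBit_and, Bool.and_eq_true] at hj
    exact hj.2

theorem short_spec : ∀ {L : List ℕ}, Pre.short L = true → ∃ a b, ∀ x ∈ L, x = a ∨ x = b
  | [], _ => ⟨0, 0, fun _ h => by cases h⟩
  | [a], _ => ⟨a, a, fun _ h => Or.inl (List.mem_singleton.1 h)⟩
  | [a, b], _ => ⟨a, b, fun _ h => by simpa using h⟩
  | _ :: _ :: _ :: _, h => by cases h

namespace Ok

variable {p : Pre} {z : G} {s : ℕ → G} {c NC Q I : ℕ} {sq : ℕ → ℕ}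

theorem all_false (h : Ok p z s c NC Q I sq) (hcov : p.cover = true) {P : Subgroup G} {w : ℕ} (hw : w < 2 * 2 ^ p.n)
    (hw2 : e2 z s w * e2 z s w = 1) (hwc : ∀ g, g * e2 z s w = e2 z s w * g) (hL : LocZ (e2 z s w) P ⊥) (lev : Bool)
    (hc : Pre.allL (p.cls lev c NC Q I w) p.C = true) : False := by
  have := h.finite
  obtain ⟨c1, c2⟩ := cover_spec hcov
  obtain ⟨t, -, htP, -, α, hα⟩ := hL.exists_shape hwc hw2
  have hv : fn α (e2 z s w) * fn α (e2 z s w) = 1 := by rw [← fn_map_mul α hα.zP hα.zP, hw2, fn_map_one]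
  have hcen := hα.cen
  obtain ⟨a, ha, e, h1⟩ := h.span (fn α (e2 z s w))
  rw [h1] at hv hcen
  rw [h.sq_zp] at hv
  have h2 : (p.sq 0).testBit a = true := by
    have h3 := h.q a ha
    have h4 : s 0 * zp z false = s (sq a) * zp z (Q.testBit a) := by
      rw [← h3, hv, h.s0]
      exact mul_one _
    rw [h.testBit_sq (Nat.two_pow_pos _), decide_eq_true ha, ← (h.inj (Nat.two_pow_pos _) (h.sqlt _ ha) h4).1]
    rfl
  rcases c2 a h2 with rfl | ⟨d, hd, u, hu, rfl⟩
  · refine htP ((hcen t).1 ?_)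
    rw [h.s0, one_mul, h.zp_comm]
  obtain ⟨d1, d2, d3⟩ := c1 d hd
  rw [h.hN] at d1 d3
  obtain ⟨g, hg⟩ := Nat.exists_testBit_of_ne_zero (d3 u hu).2.ne'
  obtain ⟨f, h3⟩ := (h.cj d hd u hu d1 ha).2 g hg
  have h4 : s d.1 = s g * (s u.1 * zp z f) * (s g)⁻¹ := by rw [← mul_assoc, ← h3, mul_inv_cancel_right]
  have h5 := locZ_equiv hL hwc (MulAut.conj (s g))
  rw [MulAut.conj_apply, hwc, mul_inv_cancel_right] at h5
  refine h.cls_false hw hw2 hwc h5 hd d2 d1 (fun v hv => (d3 v hv).1) (fun y => ?_) ?_ lev (allL_spec.1 hc d hd)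
  · rw [Subgroup.mem_map_equiv, MulAut.conj_symm_apply, ← hcen, h.comm_zp', ← h.comm_zp' _ _ f, h4]
    constructor
    · intro h6
      calc _ = s g * (s u.1 * zp z f * ((s g)⁻¹ * y * s g)) * (s g)⁻¹ := by group
        _ = _ := by rw [← h6]; group
    · intro h6
      calc _ = (s g)⁻¹ * (y * (s g * (s u.1 * zp z f) * (s g)⁻¹)) * s g := by group
        _ = _ := by rw [← h6]; group
  · calc _ = s g * (s u.1 * zp z f * (s u.1 * zp z f)) * (s g)⁻¹ := by rw [h4]; group
      _ = 1 := by rw [h.sq_zp, hv]; group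

theorem e2_zero (h : Ok p z s c NC Q I sq) : e2 z s 0 = 1 := by
  rw [← h.s0]
  exact h.e2_double 0

theorem e2_one (h : Ok p z s c NC Q I sq) : e2 z s 1 = z := by
  show s 0 * z = z
  rw [h.s0, one_mul]

theorem s1_false (h : Ok p z s c NC Q I sq) (hcov : p.cover = true) {P : Subgroup G} (hL : LocZ z P ⊥)
    (hc : Pre.allL (p.cls false c NC Q I 1) p.C = true) : False :=
  h.all_false hcov (w := 1) (by have := h.two_le; omega) (by rw [h.e2_one, h.z2]) (fun g => by rw [h.e2_one, h.zc])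
    (by rwa [h.e2_one]) false hc

theorem s2_false (h : Ok p z s c NC Q I sq) (hcov : p.cover = true) {F : FusionSystem (⊤ : Subgroup G)} (hF : Hyp F)
    (hG : IsPGroup 2 G) {w : ℕ} (h0 : 0 < w) (hw : (p.cen NC I).testBit (w >>> 1) = true)
    (hc : Pre.colM (fun a => band (Nat.blt 0 a) (p.same true NC Q p.F a w)) false
      (fun L => ite' (Pre.short L) (Pre.allL (p.cls true c NC Q I w) p.C)
        (Pre.allL (fun a => Pre.allL (p.cls true c NC Q I a) p.C) L)) p.N1 (p.cen NC I) [] = true) : False := by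
  have := h.finite
  have hW := h.rep_cen
  rw [Nat.shiftRight_eq_div_pow, Nat.pow_one] at hw
  have hw' : w < 2 * 2 ^ p.n := by
    have := lt_of_testBit_true hW.1 hw
    omega
  obtain ⟨w2, wc⟩ := (h.rep_e2 hW hw').1 hw
  have w1 : e2 z s w ≠ 1 := fun h1 => h0.ne' (h.e2_inj hw' (by omega) (h1.trans h.e2_zero.symm))
  obtain ⟨L, a1, -, a2⟩ := colM_spec _ _ _ hc
  have hT : Rep p.n z s p.F ((⊤ : Subgroup G) : Set G) := by
    rw [h.hF]
    exact rep_univ _ _ _
  let X : Set G := {y | ∃ θ : MulAut G, θ (e2 z s w) = y}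
  have hX2 : ∀ y ∈ X, y * y = 1 := by
    rintro _ ⟨θ, rfl⟩
    rw [← map_mul, w2, map_one]
  have hXc : ∀ y ∈ X, ∀ g, g * y = y * g := by
    rintro _ ⟨θ, rfl⟩ g
    rw [← θ.apply_symm_apply g, ← map_mul, wc, map_mul]
  have hXi : ∀ θ : MulAut G, ∀ y ∈ X, θ y ∈ X := by
    rintro θ _ ⟨η, rfl⟩
    exact ⟨θ * η, rfl⟩
  have hXL : ∀ y ∈ X, ∃ a ∈ L, a < 2 * 2 ^ p.n ∧ y = e2 z s a := fun y hy => by
    obtain ⟨a, ha, h1⟩ := h.span2 y
    refine ⟨a, a2 a ((h.rep_e2 hW ha).2 (h1 ▸ ⟨hX2 y hy, hXc y hy⟩)) ?_, ha, h1⟩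
    obtain ⟨θ, h2⟩ := hy
    rw [band_eq, Bool.and_eq_true, blt_iff]
    refine ⟨Nat.pos_of_ne_zero fun h3 => w1 (θ.injective ?_), h.same_true hT true ha hw'
      (MulAut.congr Subgroup.topEquiv.symm θ⁻¹) (Subgroup.mem_top _) ?_⟩
    · rw [h2, h1, h3, h.e2_zero, map_one]
    · rw [fn_apply _ (Subgroup.mem_top _), ← h1, ← h2]
      exact θ.symm_apply_apply _
  have hwX : e2 z s w ∈ X := ⟨1, rfl⟩
  cases h3 : Pre.short L
  · rw [h3, ite'_false, allL_spec] at a1
    obtain ⟨y, hy, P, -, h4⟩ := hF.exists_locZ_char hG hXc ⟨_, hwX, w1⟩ hXi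
    obtain ⟨a, b1, b2, rfl⟩ := hXL y hy
    exact h.all_false hcov b2 (hX2 _ hy) (hXc _ hy) h4 true (a1 a b1)
  · rw [h3, ite'_true] at a1
    obtain ⟨a, b, h4⟩ := short_spec h3
    obtain ⟨y, hy, P, -, h5⟩ := hF.exists_locZ hG (X := {e2 z s w}) (fun y hy => hy ▸ wc) ⟨_, rfl, w1⟩
      fun f hf y hy => by
        rw [show y = e2 z s w from hy]
        refine fixes_of_two' hG hF.sat hXc hXi (fun x hx y hy u hu => ?_) hf hwX
        obtain ⟨x, x1, -, rfl⟩ := hXL x hx
        obtain ⟨y, y1, -, rfl⟩ := hXL y hy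
        obtain ⟨u, u1, -, rfl⟩ := hXL u hu
        rcases h4 x x1 with rfl | rfl <;> rcases h4 y y1 with q | q <;> rcases h4 u u1 with r | r <;> simp [q, r]
    rw [show y = e2 z s w from hy] at h5
    exact h.all_false hcov hw' w2 wc h5 true a1

end Ok

theorem run_spec {p : Pre} {reps lo : ℕ} {outs : List ℕ} : ∀ (k ce : ℕ), p.run reps lo k outs ce = true →
    ∀ i, lo ≤ i → i < lo + k →
      i ∈ outs ∨ p.s1 (Pc.get p.r reps i) = true ∨ ∃ w, p.s2 (Pc.get p.r reps i) w = true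
  | 0, _, _, i, h1, h2 => by omega
  | k + 1, ce, h, i, h1, h2 => by
    have h3 : p.run reps lo (k + 1) outs ce = frc (Nat.add lo k) fun i =>
      frc (Nat.land (Nat.shiftRight reps (Nat.mul p.r i)) (msk p.r)) fun c =>
      ite' (Nat.beq (Nat.shiftRight (Nat.land ce 16777215) 9) (Nat.succ i))
        (frc (Nat.land ce 511) fun w => band (ite' (Nat.beq w 0)
          (bnot (Pre.allL (fun o => bnot (Nat.beq o i)) outs)) (p.s2 c w))
          (frc (Nat.shiftRight ce 24) (p.run reps lo k outs)))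
        (band (p.s1 c) (p.run reps lo k outs ce)) := rfl
    have h4 : Nat.land (Nat.shiftRight reps (Nat.mul p.r (Nat.add lo k))) (msk p.r) = Pc.get p.r reps (lo + k) :=
      land_msk _ _
    rw [h3, frc_eq, frc_eq, frc_eq, frc_eq, h4, nadd] at h
    have key : ∀ ce', p.run reps lo k outs ce' = true → (lo + k ∈ outs ∨ p.s1 (Pc.get p.r reps (lo + k)) = true ∨
        ∃ w, p.s2 (Pc.get p.r reps (lo + k)) w = true) →
        i ∈ outs ∨ p.s1 (Pc.get p.r reps i) = true ∨ ∃ w, p.s2 (Pc.get p.r reps i) w = true := fun ce' a1 a2 => by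
      by_cases h5 : i = lo + k
      · rwa [h5]
      · exact run_spec k ce' a1 i h1 (by omega)
    generalize Nat.beq (Nat.shiftRight (Nat.land ce 16777215) 9) (Nat.succ (lo + k)) = b at h
    cases b
    · rw [ite'_false, band_eq, Bool.and_eq_true] at h
      exact key _ h.2 (Or.inr (Or.inl h.1))
    · rw [ite'_true, band_eq, Bool.and_eq_true] at h
      refine key _ h.2 ?_
      have h5 := h.1
      generalize Nat.beq (Nat.land ce 511) 0 = b at h5
      cases b
      · exact Or.inr (Or.inr ⟨_, h5⟩)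
      · left
        rw [ite'_true, bnot_eq, Bool.not_eq_true', ← Bool.not_eq_true, allL_spec] at h5
        by_contra h6
        refine h5 fun o ho => ?_
        cases h7 : Nat.beq o (lo + k)
        · rfl
        · exact (h6 ((beq_iff _ _).1 h7 ▸ ho)).elim

/-- **Soundness of the filter.** -/
theorem chk_sound {n : ℕ} {B : Base} {cd lo k ce : ℕ} {outs : List ℕ} (hc : chk n B cd lo k ce outs = true) {i : ℕ}
    (h1 : lo ≤ i) (h2 : i < lo + k) {z : G} {x : ℕ → G} (hx : Ext z x (Pc.get B.r B.reps i) B.r n B.w B.rel)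
    {F : FusionSystem (⊤ : Subgroup G)} (hF : Hyp F) {P : Subgroup G} (hz : LocZ z P ⊥) : i ∈ outs := by
  unfold chk at hc
  rw [band_eq, band_eq, band_eq, Bool.and_eq_true, Bool.and_eq_true, Bool.and_eq_true, ble_iff, ble_iff, ble_iff, pre_eq,
    band_eq, Bool.and_eq_true, frc_eq] at hc
  obtain ⟨a1, a2, a3, a4, a5⟩ := hc
  have hok := ok_preV hx a3 a2 a1 (dec 128 cd [])
  rcases run_spec _ _ a5 i h1 h2 with h3 | h3 | ⟨w, h3⟩
  · exact h3
  · unfold Pre.s1 at h3
    rw [conc_eq] at h3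
    exact (hok.s1_false a4 hz h3).elim
  · unfold Pre.s2 at h3
    rw [conc_eq, frc_eq, band_eq, band_eq, Bool.and_eq_true, Bool.and_eq_true, blt_iff, tb_eq] at h3
    exact (hok.s2_false a4 hF hx.isPGroup h3.1 h3.2.1 h3.2.2).elim

end Cfsg.Agent.FS.Sw
end
end

-- part: FS/Asm/Red
section
set_option linter.all false
open scoped Cfsg.Agent.FastGrp

-- part: FS/Th/Elem
section
/-!
# Groups whose squares lie in `{1, z}` (helper79, project FS)

If (H) holds and `G / ⟨z⟩` is elementary abelian for a central involution `z` then `G` has order `8`.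
-/

set_option autoImplicit false

namespace Cfsg.Agent.FS.Th

open Cfsg Cfsg.FusionSystem Cfsg.Agent.H802 Cfsg.Agent.H752

universe u

variable {G : Type u} [Group G]

theorem Hyp.card_of_index [Finite G] [Nontrivial G] (hG : IsPGroup 2 G) {F : FusionSystem (⊤ : Subgroup G)}
    (h : Hyp F) {K : Subgroup G} (hK : ∀ x ∈ K, ∀ g, g * x = x * g) (hi : K.index ≤ 4) : Nat.card G = 8 := by
  have : Fact (Nat.Prime 2) := ⟨Nat.prime_two⟩
  have h1 := (S5265.result 2 (hG.to_subgroup ⊤) F h.sat top_ne_bot h.core h.hyp (by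
    have h2 : K.comap (⊤ : Subgroup G).subtype ≤ Subgroup.center (⊤ : Subgroup G) := fun x hx =>
      Subgroup.mem_center_iff.2 fun g => Subtype.ext (hK x hx g)
    refine (Subgroup.index_antitone h2).trans ?_
    rw [Subgroup.index_comap_of_surjective _ fun g => ⟨⟨g, Subgroup.mem_top g⟩, rfl⟩]
    exact hi)).2.1
  rwa [Subgroup.card_top] at h1

theorem comm_of_sq {z : G} (z2 : z * z = 1) (zc : ∀ y, z * y = y * z) (hsq : ∀ g : G, g * g = 1 ∨ g * g = z)
    (a b : G) : a * b = b * a ∨ a * b = b * a * z := by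
  have h1 : a * b = b * a * ((b * a)⁻¹ * (b * a)⁻¹) * (b * (a * a) * b) := by group
  have h2 : ∀ g : G, g * g = 1 ∨ g * g = z → ∀ y, g * g * y = y * (g * g) := fun g hg y => by
    rcases hg with hg | hg <;> rw [hg]
    · rw [one_mul, mul_one]
    · exact zc y
  rw [← h2 a (hsq a) b, mul_assoc (a * a), mul_assoc (b * a)] at h1
  rcases hsq (b * a)⁻¹ with h3 | h3 <;> rcases hsq a with h4 | h4 <;> rcases hsq b with h5 | h5 <;>
    rw [h3, h4, h5] at h1 <;> simp only [one_mul, mul_one, z2] at h1 <;> first | exact Or.inl h1 | exact Or.inr h1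

theorem index_cent_le {z : G} (z2 : z * z = 1) (zc : ∀ y, z * y = y * z) (hsq : ∀ g : G, g * g = 1 ∨ g * g = z)
    (w : G) : (Subgroup.centralizer {w}).index ≤ 2 := by
  refine Nat.le_of_dvd (by norm_num) (Subgroup.index_dvd_two_iff.2 ?_)
  by_cases h : ∀ g, g * w = w * g
  · exact ⟨1, fun b => Or.inr (Subgroup.mem_centralizer_singleton_iff.2 (h b))⟩
  push Not at h
  obtain ⟨a, ha⟩ := h
  refine ⟨a, fun b => ?_⟩
  rcases comm_of_sq z2 zc hsq b w with h1 | h1
  · exact Or.inr (Subgroup.mem_centralizer_singleton_iff.2 h1)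
  · left
    rw [Subgroup.mem_centralizer_singleton_iff, mul_assoc, (comm_of_sq z2 zc hsq a w).resolve_left ha, ← mul_assoc,
      ← mul_assoc, h1, mul_assoc (w * b), zc, mul_assoc, mul_assoc a, z2, mul_one, mul_assoc]

/-- **The excluded case of part A.** -/
theorem Hyp.card_of_sq [Finite G] (hG : IsPGroup 2 G) {F : FusionSystem (⊤ : Subgroup G)} (h : Hyp F) {z : G}
    (z2 : z * z = 1) (z1 : z ≠ 1) (zc : ∀ y, z * y = y * z) (hsq : ∀ g : G, g * g = 1 ∨ g * g = z) :
    Nat.card G = 8 := by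
  have : Nontrivial G := ⟨z, 1, z1⟩
  by_cases h0 : ∃ g, g * g = z
  swap
  · have h1 : ∀ g : G, g * g = 1 := fun g => (hsq g).resolve_right fun h1 => h0 ⟨g, h1⟩
    refine h.card_of_index hG (K := ⊤) (fun x _ g => ?_) (by rw [Subgroup.index_top]; norm_num)
    rcases comm_of_sq (mul_one 1) (fun y => (one_mul y).trans (mul_one y).symm) (fun g => Or.inl (h1 g)) g x with
      h2 | h2
    · exact h2
    · rw [h2, mul_one]
  obtain ⟨g₀, h0⟩ := h0
  obtain ⟨w, rfl : w = z, P, -, hP⟩ := h.exists_locZ_char hG (X := {z}) (fun w hw g => by rw [hw, zc])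
    ⟨z, rfl, z1⟩ fun θ w hw => by
      rw [hw, ← h0, map_mul]
      refine (hsq _).resolve_left (fun h1 => z1 (θ.injective ?_)) |>.trans h0.symm
      rw [← h0, map_mul, h1, map_one]
  obtain ⟨t, -, htP, -, α, hs⟩ := hP.exists_shape (fun g => (zc g).symm) z2
  have hab : ∀ x ∈ P, ∀ y ∈ P, x * y = y * x := fun x hx y hy => by
    refine (comm_of_sq z2 zc hsq x y).resolve_right fun h1 => htP ((hs.cen t).1 ?_)
    have h2 := congrArg (fn α) h1
    rw [fn_map_mul α hx hy, fn_map_mul α (P.mul_mem hy hx) hs.zP, fn_map_mul α hy hx] at h2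
    rcases comm_of_sq z2 zc hsq (fn α x) (fn α y) with h3 | h3
    · rw [h3, left_eq_mul] at h2
      rw [h2, mul_one, one_mul]
    · rw [h3, mul_right_inj] at h2
      rw [← h2, zc]
  refine h.card_of_index hG (K := Subgroup.centralizer {fn α w} ⊓ Subgroup.centralizer {t}) (fun x hx g => ?_)
    (Subgroup.index_inf_le.trans (Nat.mul_le_mul (index_cent_le z2 zc hsq _) (index_cent_le z2 zc hsq _)))
  have h1 : x ∈ P := (hs.cen x).1 (Subgroup.mem_centralizer_singleton_iff.1 hx.1)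
  have h2 : x * t = t * x := Subgroup.mem_centralizer_singleton_iff.1 hx.2
  by_cases hg : g ∈ P
  · exact hab g hg x h1
  · have h3 : g * t ∈ P := (hs.cen _).1 (by
      rw [mul_assoc, (comm_of_sq z2 zc hsq t _).resolve_left fun h3 => htP ((hs.cen t).1 h3), ← mul_assoc, ← mul_assoc,
        (comm_of_sq z2 zc hsq g _).resolve_left fun h3 => hg ((hs.cen g).1 h3), mul_assoc (fn α w * g), zc, mul_assoc,
        mul_assoc t, z2, mul_one, mul_assoc])
    have h4 := hab _ h3 x h1
    rw [mul_assoc, ← h2, ← mul_assoc, ← mul_assoc, mul_left_inj] at h4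
    exact h4

end Cfsg.Agent.FS.Th
end

-- part: FS/Asm/Red
section
/-!
# Glue for the final assembly (helper83, project FS)

* `Good G`, `reduce`: the statement S5263 follows from `Good G` for the groups `G : Type` of order `2 ^ (n + 1)`, `2 ≤ n ≤ 7`.
* `closed_tw`, `tw_of_le`: two systems generated by corresponding maps are twisted.
* `gen_of_table`: generators with the presentation `D` from any multiplication table.
-/

set_option autoImplicit false

namespace Cfsg.Agent.FS.Asm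

open Cfsg Cfsg.FusionSystem Cfsg.Agent.H752 Cfsg.Agent.FS.Th Cfsg.Agent.FS.Real

universe u

/-- Every system with (H) over `G` is realizable. -/
def Good (G : Type u) [Group G] : Prop := ∀ F : FusionSystem (⊤ : Subgroup G), Hyp F → F.IsRealizable 2

theorem good_of_subsingleton (G : Type u) [Group G] [Subsingleton G] : Good G := fun F _ => by
  have : Fact (Nat.Prime 2) := ⟨Nat.prime_two⟩
  refine Ind.isRealizable (f := MonoidHom.id G) (fun P a => ⟨fun _ => ⟨1, fun _ _ => Subsingleton.elim _ _⟩,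
    fun _ => (mp_id F le_top).congr fun _ _ => Subsingleton.elim _ _⟩) Function.injective_id default ?_
  ext x
  rw [Subsingleton.elim x 1]
  exact ⟨fun _ => Subgroup.one_mem _, fun _ => Subgroup.one_mem _⟩

theorem exists_central_involution {G : Type u} [Group G] [Finite G] [Nontrivial G] (hG : IsPGroup 2 G) :
    ∃ z : G, z * z = 1 ∧ z ≠ 1 ∧ ∀ y, z * y = y * z := by
  have : Fact (Nat.Prime 2) := ⟨Nat.prime_two⟩
  have hZ := hG.center_nontrivial
  obtain ⟨k, hk0, hk⟩ := (hG.to_subgroup (Subgroup.center G)).nontrivial_iff_card.1 hZ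
  obtain ⟨c, hc⟩ := exists_prime_orderOf_dvd_card' (G := Subgroup.center G) 2 (hk ▸ dvd_pow_self 2 hk0.ne')
  refine ⟨c, ?_, fun h => ?_, fun y => (Subgroup.mem_center_iff.1 c.2 y).symm⟩
  · have h3 : c * c = 1 := by rw [← pow_two, ← hc, pow_orderOf_eq_one]
    exact congrArg Subtype.val h3
  · rw [show c = 1 from Subtype.ext h, orderOf_one] at hc
    omega

section tw

variable {A : Type u} [Group A] {F F' : FusionSystem (⊤ : Subgroup A)}

/-- The map `f` on `P`, moved by `θ`, belongs to `F'`. -/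
def Mv (F' : FusionSystem (⊤ : Subgroup A)) (θ : MulAut A) (P : Subgroup A) (f : A → A) : Prop :=
  Mp F' (P.map θ.toMonoidHom) fun y => θ (f (θ⁻¹ y))

theorem mem_map_iff' (θ : MulAut A) (P : Subgroup A) (y : A) : y ∈ P.map θ.toMonoidHom ↔ θ⁻¹ y ∈ P := by
  constructor
  · rintro ⟨x, hx, rfl⟩
    show θ⁻¹ (θ x) ∈ P
    rwa [MulAut.inv_apply_self]
  · intro h
    exact ⟨_, h, MulAut.apply_inv_self _ _ _⟩

theorem closed_tw (F F' : FusionSystem (⊤ : Subgroup A)) (θ : MulAut A) : Closed F (Mv F' θ) where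
  congr := fun P f g _ h1 h2 => Mp.congr h1 fun y hy => by rw [h2 _ ((mem_map_iff' θ P y).1 hy)]
  comp := fun P Q f g _ _ h1 h2 h3 => (Mp.comp h1 h2 fun y hy => ⟨_, h3 _ ((mem_map_iff' θ P y).1 hy), rfl⟩).congr
    fun y _ => by rw [MulAut.inv_apply_self]
  inv := fun P R f g _ h1 _ h2 _ => Mp.symm h1 fun y hy => by
    obtain ⟨x, hx, h3, h4⟩ := h2 _ ((mem_map_iff' θ R y).1 hy)
    refine ⟨θ x, ⟨x, hx, rfl⟩, ?_, by rw [h4]⟩
    rw [MulAut.inv_apply_self, h3, MulAut.apply_inv_self]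
  conj := fun P _ s _ => (mp_conj F' le_top (Subgroup.mem_top (θ s))).congr fun y _ => by
    rw [map_mul, map_mul, map_inv, MulAut.apply_inv_self]

theorem tw_of_le (θ : MulAut A) (h1 : ∀ P f, Mp F P f → Mv F' θ P f) (h2 : ∀ P f, Mp F' P f → Mv F θ⁻¹ P f) :
    Tw F F' := by
  refine ⟨θ, fun P a b hab => ⟨fun h => ?_, fun h => (h1 P a h).congr fun y hy => ?_⟩⟩
  · have h3 := h2 _ _ h
    refine (Mp.res h3 fun x hx => ⟨θ x, ⟨x, hx, rfl⟩, MulAut.inv_apply_self _ _ _⟩).congr fun x hx => ?_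
    rw [inv_inv, hab x hx, MulAut.inv_apply_self]
  · rw [← hab _ ((mem_map_iff' θ P y).1 hy), MulAut.apply_inv_self]

/-- A map of `F'` that corresponds to `f` on generators gives `Mv`. -/
theorem mv_of_closure (θ : MulAut A) {s : Set A} {f g : A → A} (hf : Mp F (Subgroup.closure s) f)
    {Q : Subgroup A} (hg : Mp F' Q g) (hQ : ∀ x ∈ s, θ x ∈ Q) (h : ∀ x ∈ s, g (θ x) = θ (f x)) :
    Mv F' θ (Subgroup.closure s) f := by
  have h1 : ∀ x ∈ Subgroup.closure s, θ x ∈ Q ∧ g (θ x) = θ (f x) := fun x hx => by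
    induction hx using Subgroup.closure_induction with
    | mem x hx => exact ⟨hQ x hx, h x hx⟩
    | one => exact ⟨by rw [map_one]; exact Q.one_mem, by rw [map_one, hg.one, hf.one, map_one]⟩
    | mul x y hx hy h2 h3 =>
      exact ⟨by rw [map_mul]; exact Q.mul_mem h2.1 h3.1, by
        rw [map_mul, hg.mul h2.1 h3.1, h2.2, h3.2, hf.mul hx hy, map_mul]⟩
    | inv x hx h2 =>
      exact ⟨by rw [map_inv]; exact Q.inv_mem h2.1, by rw [map_inv, hg.inv h2.1, h2.2, hf.inv hx, map_inv]⟩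
  refine (hg.res ?_).congr ?_
  · rintro _ ⟨x, hx, rfl⟩
    exact (h1 x hx).1
  · rintro _ ⟨x, hx, rfl⟩
    show θ (f (θ⁻¹ (θ x))) = g (θ x)
    rw [MulAut.inv_apply_self, (h1 x hx).2]

end tw

/-- `e` enumerates the group `A` with the multiplication table `mul` on `[0, N)`. -/
structure En {A : Type u} [Group A] (mul : ℕ → ℕ → ℕ) (N : ℕ) (e : ℕ → A) : Prop where
  lt : ∀ a, a < N → ∀ b, b < N → mul a b < N
  mul : ∀ a, a < N → ∀ b, b < N → e (mul a b) = e a * e b
  surj : ∀ g, ∃ a, a < N ∧ e a = g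
  card : Nat.card A = N

namespace En

variable {A : Type u} [Group A] {mul : ℕ → ℕ → ℕ} {N : ℕ} {e e' : ℕ → A}

theorem bij (h : En mul N e) : Function.Bijective fun a : Fin N => e a :=
  (Nat.bijective_iff_surjective_and_card _).2 ⟨fun g => by
    obtain ⟨a, ha, h1⟩ := h.surj g
    exact ⟨⟨a, ha⟩, h1⟩, by rw [h.card, Nat.card_fin]⟩

theorem inj (h : En mul N e) {a b : ℕ} (ha : a < N) (hb : b < N) (hab : e a = e b) : a = b :=
  congrArg Fin.val (h.bij.1 (a₁ := ⟨a, ha⟩) (a₂ := ⟨b, hb⟩) hab)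

/-- two enumerations with the same table differ by an automorphism -/
theorem exists_aut (h : En mul N e) (h' : En mul N e') : ∃ θ : MulAut A, ∀ a, a < N → θ (e a) = e' a := by
  let E := (Equiv.ofBijective _ h.bij).symm.trans (Equiv.ofBijective _ h'.bij)
  have h1 : ∀ a, a < N → E (e a) = e' a := fun a ha =>
    congrArg (fun b : Fin N => e' b) ((Equiv.ofBijective _ h.bij).symm_apply_apply ⟨a, ha⟩)
  refine ⟨{ E with map_mul' := fun x y => ?_ }, h1⟩
  obtain ⟨a, ha, rfl⟩ := h.surj x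
  obtain ⟨b, hb, rfl⟩ := h.surj y
  show E _ = E _ * E _
  rw [← h.mul a ha b hb, h1 _ (h.lt a ha b hb), h1 a ha, h1 b hb, h'.mul a ha b hb]

end En

/-- the index of a normal form in the generators `w`; `o` is the index of `1` -/
noncomputable def imgT (mul : ℕ → ℕ → ℕ) (o : ℕ) (w : ℕ → ℕ) (n a : ℕ) : ℕ :=
  Nat.rec o (fun k r => bif tb a k then mul r (w k) else r) n

/-- the elements `w i` of the table satisfy the presentation `D` -/
noncomputable def chkT (D : PcD) (mul : ℕ → ℕ → ℕ) (o : ℕ) (w : ℕ → ℕ) : Bool :=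
  Nat.blt o D.N && Nat.beq (mul o o) o && (allB D.n fun i => Nat.blt (w i) D.N) &&
  (allB D.n fun i => Nat.beq (mul (w i) (w i)) (imgT mul o w D.n (D.rel i i))) &&
  (allB D.n fun j => allB j fun i => Nat.beq (mul (w j) (w i)) (mul (w i) (imgT mul o w D.n (D.rel j i)))) &&
  D.zl.all fun z => !Nat.beq (imgT mul o w D.n z) o

theorem gen_of_table {A : Type u} [Group A] {mul : ℕ → ℕ → ℕ} {e : ℕ → A} {D : PcD} (hD : D.Ok) (h : En mul D.N e)
    {o : ℕ} {w : ℕ → ℕ} (hc : chkT D mul o w = true) : Gen D ⊤ fun i => e (w i) := by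
  unfold chkT at hc
  simp only [Bool.and_eq_true, List.all_eq_true] at hc
  obtain ⟨⟨⟨⟨⟨h0, h00⟩, h1⟩, h2⟩, h3⟩, h4⟩ := hc
  have ho := blt_lt h0
  have he : e o = 1 := by
    have h5 := h.mul o ho o ho
    rw [beq_eq h00] at h5
    exact left_eq_mul.1 h5
  have hw : ∀ i, i < D.n → w i < D.N := fun i hi => blt_lt (allB_spec h1 hi)
  have himg : ∀ a k, k ≤ D.n → imgT mul o w k a < D.N ∧ el (fun i => e (w i)) k a = e (imgT mul o w k a) := by
    intro a k
    induction k with
    | zero => exact fun _ => ⟨ho, he.symm⟩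
    | succ k ih =>
      intro hk
      obtain ⟨h5, h6⟩ := ih (by omega)
      have h7 : imgT mul o w (k + 1) a = bif tb a k then mul (imgT mul o w k a) (w k) else imgT mul o w k a := rfl
      rw [h7, el_succ, h6]
      cases tb a k
      · exact ⟨h5, rfl⟩
      · exact ⟨h.lt _ h5 _ (hw k hk), (h.mul _ h5 _ (hw k hk)).symm⟩
  have hR : Rel D fun i => e (w i) := by
    refine ⟨fun i hi => ?_, fun i j hij hj => ?_⟩
    · rw [(himg _ _ le_rfl).2, ← h.mul _ (hw i hi) _ (hw i hi), beq_eq (allB_spec h2 hi)]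
    · rw [(himg _ _ le_rfl).2, ← h.mul _ (hw j hj) _ (hw i (hij.trans hj)),
        ← h.mul _ (hw i (hij.trans hj)) _ (himg _ _ le_rfl).1, beq_eq (allB_spec (allB_spec h3 hj) hij)]
  have hG := hR.gen hD fun z hz h5 => by
    rw [(himg _ _ le_rfl).2, ← he] at h5
    exact nbeq_ne (h4 z hz) (h.inj (himg _ _ le_rfl).1 ho h5)
  have h5 : hR.sub hD = ⊤ := by
    have : Finite A := Nat.finite_of_card_ne_zero (by rw [h.card]; exact D.N_pos.ne')
    refine Subgroup.eq_top_of_card_eq _ ?_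
    rw [hG.card, h.card]
    rfl
  rw [← h5]
  exact hG

/-- `F` contains a map given on generators by the pairs `L` of indices. -/
def HasL {A : Type u} [Group A] (F : FusionSystem (⊤ : Subgroup A)) (e : ℕ → A) (L : List (ℕ × ℕ)) : Prop :=
  ∃ f, Mp F (Subgroup.closure {x | ∃ p ∈ L, x = e p.1}) f ∧ ∀ p ∈ L, f (e p.1) = e p.2

/-- `F` is of the type `X` for the enumeration `e`: it contains the maps `X` and is generated by them. -/
structure TyL {A : Type u} [Group A] (F : FusionSystem (⊤ : Subgroup A)) (e : ℕ → A) (X : List (List (ℕ × ℕ))) :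
    Prop where
  has : ∀ L ∈ X, HasL F e L
  gen : ∀ M, Closed F M → (∀ L ∈ X, ∀ f, Mp F (Subgroup.closure {x | ∃ p ∈ L, x = e p.1}) f →
    (∀ p ∈ L, f (e p.1) = e p.2) → M (Subgroup.closure {x | ∃ p ∈ L, x = e p.1}) f) → ∀ P f, Mp F P f → M P f

theorem TyL.le {A : Type u} [Group A] {F F' : FusionSystem (⊤ : Subgroup A)} {e e' : ℕ → A} {N : ℕ}
    {X : List (List (ℕ × ℕ))} (hX : ∀ L ∈ X, ∀ p ∈ L, p.1 < N ∧ p.2 < N) (h : TyL F e X) (h' : TyL F' e' X)
    {θ : MulAut A} (hθ : ∀ a, a < N → θ (e a) = e' a) : ∀ P f, Mp F P f → Mv F' θ P f := by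
  refine h.gen _ (closed_tw F F' θ) fun L hL f hf h1 => ?_
  obtain ⟨g, hg, h2⟩ := h'.has L hL
  refine mv_of_closure θ hf hg ?_ ?_
  · rintro _ ⟨p, hp, rfl⟩
    exact Subgroup.subset_closure ⟨p, hp, hθ _ (hX L hL p hp).1⟩
  · rintro _ ⟨p, hp, rfl⟩
    rw [hθ _ (hX L hL p hp).1, h2 p hp, h1 p hp, hθ _ (hX L hL p hp).2]

theorem TyL.tw {A : Type u} [Group A] {F F' : FusionSystem (⊤ : Subgroup A)} {e e' : ℕ → A} {mul : ℕ → ℕ → ℕ} {N : ℕ}
    {X : List (List (ℕ × ℕ))} (hX : ∀ L ∈ X, ∀ p ∈ L, p.1 < N ∧ p.2 < N) (he : En mul N e) (he' : En mul N e')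
    (h : TyL F e X) (h' : TyL F' e' X) : Tw F F' := by
  obtain ⟨θ, hθ⟩ := he.exists_aut he'
  exact tw_of_le θ (h.le hX h' hθ) (h'.le hX h fun a ha => by rw [← hθ a ha, MulAut.inv_apply_self])

end Cfsg.Agent.FS.Asm
end
end

-- part: FS/Th/Thompson
section
prune_inst 0x102404402200000018000000001c0282000000000f0000004000000488080120000e21802002020130086400300060030000094010000000000200411c0080000200029008a100000000008800000000000000000000000000000000000000000000000
set_option linter.all false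
open scoped Cfsg.Agent.FastGrp

-- part: FS/Th/Transfer
section
/-!
# Extremal Thompson transfer for saturated 2-fusion systems (helper80, project FS, item T1)

`tr_extremal`: `θ : S →* A` (abelian), `g ∈ S` such that `θ` kills all `F`-conjugates of the even powers of `g`, and
`θ (φ g) = a` for all maps `φ` of `F` defined on `N_S(⟨g⟩)`.  Then the transfer of `θ` takes the value `a` at `g`.
Consequences for `g ∈ foc(F)`.
-/

set_option autoImplicit false

namespace Cfsg.Agent.FS.Th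

open Cfsg Cfsg.FusionSystem Cfsg.Agent.H802 Cfsg.Agent.H767.GSet Cfsg.Agent.H767.Biset
  Cfsg.Agent.H767.Transfer Cfsg.Agent.H767.FusTransfer MulAction

universe u v

/-- A semi-invariant function on an invariant set of points. -/
theorem exists_section_on {H : Type*} [Group H] {A : Type*} [CommGroup A] {X : Type*} [MulAction H X]
    (χ : H →* A) (p : X → Prop) (hχ : ∀ (h : H) (x : X), p x → h • x = x → χ h = 1)
    (hp : ∀ (h : H) (x : X), p x → p (h • x)) :
    ∃ f : X → A, ∀ (h : H) (x : X), p x → f (h • x) = χ h * f x := by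
  classical
  have hex : ∀ x : X, ∃ k : H, k • ((Quotient.mk (orbitRel H X) x).out) = x := by
    intro x
    have h1 : (orbitRel H X).r ((Quotient.mk (orbitRel H X) x).out) x := Quotient.mk_out (s := orbitRel H X) x
    have h2 := (orbitRel H X).symm h1
    exact h2
  choose k hk using hex
  refine ⟨fun x => χ (k x), fun h x hx => ?_⟩
  have hq : (Quotient.mk (orbitRel H X) (h • x)) = (Quotient.mk (orbitRel H X) x) :=
    Quotient.sound (s := orbitRel H X) ⟨h, rfl⟩
  have h1 := hk (h • x)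
  rw [hq] at h1
  have h2 := hk x
  have h3 : ((k (h • x))⁻¹ * (h * k x)) • ((Quotient.mk (orbitRel H X) x).out) =
      ((Quotient.mk (orbitRel H X) x).out) := by
    rw [mul_smul, mul_smul, h2, inv_smul_eq_iff]
    exact h1.symm
  have h5 : p ((Quotient.mk (orbitRel H X) x).out) := by
    have h6 := hp (k x)⁻¹ x hx
    have h7 : (k x)⁻¹ • x = (Quotient.mk (orbitRel H X) x).out := by
      rw [inv_smul_eq_iff]; exact h2.symm
    rwa [h7] at h6
  have h4 := hχ _ _ h5 h3
  rw [map_mul, map_inv, map_mul, inv_mul_eq_one] at h4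
  exact h4

variable {Ω : Type u} [Group Ω] {S : Subgroup Ω}

section cf

variable {G R A X : Type*} [Group G] [Group R] [CommGroup A] [MulAction (G × R) X]
  {θ : R →* A} {f : X → A}

theorem cf_one (hf : IsSec (G := G) θ f) (q : Quo G R X) : cf hf 1 q = 1 := by
  obtain ⟨x, rfl⟩ := qmk_surjective q
  rw [cf_qmk]
  have : ((1, 1) : G × R) • x = x := one_smul (G × R) x
  rw [this, mul_inv_cancel]

theorem cf_pow (hf : IsSec (G := G) θ f) (g : G) (q : Quo G R X) (hq : g • q = q) (n : ℕ) :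
    cf hf (g ^ n) q = cf hf g q ^ n := by
  induction n with
  | zero => rw [pow_zero, pow_zero, cf_one]
  | succ n ih => rw [pow_succ, cf_mul, hq, ih, pow_succ]

theorem cf_conj (hf : IsSec (G := G) θ f) (g w : G) (q : Quo G R X) (hq : (w⁻¹ * g * w) • q = q) :
    cf hf g (w • q) = cf hf (w⁻¹ * g * w) q := by
  have h1 := cf_mul hf g w q
  have h2 := cf_mul hf w (w⁻¹ * g * w) q
  have h3 : w * (w⁻¹ * g * w) = g * w := by group
  rw [h3, hq, h1, mul_comm] at h2
  exact mul_left_cancel h2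

end cf

/-- The value of the cocycle at a fixed point. -/
theorem cf_fixed {F : FusionSystem S} {X : Type*} [MulAction (S × S) X] {A : Type*} [CommGroup A]
    {θ : S →* A} {f : X → A} (hf : IsSec (G := S) θ f) (x : X) {P : Subgroup Ω} {φ : P →* Ω}
    (hφ : φ ∈ F.Hom P) (he : stabilizer (S × S) x = tdiag S P φ) (g : S)
    (hg : g • (qmk x : Quo S S X) = qmk x) :
    ∃ hgP : (g : Ω) ∈ P, cf hf g (qmk x) = θ ⟨φ ⟨g, hgP⟩, hom_apply_mem hφ _⟩ := by
  rw [smul_qmk, eq_comm, qmk_eq_iff] at hg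
  obtain ⟨r, hr⟩ := hg
  have hst : ((g, r⁻¹) : S × S) ∈ tdiag S P φ := by
    rw [← he, mem_stabilizer_iff]
    have h2 : ((g, r⁻¹) : S × S) = ((1, r⁻¹) : S × S) * ((g, 1) : S × S) := by
      rw [Prod.mk_mul_mk, one_mul, mul_one]
    rw [h2, mul_smul, ← hr, smul_smul, Prod.mk_mul_mk, one_mul, inv_mul_cancel]
    exact one_smul (S × S) x
  obtain ⟨hgP, hgr⟩ := hst
  refine ⟨hgP, ?_⟩
  have h2 : (⟨φ ⟨g, hgP⟩, hom_apply_mem hφ _⟩ : S) = r⁻¹ := Subtype.ext hgr
  rw [h2, map_inv, cf_qmk, ← hr, hf, mul_inv_cancel_right]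

/-- **The extremal transfer computation.** -/
theorem tr_extremal [Finite S] (hS : IsPGroup 2 S) {F : FusionSystem S} {X : Type*} [MulAction (S × S) X]
    [Finite X] (hX : Gen F X) {A : Type*} [CommGroup A] {θ : S →* A} {f : X → A} (hf : IsSec (G := S) θ f)
    {m : ℕ} (hm : Nat.card X = Nat.card S * m) (hodd : ¬ 2 ∣ m) (g : S) (a : A)
    (h1 : ∀ (k : ℕ) (P : Subgroup Ω) (φ : P →* Ω) (hφ : φ ∈ F.Hom P) (hy : ((g ^ (2 * k) : S) : Ω) ∈ P),
      θ ⟨φ ⟨_, hy⟩, hom_apply_mem hφ _⟩ = 1)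
    (h2 : ∀ (P : Subgroup Ω) (φ : P →* Ω) (hφ : φ ∈ F.Hom P) (hgP : (g : Ω) ∈ P),
      (∀ w : S, w ∈ Subgroup.normalizer (Subgroup.zpowers g : Set S) → (w : Ω) ∈ P) →
      θ ⟨φ ⟨g, hgP⟩, hom_apply_mem hφ _⟩ = a) : tr hf g = a := by
  classical
  -- powers of `g`
  have hzp : ∀ y ∈ Subgroup.zpowers g, ∃ n : ℕ, y = g ^ n := by
    intro y hy
    rw [← mem_powers_iff_mem_zpowers] at hy
    obtain ⟨n, hn⟩ := hy
    exact ⟨n, hn.symm⟩
  have hfixpow : ∀ (q : Quo S S X), g • q = q → ∀ n : ℕ, (g ^ n) • q = q := by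
    intro q hq n
    induction n with
    | zero => rw [pow_zero, one_smul]
    | succ n ih => rw [pow_succ, mul_smul, hq, ih]
  -- a better section on the points not fixed by `g`
  set H : Subgroup (S × S) := (Subgroup.zpowers g).comap (MonoidHom.fst S S) with hH
  let χ : H →* A := ((θ.comp (MonoidHom.snd S S))⁻¹).comp H.subtype
  have hχv : ∀ (z : S × S) (hz : z ∈ H), χ ⟨z, hz⟩ = (θ z.2)⁻¹ := fun z hz => rfl
  let p : X → Prop := fun x => g • (qmk x : Quo S S X) ≠ qmk x
  have hqs : ∀ (z : S × S) (x : X), (qmk (z • x) : Quo S S X) = z.1 • qmk x := by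
    rintro ⟨z1, z2⟩ x
    rw [smul_qmk, eq_comm, qmk_eq_iff]
    refine ⟨z2, ?_⟩
    rw [smul_smul, Prod.mk_mul_mk, one_mul, mul_one]
  obtain ⟨f', hf'⟩ := exists_section_on (X := X) χ p (by
    rintro ⟨z, hz⟩ x hx hzx
    have hzx' : z • x = x := hzx
    obtain ⟨P, φ, hφ, he⟩ := hX x
    have h3 : z ∈ tdiag S P φ := by rw [← he]; exact hzx'
    obtain ⟨h4, h5⟩ := h3
    obtain ⟨n, hn⟩ := hzp z.1 hz
    have hfix : z.1 • (qmk x : Quo S S X) = qmk x := by rw [← hqs, hzx']
    rcases Nat.even_or_odd' n with ⟨k, hk | hk⟩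
    · rw [hχv, inv_eq_one]
      have h6 : ((g ^ (2 * k) : S) : Ω) ∈ P := by rw [← hk, ← hn]; exact h4
      have h7 := h1 k P φ hφ h6
      have h8 : (⟨φ ⟨_, h6⟩, hom_apply_mem hφ _⟩ : S) = z.2 := by
        apply Subtype.ext
        show φ ⟨_, h6⟩ = _
        rw [← h5]
        congr 2
        rw [← hk, ← hn]
      rwa [h8] at h7
    · exfalso
      apply hx
      -- an odd power of `g` generates `⟨g⟩`
      obtain ⟨e, he2⟩ := hS g
      have hcop : Nat.Coprime n (orderOf g) := by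
        refine Nat.Coprime.coprime_dvd_right (orderOf_dvd_of_pow_eq_one he2) ?_
        refine Nat.Coprime.pow_right e ?_
        rw [hk]
        exact Nat.coprime_two_right.2 (odd_two_mul_add_one k)
      obtain ⟨l, hl⟩ := exists_pow_eq_self_of_coprime hcop
      rw [← hl, ← hn]
      clear hl
      induction l with
      | zero => rw [pow_zero, one_smul]
      | succ l ih => rw [pow_succ, mul_smul, hfix, ih]) (by
    rintro ⟨z, hz⟩ x hx hzx
    apply hx
    have h3 : (qmk (z • x) : Quo S S X) = z.1 • qmk x := hqs z x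
    have hzx' : g • (qmk (z • x) : Quo S S X) = qmk (z • x) := hzx
    rw [h3, smul_smul] at hzx'
    obtain ⟨n, hn⟩ := hzp z.1 hz
    have h4 : g * z.1 = z.1 * g := by rw [hn]; group
    rw [h4, mul_smul] at hzx'
    exact smul_left_cancel z.1 hzx')
  let f2 : X → A := fun x => if p x then f' x else f x
  have hpr : ∀ (r : S) (x : X), p (((1, r) : S × S) • x) ↔ p x := by
    intro r x
    show g • (qmk _ : Quo S S X) ≠ qmk _ ↔ _
    rw [hqs, one_smul]
  have hf2 : IsSec (G := S) θ f2 := by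
    intro r x
    by_cases hx : p x
    · have h3 : ((1, r) : S × S) ∈ H := (Subgroup.zpowers g).one_mem
      have h4 := hf' ⟨_, h3⟩ x hx
      show (if p _ then f' _ else f _) = _ * (if p x then f' x else f x)
      rw [if_pos ((hpr r x).2 hx), if_pos hx]
      exact h4
    · show (if p _ then f' _ else f _) = _ * (if p x then f' x else f x)
      rw [if_neg (fun h => hx ((hpr r x).1 h)), if_neg hx]
      exact hf r x
  rw [tr_eq hf hf2 g]
  set c : Quo S S X → A := cf hf2 g with hc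
  have hc1 : ∀ q : Quo S S X, g • q ≠ q → c q = 1 := by
    intro q hq
    obtain ⟨x, rfl⟩ := qmk_surjective q
    have hx : p x := hq
    have h3 : ((g, 1) : S × S) ∈ H := Subgroup.mem_zpowers g
    have h4 := hf' ⟨_, h3⟩ x hx
    have h5 : p (((g, 1) : S × S) • x) := by
      show g • (qmk _ : Quo S S X) ≠ qmk _
      rw [hqs]
      intro h
      exact hq (smul_left_cancel g h)
    rw [hc, cf_qmk]
    show (if p _ then f' _ else f _) * (if p x then f' x else f x)⁻¹ = 1
    rw [if_pos h5, if_pos hx]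
    have h6 : f' (((g, 1) : S × S) • x) = (θ 1)⁻¹ * f' x := h4
    rw [h6, map_one, inv_one, one_mul, mul_inv_cancel]
  have hc2 : ∀ q : Quo S S X, g • q = q → c q ^ 2 = 1 := by
    intro q hq
    rw [hc, ← cf_pow hf2 g q hq 2]
    obtain ⟨x, rfl⟩ := qmk_surjective q
    obtain ⟨P, φ, hφ, he⟩ := hX x
    obtain ⟨hgP, h3⟩ := cf_fixed hf2 x hφ he (g ^ 2) (hfixpow _ hq 2)
    rw [h3]
    have h4 := h1 1 P φ hφ hgP
    exact h4
  set W : Subgroup S := Subgroup.normalizer (Subgroup.zpowers g : Set S) with hW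
  have hgW : g ∈ W := Subgroup.le_normalizer (Subgroup.mem_zpowers g)
  have hinv : ∀ (w : W) (q : Quo S S X), g • q = q → g • ((w : S) • q) = (w : S) • q ∧ c ((w : S) • q) = c q := by
    intro w q hq
    have h3 : (w : S)⁻¹ * g * w ∈ Subgroup.zpowers g := by
      have := (Subgroup.mem_normalizer_iff.1 (W.inv_mem w.2) g).1 (Subgroup.mem_zpowers g)
      rwa [inv_inv] at this
    have h4 : (w : S) * g * (w : S)⁻¹ ∈ Subgroup.zpowers g :=
      (Subgroup.mem_normalizer_iff.1 w.2 g).1 (Subgroup.mem_zpowers g)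
    obtain ⟨k, hk⟩ := hzp _ h3
    obtain ⟨k', hk'⟩ := hzp _ h4
    have h5 : ((w : S)⁻¹ * g * w) • q = q := by rw [hk]; exact hfixpow q hq k
    have h6 : g = g ^ (k * k') := by
      have h7 : ((w : S)⁻¹ * g * w) ^ k' = (w : S)⁻¹ * g ^ k' * w := by
        have := conj_pow (a := (w : S)⁻¹) (b := g) (i := k')
        rwa [inv_inv] at this
      rw [pow_mul, ← hk, h7, ← hk']
      group
    refine ⟨?_, ?_⟩
    · have h7 : g * (w : S) = w * ((w : S)⁻¹ * g * w) := by group
      rw [smul_smul, h7, mul_smul, h5]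
    · rw [hc, cf_conj hf2 g w q h5, hk, cf_pow hf2 g q hq k]
      have h8 := hc2 q hq
      rw [hc] at h8
      rcases Nat.even_or_odd' k with ⟨l, hl | hl⟩
      · have h9 : cf hf2 g q = cf hf2 g q ^ (k * k') := by rw [← cf_pow hf2 g q hq, ← h6]
        have h10 : cf hf2 g q ^ k = 1 := by rw [hl, pow_mul, h8, one_pow]
        rw [h10, h9, pow_mul, h10, one_pow]
      · rw [hl, pow_succ, pow_mul, h8, one_pow, one_mul]
  have hfix : ∀ q : Quo S S X, (∀ w : W, (w : S) • q = q) → g • q = q ∧ c q = a := by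
    intro q hq
    refine ⟨hq ⟨g, hgW⟩, ?_⟩
    obtain ⟨x, rfl⟩ := qmk_surjective q
    obtain ⟨P, φ, hφ, he⟩ := hX x
    obtain ⟨hgP, h3⟩ := cf_fixed hf2 x hφ he g (hq ⟨g, hgW⟩)
    rw [hc, h3]
    refine h2 P φ hφ hgP fun w hw => ?_
    exact (cf_fixed hf2 x hφ he w (hq ⟨w, hw⟩)).1
  have hWp : IsPGroup 2 W := hS.to_subgroup W
  have hQm : Nat.card (Quo S S X) = m := by
    have h3 := card_quo (G := S) (R := S) (X := X) (fun r x h => gen_free hX r x h)
    rw [hm] at h3
    exact (Nat.eq_of_mul_eq_mul_left Nat.card_pos h3).symm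
  have hQ1 := hWp.card_modEq_card_fixedPoints (Quo S S X)
  -- the level sets
  have hlev : ∀ v : A, v ^ Nat.card {q : Quo S S X // g • q = q ∧ c q = v} = if v = a then a else 1 := by
    intro v
    let B : Set (Quo S S X) := {q | g • q = q ∧ c q = v}
    let _ : MulAction W B :=
      { smul := fun w q => ⟨(w : S) • q.1, (hinv w q.1 q.2.1).1, by rw [(hinv w q.1 q.2.1).2]; exact q.2.2⟩
        one_smul := fun q => Subtype.ext (one_smul S q.1)
        mul_smul := fun w w' q => Subtype.ext (mul_smul (w : S) (w' : S) q.1) }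
    have hB1 := hWp.card_modEq_card_fixedPoints B
    show v ^ Nat.card B = _
    by_cases hv : v = a
    · subst hv
      rw [if_pos rfl]
      have heq : Nat.card (fixedPoints W B) = Nat.card (fixedPoints W (Quo S S X)) := by
        refine Nat.card_congr ⟨fun q => ⟨q.1.1, fun w => congrArg Subtype.val (q.2 w)⟩,
          fun q => ⟨⟨q.1, hfix q.1 (fun w => q.2 w)⟩, fun w => Subtype.ext (q.2 w)⟩, fun q => rfl, fun q => rfl⟩
      have h3 : Nat.card B % 2 = m % 2 := by
        have h2 := hB1.trans (heq ▸ hQ1.symm)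
        rw [hQm] at h2
        exact h2
      have h4 : Nat.card B = 2 * (Nat.card B / 2) + 1 := by omega
      have hne : Nonempty B := by
        by_contra h
        rw [not_nonempty_iff] at h
        rw [Nat.card_of_isEmpty] at h4
        omega
      obtain ⟨q, hq1, hq2⟩ := hne
      have h5 := hc2 q hq1
      rw [hq2] at h5
      rw [h4, pow_succ, pow_mul, h5, one_pow, one_mul]
    · rw [if_neg hv]
      have hemp : IsEmpty (fixedPoints W B) := ⟨fun q => hv (by
        have h3 := hfix q.1.1 (fun w => congrArg Subtype.val (q.2 w))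
        rw [← q.1.2.2, h3.2])⟩
      rw [Nat.card_of_isEmpty (α := fixedPoints W B)] at hB1
      have h3 : Nat.card B % 2 = 0 := hB1
      by_cases hne : Nonempty B
      · obtain ⟨q, hq1, hq2⟩ := hne
        have h5 := hc2 q hq1
        rw [hq2] at h5
        have h4 : Nat.card B = 2 * (Nat.card B / 2) := by omega
        rw [h4, pow_mul, h5, one_pow]
      · rw [not_nonempty_iff] at hne
        rw [Nat.card_of_isEmpty, pow_zero]
  have : Fintype (Quo S S X) := Fintype.ofFinite _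
  rw [tr_apply, finprod_eq_prod_of_fintype,
    ← Finset.prod_filter_mul_prod_filter_not Finset.univ (fun q => g • q = q)]
  have hP2 : ∏ q ∈ Finset.univ.filter (fun q : Quo S S X => ¬ g • q = q), cf hf2 g q = 1 :=
    Finset.prod_eq_one fun q hq => hc1 q (Finset.mem_filter.1 hq).2
  rw [hP2, mul_one]
  set s : Finset (Quo S S X) := Finset.univ.filter (fun q => g • q = q) with hs
  have h3 : ∏ q ∈ s, c q = ∏ v ∈ insert a (s.image c), v ^ (s.filter (fun q => c q = v)).card := by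
    rw [← Finset.prod_fiberwise_of_maps_to (s := s) (t := insert a (s.image c)) (g := c)
      (fun q hq => Finset.mem_insert_of_mem (Finset.mem_image_of_mem c hq))]
    refine Finset.prod_congr rfl fun v _ => ?_
    rw [Finset.prod_congr rfl (fun q hq => (Finset.mem_filter.1 hq).2), Finset.prod_const]
  have h4 : ∀ v : A, (s.filter (fun q => c q = v)).card = Nat.card {q : Quo S S X // g • q = q ∧ c q = v} := by
    intro v
    rw [Nat.card_eq_fintype_card, Fintype.card_subtype, hs, Finset.filter_filter]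
  show ∏ q ∈ s, c q = a
  rw [h3, Finset.prod_congr rfl (fun v _ => by rw [h4 v, hlev v]), Finset.prod_ite_eq' (insert a (s.image c)) a,
    if_pos (Finset.mem_insert_self _ _)]

/-- **Extremal transfer, coset form.**  `θ : S →* A`, `g ∈ foc(F)`, `θ` kills all `F`-conjugates of the even powers
of `g`, and `θ (φ g) = a` for all maps `φ` of `F` defined on `N_S(⟨g⟩)`.  Then `a = 1`. -/
theorem extremal_value [Finite S] (hS : IsPGroup 2 S) {F : FusionSystem S} (hF : F.IsSaturated 2)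
    {A : Type*} [CommGroup A] (θ : S →* A) (g : S) (hg : (g : Ω) ∈ F.focalSubgroup) (a : A)
    (h1 : ∀ (k : ℕ) (P : Subgroup Ω) (φ : P →* Ω) (hφ : φ ∈ F.Hom P) (hy : ((g ^ (2 * k) : S) : Ω) ∈ P),
      θ ⟨φ ⟨_, hy⟩, hom_apply_mem hφ _⟩ = 1)
    (h2 : ∀ (P : Subgroup Ω) (φ : P →* Ω) (hφ : φ ∈ F.Hom P) (hgP : (g : Ω) ∈ P),
      (∀ w : S, w ∈ Subgroup.normalizer (Subgroup.zpowers g : Set S) → (w : Ω) ∈ P) →
      θ ⟨φ ⟨g, hgP⟩, hom_apply_mem hφ _⟩ = a) : a = 1 := by
  have : Fact (Nat.Prime 2) := ⟨Nat.prime_two⟩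
  obtain ⟨X, _, _, m, hX, hs, hm, hpm⟩ := exists_char_biset hS hF
  obtain ⟨f, hf⟩ := exists_isSec (G := S) (X := X) θ (fun r x h => gen_free hX r x h)
  have h3 := tr_extremal hS hX hf hm hpm g a h1 h2
  obtain ⟨g', hg', hgg⟩ := focal_le (tr hf) (fun P φ hφ x => tr_stable hX hs hf hφ x) hg
  have h4 : g' = g := Subtype.ext hgg
  rw [← h3, ← h4]
  exact hg'

end Cfsg.Agent.FS.Th
end

-- part: FS/Th/Thompson
section
/-!
# Extremal Thompson transfer, function form (helper80, project FS, item T1)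

Maps of `F` are written as functions (`H752.Mp F P f`).  `M` is a subgroup of the ambient group containing all
commutators of elements of `S`.

* `extremal_coset`: if all maps of `F` on `N_S(⟨g⟩)` send `g` into one coset `a M`, then `a ∈ M`.
* `extremal_cyclic`: if `S / (S ∩ M)` has at most one involution, some map on `N_S(⟨g⟩)` sends `g` to an element of
  `M` generating a fully normalized subgroup.
* `thompson_involution`: the case of an involution.
* `central_mem`: central involutions.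
-/

set_option autoImplicit false

namespace Cfsg.Agent.FS.Th

open Cfsg Cfsg.FusionSystem Cfsg.Agent.H802 Cfsg.Agent.H752

universe u v

variable {Ω : Type u} [Group Ω] {S : Subgroup Ω}

theorem mem_normalizerIn_zpowers {g : Ω} (hg : g ∈ S) : g ∈ normalizerIn S (Subgroup.zpowers g) :=
  ⟨hg, Subgroup.le_normalizer (Subgroup.mem_zpowers g)⟩

theorem normalizerIn_zpowers_le {g : Ω} (hgS : g ∈ S) {P : Subgroup Ω}
    (hw : ∀ w : S, w ∈ Subgroup.normalizer (Subgroup.zpowers (⟨g, hgS⟩ : S) : Set S) → (w : Ω) ∈ P) :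
    normalizerIn S (Subgroup.zpowers g) ≤ P := by
  intro w hw'
  refine hw ⟨w, hw'.1⟩ ?_
  rw [Subgroup.mem_normalizer_iff]
  intro y
  have h2 := Subgroup.mem_normalizer_iff.1 hw'.2 (y : Ω)
  have h3 : ∀ y : S, y ∈ Subgroup.zpowers (⟨g, hgS⟩ : S) ↔ (y : Ω) ∈ Subgroup.zpowers g := by
    intro y
    constructor
    · rintro ⟨k, rfl⟩
      exact ⟨k, by simp⟩
    · rintro ⟨k, hk⟩
      exact ⟨k, Subtype.ext (by simpa using hk)⟩
  exact (h3 y).trans (h2.trans (h3 (⟨w, hw'.1⟩ * y * (⟨w, hw'.1⟩ : S)⁻¹)).symm)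

/-- **Extremal transfer, coset form.** -/
theorem extremal_coset [Finite S] (hS : IsPGroup 2 S) {F : FusionSystem S} (hF : F.IsSaturated 2)
    (M : Subgroup Ω) (hM : ∀ x ∈ S, ∀ y ∈ S, x * y * x⁻¹ * y⁻¹ ∈ M) {g : Ω} (hgS : g ∈ S)
    (hg : g ∈ F.focalSubgroup) {a : Ω} (ha : a ∈ S)
    (h1 : ∀ (k : ℕ) (P : Subgroup Ω) (f : Ω → Ω), Mp F P f → g ^ (2 * k) ∈ P → f (g ^ (2 * k)) ∈ M)
    (h2 : ∀ f : Ω → Ω, Mp F (normalizerIn S (Subgroup.zpowers g)) f → a⁻¹ * f g ∈ M) : a ∈ M := by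
  have hN : (M.subgroupOf S).Normal := ⟨fun n hn x => by
    have h3 := M.mul_mem (hM x x.2 n n.2) hn
    rw [Subgroup.mem_subgroupOf]
    have h4 : ((x * n * x⁻¹ : S) : Ω) = x * n * x⁻¹ * (n : Ω)⁻¹ * n := by
      simp only [Subgroup.coe_mul, Subgroup.coe_inv]
      group
    rw [h4]
    exact h3⟩
  let _ : CommGroup (S ⧸ M.subgroupOf S) :=
    { (inferInstance : Group (S ⧸ M.subgroupOf S)) with
      mul_comm := by
        intro x y
        obtain ⟨x, rfl⟩ := QuotientGroup.mk_surjective x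
        obtain ⟨y, rfl⟩ := QuotientGroup.mk_surjective y
        rw [← QuotientGroup.mk_mul, ← QuotientGroup.mk_mul, QuotientGroup.eq, Subgroup.mem_subgroupOf]
        have h3 := hM (y : Ω)⁻¹ (S.inv_mem y.2) (x : Ω)⁻¹ (S.inv_mem x.2)
        have h4 : (((x * y)⁻¹ * (y * x) : S) : Ω) = (y : Ω)⁻¹ * (x : Ω)⁻¹ * (y : Ω)⁻¹⁻¹ * (x : Ω)⁻¹⁻¹ := by
          simp only [Subgroup.coe_mul, Subgroup.coe_inv]
          group
        rw [h4]
        exact h3 }
  have key := extremal_value hS hF (QuotientGroup.mk' (M.subgroupOf S)) ⟨g, hgS⟩ hg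
    (QuotientGroup.mk' (M.subgroupOf S) ⟨a, ha⟩) (by
      intro k P φ hφ hy
      rw [QuotientGroup.mk'_apply, QuotientGroup.eq_one_iff, Subgroup.mem_subgroupOf]
      have hy' : g ^ (2 * k) ∈ P := hy
      have h3 := h1 k P (ex φ) (mp_ex hφ) hy'
      rw [ex_apply _ hy'] at h3
      exact h3) (by
      intro P φ hφ hgP hw
      have hle := normalizerIn_zpowers_le hgS hw
      have h3 := h2 (ex φ) ((mp_ex hφ).res hle)
      have hgP' : g ∈ P := hgP
      rw [ex_apply _ hgP'] at h3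
      rw [QuotientGroup.mk'_apply, QuotientGroup.mk'_apply, eq_comm, QuotientGroup.eq, Subgroup.mem_subgroupOf]
      exact h3)
  rw [QuotientGroup.mk'_apply, QuotientGroup.eq_one_iff, Subgroup.mem_subgroupOf] at key
  exact key

/-- The image of a cyclic group. -/
theorem mem_zpowers_image {F : FusionSystem S} {P : Subgroup Ω} {f : Ω → Ω} (hf : Mp F P f) {g : Ω} (hg : g ∈ P)
    (y : Ω) : y ∈ Subgroup.zpowers (f g) ↔ ∃ x ∈ Subgroup.zpowers g, f x = y := by
  obtain ⟨φ, hφ, h1⟩ := hf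
  have h2 : ∀ k : ℤ, f (g ^ k) = f g ^ k := by
    intro k
    rw [← h1 _ (P.zpow_mem hg k), ← h1 g hg, ← map_zpow]
    rfl
  constructor
  · rintro ⟨k, rfl⟩
    exact ⟨g ^ k, ⟨k, rfl⟩, h2 k⟩
  · rintro ⟨_, ⟨k, rfl⟩, rfl⟩
    exact ⟨k, (h2 k).symm⟩

/-- A map defined on the normalizer of `P` carries it into the normalizer of the image of `P`. -/
theorem mp_mem_normalizerIn {F : FusionSystem S} {P Q N : Subgroup Ω} {f : Ω → Ω} (hf : Mp F N f) (hPN : P ≤ N)
    (hN : N ≤ Subgroup.normalizer (P : Set Ω)) (hQ : ∀ y, y ∈ Q ↔ ∃ x ∈ P, f x = y) {w : Ω} (hw : w ∈ N) :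
    f w ∈ normalizerIn S Q := by
  refine ⟨hf.mem hw, ?_⟩
  have h1 : ∀ w ∈ N, ∀ y ∈ Q, f w * y * (f w)⁻¹ ∈ Q := by
    intro w hw y hy
    obtain ⟨x, hx, rfl⟩ := (hQ y).1 hy
    rw [← hf.inv hw, ← hf.mul hw (hPN hx), ← hf.mul (N.mul_mem hw (hPN hx)) (N.inv_mem hw)]
    exact (hQ _).2 ⟨_, (Subgroup.mem_normalizer_iff.1 (hN hw) x).1 hx, rfl⟩
  refine Subgroup.mem_normalizer_iff.2 fun y => ⟨h1 w hw y, fun h => ?_⟩
  have h2 := h1 w⁻¹ (N.inv_mem hw) _ h
  rw [hf.inv hw] at h2
  have h3 : (f w)⁻¹ * (f w * y * (f w)⁻¹) * (f w)⁻¹⁻¹ = y := by group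
  rwa [h3] at h2

/-- The image of a fully normalized subgroup under a map defined on its normalizer is fully normalized. -/
theorem isFullyNormalized_image [Finite S] {F : FusionSystem S} {P Q : Subgroup Ω} {f : Ω → Ω}
    (hP : F.IsFullyNormalized P) (hf : Mp F (normalizerIn S P) f) (hQ : ∀ y, y ∈ Q ↔ ∃ x ∈ P, f x = y) :
    F.IsFullyNormalized Q := by
  have hPN : P ≤ normalizerIn S P := le_normalizerIn hP.1
  have hQS : Q ≤ S := fun y hy => by
    obtain ⟨x, hx, rfl⟩ := (hQ y).1 hy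
    exact hf.mem (hPN hx)
  have hc : F.IsConj P Q := by
    obtain ⟨φ, hφ, h1⟩ := hf.res hPN
    refine ⟨φ, hφ, ?_⟩
    ext y
    rw [hQ]
    constructor
    · rintro ⟨x, rfl⟩
      exact ⟨x, x.2, (h1 x x.2).symm⟩
    · rintro ⟨x, hx, rfl⟩
      exact ⟨⟨x, hx⟩, h1 x hx⟩
  refine ⟨hQS, fun R hR => (hP.2 R (isConj_trans hc hR)).trans ?_⟩
  have : Finite (normalizerIn S Q) := finite_of_le inf_le_left
  refine Nat.card_le_card_of_injective
    (fun x : normalizerIn S P => (⟨f x, mp_mem_normalizerIn hf hPN inf_le_right hQ x.2⟩ : normalizerIn S Q)) ?_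
  intro x y hxy
  exact Subtype.ext (hf.inj x.2 y.2 (congrArg Subtype.val hxy))

/-- Every subgroup `P ≤ S` is carried onto a fully normalized subgroup by a map defined on `N_S(P)`. -/
theorem exists_mp_fullyNormalized {p : ℕ} [Fact p.Prime] [Finite S] (hS : IsPGroup p S) {F : FusionSystem S}
    (hF : F.IsSaturated p) {P : Subgroup Ω} (hP : P ≤ S) :
    ∃ (Q : Subgroup Ω) (f : Ω → Ω), F.IsFullyNormalized Q ∧ Mp F (normalizerIn S P) f ∧
      ∀ y, y ∈ Q ↔ ∃ x ∈ P, f x = y := by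
  obtain ⟨Q, ⟨φ, hφ, hφr⟩, hQ⟩ := exists_isFullyNormalized hS hF hP
  obtain ⟨β, -, ψ, hψ, h1, -⟩ := exists_extension_normalizer hS hF hφ hφr hQ
  have hPN : P ≤ normalizerIn S P := le_normalizerIn hP
  refine ⟨Q, ex ψ, hQ, mp_ex hψ, fun y => ?_⟩
  constructor
  · intro hy
    have h2 : ((β.symm ⟨y, hy⟩ : Q) : Ω) ∈ φ.range := by rw [hφr]; exact (β.symm ⟨y, hy⟩).2
    obtain ⟨x, hx⟩ := h2
    have hx' : φ x ∈ Q := by rw [hx]; exact (β.symm ⟨y, hy⟩).2
    refine ⟨x, x.2, ?_⟩
    rw [ex_apply _ (hPN x.2), h1 x hx' (hPN x.2)]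
    have h3 : (⟨φ x, hx'⟩ : Q) = β.symm ⟨y, hy⟩ := Subtype.ext hx
    rw [h3, MulEquiv.apply_symm_apply]
  · rintro ⟨x, hx, rfl⟩
    have hx' : φ ⟨x, hx⟩ ∈ Q := by rw [← hφr]; exact ⟨_, rfl⟩
    rw [ex_apply _ (hPN hx), h1 ⟨x, hx⟩ hx' (hPN hx)]
    exact (β _).2

/-- **Extremal Thompson transfer.**  `S ≤ foc(F)`, `S / (S ∩ M)` abelian with at most one involution, all
`F`-conjugates of the even powers of `g` lie in `M`.  Then a map of `F` defined on `N_S(⟨g⟩)` sends `g` to an
element of `M` which generates a fully normalized subgroup. -/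
theorem extremal_cyclic [Finite S] (hS : IsPGroup 2 S) {F : FusionSystem S} (hF : F.IsSaturated 2)
    (hfoc : S ≤ F.focalSubgroup) (M : Subgroup Ω) (hM : ∀ x ∈ S, ∀ y ∈ S, x * y * x⁻¹ * y⁻¹ ∈ M)
    (hM2 : ∀ x ∈ S, ∀ y ∈ S, x ∉ M → y ∉ M → x ^ 2 ∈ M → y ^ 2 ∈ M → x⁻¹ * y ∈ M) {g : Ω} (hgS : g ∈ S)
    (h1 : ∀ (k : ℕ) (P : Subgroup Ω) (f : Ω → Ω), Mp F P f → g ^ (2 * k) ∈ P → f (g ^ (2 * k)) ∈ M) :
    ∃ f : Ω → Ω, Mp F (normalizerIn S (Subgroup.zpowers g)) f ∧ f g ∈ M ∧
      F.IsFullyNormalized (Subgroup.zpowers (f g)) := by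
  have : Fact (Nat.Prime 2) := ⟨Nat.prime_two⟩
  have hzS : Subgroup.zpowers g ≤ S := by rw [Subgroup.zpowers_le]; exact hgS
  have hgN := mem_normalizerIn_zpowers hgS
  have hzN : Subgroup.zpowers g ≤ normalizerIn S (Subgroup.zpowers g) := le_normalizerIn hzS
  obtain ⟨Q, f, hQ, hf, hQf⟩ := exists_mp_fullyNormalized hS hF hzS
  have hQe : Q = Subgroup.zpowers (f g) := by
    ext y
    rw [hQf, mem_zpowers_image hf hgN]
  subst hQe
  have hg0S : f g ∈ S := hf.mem hgN
  have hg0N := mem_normalizerIn_zpowers hg0S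
  -- the hypothesis on even powers for `f g`
  have h2 : ∀ (k : ℕ) (P : Subgroup Ω) (f' : Ω → Ω), Mp F P f' → f g ^ (2 * k) ∈ P → f' (f g ^ (2 * k)) ∈ M := by
    intro k P f' hf' hk
    have h3 : Subgroup.zpowers (g ^ (2 * k)) ≤ normalizerIn S (Subgroup.zpowers g) := by
      rw [Subgroup.zpowers_le]
      exact Subgroup.pow_mem _ hgN _
    have h4 := (hf.res h3).comp hf' (fun x hx => by
      have h5 : f x ∈ Subgroup.zpowers (f (g ^ (2 * k))) :=
        (mem_zpowers_image hf (Subgroup.pow_mem _ hgN _) _).2 ⟨x, hx, rfl⟩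
      rw [hf.pow hgN] at h5
      exact (Subgroup.zpowers_le.2 hk) h5)
    have h5 := h1 k _ _ h4 (Subgroup.mem_zpowers _)
    rw [hf.pow hgN] at h5
    exact h5
  have key : ∃ f' : Ω → Ω, Mp F (normalizerIn S (Subgroup.zpowers (f g))) f' ∧ f' (f g) ∈ M := by
    by_contra hcon
    push Not at hcon
    have hid := mp_id F (P := normalizerIn S (Subgroup.zpowers (f g))) inf_le_left
    have hsq : ∀ f' : Ω → Ω, Mp F (normalizerIn S (Subgroup.zpowers (f g))) f' → f' (f g) ^ 2 ∈ M := by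
      intro f' hf'
      have h3 := h2 1 _ f' hf' (Subgroup.pow_mem _ hg0N _)
      rwa [hf'.pow hg0N] at h3
    refine hcon _ hid (extremal_coset hS hF M hM hg0S (hfoc hg0S) hg0S h2 fun f' hf' => ?_)
    exact hM2 _ hg0S _ (hf'.mem hg0N) (hcon _ hid) (hcon _ hf') (hsq _ hid) (hsq _ hf')
  obtain ⟨f', hf', hM'⟩ := key
  have hmap : ∀ x ∈ normalizerIn S (Subgroup.zpowers g), f x ∈ normalizerIn S (Subgroup.zpowers (f g)) :=
    fun x hx => mp_mem_normalizerIn hf hzN inf_le_right hQf hx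
  exact ⟨fun x => f' (f x), hf.comp hf' hmap, hM',
    isFullyNormalized_image hQ hf' (mem_zpowers_image hf' hg0N)⟩

/-- For an element of order at most two, the normalizer of the generated subgroup is the centralizer. -/
theorem mem_normalizer_zpowers_iff {G : Type*} [Group G] {j : G} (hj : j ^ 2 = 1) (w : G) :
    w ∈ Subgroup.normalizer (Subgroup.zpowers j : Set G) ↔ w * j = j * w := by
  have hz : ∀ y ∈ Subgroup.zpowers j, y = 1 ∨ y = j := by
    rintro _ ⟨k, rfl⟩
    have h2 : j ^ (2 : ℤ) = 1 := by exact_mod_cast hj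
    rcases Int.even_or_odd' k with ⟨l, hl | hl⟩
    · left
      show j ^ k = 1
      rw [hl, zpow_mul, h2, one_zpow]
    · right
      show j ^ k = j
      rw [hl, zpow_add, zpow_mul, h2, one_zpow, one_mul, zpow_one]
  rw [Subgroup.mem_normalizer_iff]
  constructor
  · intro h
    rcases hz _ ((h j).1 (Subgroup.mem_zpowers j)) with h1 | h1
    · have h2 : j = 1 := by
        have h3 : j = w⁻¹ * (w * j * w⁻¹) * w := by group
        rw [h3, h1]
        group
      rw [h2, mul_one, one_mul]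
    · rw [mul_inv_eq_iff_eq_mul] at h1
      exact h1
  · intro h y
    have h1 : w * j * w⁻¹ = j := by rw [h]; group
    constructor
    · intro hy
      rcases hz y hy with rfl | rfl
      · simp
      · rw [h1]
        exact Subgroup.mem_zpowers _
    · intro hy
      rcases hz _ hy with h2 | h2
      · have h3 : y = w⁻¹ * (w * y * w⁻¹) * w := by group
        rw [h3, h2]
        simp
      · have h3 : y = j := mul_left_cancel (mul_right_cancel (h2.trans h1.symm))
        rw [h3]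
        exact Subgroup.mem_zpowers _

/-- **Thompson transfer for involutions.**  `S ≤ foc(F)`, `S / (S ∩ M)` abelian with at most one involution, `i ∈ S`
with `i² = 1`, `C = C_S(i)`.  Then a map `f` of `F` defined on `C` sends `i` into `M`, and `f i` is fully
centralized: `|C_S(j)| ≤ |C_S(f i)|` for every `F`-conjugate `j` of `i`. -/
theorem thompson_involution [Finite S] (hS : IsPGroup 2 S) {F : FusionSystem S} (hF : F.IsSaturated 2)
    (hfoc : S ≤ F.focalSubgroup) (M : Subgroup Ω) (hM : ∀ x ∈ S, ∀ y ∈ S, x * y * x⁻¹ * y⁻¹ ∈ M)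
    (hM2 : ∀ x ∈ S, ∀ y ∈ S, x ∉ M → y ∉ M → x ^ 2 ∈ M → y ^ 2 ∈ M → x⁻¹ * y ∈ M) {i : Ω} (hiS : i ∈ S)
    (hi : i ^ 2 = 1) (C : Subgroup Ω) (hC : ∀ w ∈ C, w ∈ S ∧ w * i = i * w) :
    ∃ f : Ω → Ω, Mp F C f ∧ Mp F (Subgroup.zpowers i) f ∧ f i ∈ M ∧
      F.IsFullyNormalized (Subgroup.zpowers (f i)) ∧ F.IsFullyCentralized (Subgroup.zpowers (f i)) := by
  have : Fact (Nat.Prime 2) := ⟨Nat.prime_two⟩
  obtain ⟨f, hf, h1, h2⟩ := extremal_cyclic hS hF hfoc M hM hM2 hiS (fun k P f hf _ => by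
    rw [pow_mul, hi, one_pow, hf.one]
    exact M.one_mem)
  refine ⟨f, hf.res fun w hw => ⟨(hC w hw).1, (mem_normalizer_zpowers_iff hi w).2 (hC w hw).2⟩,
    hf.res (le_normalizerIn (Subgroup.zpowers_le.2 hiS)), h1, h2,
    isFullyCentralized_of_isFullyNormalized hS hF h2⟩

/-- **Central involutions.**  `z ∈ foc(F)` central in `S` with `z² = 1`; if `Aut_F(S)` fixes the coset `z M` then
`z ∈ M`. -/
theorem central_mem [Finite S] (hS : IsPGroup 2 S) {F : FusionSystem S} (hF : F.IsSaturated 2)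
    (M : Subgroup Ω) (hM : ∀ x ∈ S, ∀ y ∈ S, x * y * x⁻¹ * y⁻¹ ∈ M) {z : Ω} (hzS : z ∈ S)
    (hz : z ∈ F.focalSubgroup) (hz2 : z ^ 2 = 1) (hzc : ∀ w ∈ S, w * z = z * w)
    (h : ∀ f : Ω → Ω, Mp F S f → z⁻¹ * f z ∈ M) : z ∈ M := by
  refine extremal_coset hS hF M hM hzS hz hzS (fun k P f hf _ => ?_) (fun f hf => h f (hf.res fun w hw => ?_))
  · rw [pow_mul, hz2, one_pow, hf.one]
    exact M.one_mem
  · exact ⟨hw, (mem_normalizer_zpowers_iff hz2 w).2 (hzc w hw)⟩

end Cfsg.Agent.FS.Th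
end
end
end
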