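import Cfsg.Agent.FS.Gen.K6_m3
import Cfsg.Agent.Prune
set_option linter.all false
prune_inst 0x7f00000000000000000000000000000000000000000000000000000000000000000000000000000000000000000000000000000000000000000000000000000000000000000000000000000000000000003fffffffffffffffffffffffffffbeffbdffffffff
open scoped Cfsg.Agent.FastGrp

set_option autoImplicit false

/-! ## A faster checker for `n = 7`: `F7.jobs_of : jobsF SS l Js = true → jobs 7 SS l Js = true`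
(port of the checker `FS/N/Sw/Fa` of helper18; the data of a base are one value, computed once; helper41) -/

namespace Cfsg.Agent.FS.Sw.F7

open Cfsg.Agent.FS.Pc
open Pre (anyM cntM colM shp shape cls same c2 s1 s2 run)
open Gen (Ic isoK look)

local notation "fB " v:max " := " x "; " b => @Nat.rec (fun _ => Bool) false (fun v _ => b) (Nat.succ x)
local notation "fN " v:max " := " x "; " b => @Nat.rec (fun _ => ℕ) 0 (fun v _ => b) (Nat.succ x)
local notation "ifB " c " then " a " else " b => @Bool.rec (fun _ => Bool) b a c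
local notation "FF" => (nat_lit 0xffffffffffffffffffffffffffffffff)

/-! ### the table -/

/-- the function `(rows, y, row of y) ↦ rows of the new table` for blocks of `2 ^ j` rows -/
noncomputable def halfK (r M s ms mr O U v C mk j : ℕ) : ((ℕ → ℕ → ℕ → ℕ) → ℕ) → ℕ :=
  @Nat.rec (fun _ => ((ℕ → ℕ → ℕ → ℕ) → ℕ) → ℕ)
    (fun k => k fun Mx y ry =>
      Nat.add (Nat.xor U Mx) (Nat.shiftLeft (Nat.xor (Nat.mul (Nat.xor (Nat.land y mr) v) O) ry) s))
    (fun i ih k => ih fun f =>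
      fN c := Nat.land mk (Nat.shiftRight C (Nat.mul 32 i)); fN o := Nat.mul 32 (Nat.shiftRight c r);
      fN si := Nat.shiftLeft s i; fN mi := msk si; fN sj := Nat.shiftLeft s (Nat.succ i);
      k fun Mx y ry => Nat.add (f (Nat.land mi Mx) y ry) (Nat.shiftLeft
        ((fun e => f (Nat.shiftRight Mx si) (Nat.xor e (Nat.xor y c))
            (Nat.land ms (Nat.shiftRight M (Nat.mul s (Nat.shiftRight e r)))))
          (Nat.land 4294967295 (Nat.shiftRight ry o))) sj)) j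

noncomputable def stepF (r mr R k M : ℕ) : ℕ :=
  fN C := Nat.shiftRight R (Nat.mul 32 (tri k 0));
  fN s := Nat.shiftLeft 32 k; fN ms := msk s; fN O := ones 32 k;
  fN hi := Nat.shiftLeft 1 (Nat.add r k); fN mk := msk (Nat.add r k); fN M' := Nat.land (msk (Nat.shiftLeft s k)) M;
  Nat.add (halfK r M s ms mr O 0 hi C mk k fun f => f M' 0 (Nat.land ms M))
    (Nat.shiftLeft (fN U := Nat.mul hi O; fN y := Nat.land mk (Nat.shiftRight C (Nat.mul 32 k));
      halfK r M s ms mr O U 0 C mk k fun f => f M' y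
        (Nat.land ms (Nat.shiftRight M (Nat.mul s (Nat.shiftRight y r))))) (Nat.shiftLeft s (Nat.succ k)))

noncomputable def tabF (r mr R n : ℕ) : ℕ :=
  @Nat.rec (fun _ => ℕ) 0 (fun k M => fN M' := M; stepF r mr R k M') n

/-! ### the transpositions, with the masks as constants -/

noncomputable def sw1 (d M X : ℕ) : ℕ :=
  (fun t => Nat.xor (Nat.xor X t) (Nat.shiftLeft t d)) (Nat.land M (Nat.xor (Nat.shiftRight X d) X))

noncomputable def mform (j l : ℕ) : ℕ :=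
  Nat.mul (Nat.mul (Nat.shiftLeft (Nat.sub (Nat.shiftLeft 1 (Nat.shiftLeft 1 j)) 1) (Nat.shiftLeft 1 j))
    (Nat.div (Nat.sub (Nat.shiftLeft 1 (Nat.shiftLeft 1 l)) 1) (Nat.sub (Nat.shiftLeft 1 (Nat.shiftLeft 2 j)) 1)))
    (Nat.div (Nat.sub (Nat.shiftLeft 1 524288) 1) (Nat.sub (Nat.shiftLeft 1 (Nat.shiftLeft 2 l)) 1))

noncomputable def K5_0 : {x : ℕ // mform 0 5 = x} := ⟨_, by conv_lhs => whnf⟩
noncomputable def K5_1 : {x : ℕ // mform 1 6 = x} := ⟨_, by conv_lhs => whnf⟩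
noncomputable def K5_2 : {x : ℕ // mform 2 7 = x} := ⟨_, by conv_lhs => whnf⟩
noncomputable def K5_3 : {x : ℕ // mform 3 8 = x} := ⟨_, by conv_lhs => whnf⟩
noncomputable def K5_4 : {x : ℕ // mform 4 9 = x} := ⟨_, by conv_lhs => whnf⟩
noncomputable def K5_5 : {x : ℕ // mform 5 10 = x} := ⟨_, by conv_lhs => whnf⟩
noncomputable def K5_6 : {x : ℕ // mform 6 11 = x} := ⟨_, by conv_lhs => whnf⟩
noncomputable def K5_7 : {x : ℕ // mform 7 12 = x} := ⟨_, by conv_lhs => whnf⟩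
noncomputable def K5_8 : {x : ℕ // mform 8 13 = x} := ⟨_, by conv_lhs => whnf⟩
noncomputable def K5_9 : {x : ℕ // mform 9 14 = x} := ⟨_, by conv_lhs => whnf⟩
noncomputable def K5_10 : {x : ℕ // mform 10 15 = x} := ⟨_, by conv_lhs => whnf⟩
noncomputable def K5_11 : {x : ℕ // mform 11 16 = x} := ⟨_, by conv_lhs => whnf⟩
noncomputable def K5_12 : {x : ℕ // mform 12 17 = x} := ⟨_, by conv_lhs => whnf⟩
noncomputable def K5_13 : {x : ℕ // mform 13 18 = x} := ⟨_, by conv_lhs => whnf⟩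

noncomputable def swK5 (X : ℕ) : ℕ :=
  sw1 253952 K5_13.1 (sw1 126976 K5_12.1 (sw1 63488 K5_11.1 (sw1 31744 K5_10.1 (sw1 15872 K5_9.1 (sw1 7936 K5_8.1 (sw1 3968 K5_7.1 (sw1 1984 K5_6.1 (sw1 992 K5_5.1 (sw1 496 K5_4.1 (sw1 248 K5_3.1 (sw1 124 K5_2.1 (sw1 62 K5_1.1 (sw1 31 K5_0.1 (X))))))))))))))

noncomputable def K7_0 : {x : ℕ // mform 0 7 = x} := ⟨_, by conv_lhs => whnf⟩
noncomputable def K7_1 : {x : ℕ // mform 1 8 = x} := ⟨_, by conv_lhs => whnf⟩
noncomputable def K7_2 : {x : ℕ // mform 2 9 = x} := ⟨_, by conv_lhs => whnf⟩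
noncomputable def K7_3 : {x : ℕ // mform 3 10 = x} := ⟨_, by conv_lhs => whnf⟩
noncomputable def K7_4 : {x : ℕ // mform 4 11 = x} := ⟨_, by conv_lhs => whnf⟩
noncomputable def K7_5 : {x : ℕ // mform 5 12 = x} := ⟨_, by conv_lhs => whnf⟩
noncomputable def K7_6 : {x : ℕ // mform 6 13 = x} := ⟨_, by conv_lhs => whnf⟩

noncomputable def swK7 (X : ℕ) : ℕ :=
  sw1 8128 K7_6.1 (sw1 4064 K7_5.1 (sw1 2032 K7_4.1 (sw1 1016 K7_3.1 (sw1 508 K7_2.1 (sw1 254 K7_1.1 (sw1 127 K7_0.1 (X)))))))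

/-! ### the planes -/

noncomputable def c4F (X h : ℕ) : ℕ := Nat.land (msk 65536) (Nat.shiftRight X (Nat.shiftLeft h 16))

noncomputable def plF (F2 X k : ℕ) : ℕ :=
  fN a := pa 7 k; fN h := Nat.shiftRight a 2;
  Nat.land F2 (Nat.shiftRight (c4F X h) (Nat.shiftLeft (Nat.land 3 a) 14))

noncomputable def dgF (O1 X : ℕ) : ℕ := Nat.mod (Nat.land O1 X) (nat_lit 0x1fffffffffffffffffffffffffffffffe)

noncomputable def sqF (Dg j : ℕ) : ℕ → ℕ :=
  @Nat.rec (fun _ => ℕ → ℕ) (fun X => X) (fun i ih X => @Bool.rec (fun _ => ℕ)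
    (fN Y := Nat.land X (Nat.land FF (Nat.shiftRight Dg (Nat.shiftLeft i 7)));
      Nat.add (fN Z := Nat.xor X Y; ih Z) (Nat.shiftLeft (ih Y) (Nat.shiftLeft 129 i))) 0 (Nat.beq X 0)) j

noncomputable def gE (F2 PM PT i : ℕ) : ℕ := Nat.xor (plF F2 PM i) (plF F2 PT i)

noncomputable def gQ (F2 O1 PM i : ℕ) : ℕ := dgF O1 (plF F2 PM i)

noncomputable def cj7 (a0 a1 a2 a3 a4 a5 a6 b0 b1 b2 b3 b4 b5 b6 v u : ℕ) : ℕ :=
  (fun x y => Nat.xor FF
    (Nat.lor (Nat.lor (Nat.lor (Nat.xor (Nat.land FF (Nat.shiftRight a0 x)) (Nat.land FF (Nat.shiftRight b0 y)))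
      (Nat.xor (Nat.land FF (Nat.shiftRight a1 x)) (Nat.land FF (Nat.shiftRight b1 y))))
      (Nat.lor (Nat.xor (Nat.land FF (Nat.shiftRight a2 x)) (Nat.land FF (Nat.shiftRight b2 y)))
      (Nat.xor (Nat.land FF (Nat.shiftRight a3 x)) (Nat.land FF (Nat.shiftRight b3 y)))))
    (Nat.lor (Nat.lor (Nat.xor (Nat.land FF (Nat.shiftRight a4 x)) (Nat.land FF (Nat.shiftRight b4 y)))
      (Nat.xor (Nat.land FF (Nat.shiftRight a5 x)) (Nat.land FF (Nat.shiftRight b5 y))))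
      (Nat.xor (Nat.land FF (Nat.shiftRight a6 x)) (Nat.land FF (Nat.shiftRight b6 y))))))
  (Nat.shiftLeft v 7) (Nat.shiftLeft u 7)

noncomputable def decF (k : ℕ) : ℕ → List ℕ → List (ℕ × List ℕ) :=
  @Nat.rec (fun _ => ℕ → List ℕ → List (ℕ × List ℕ)) (fun _ _ => []) (fun _ ih cd us =>
    @Bool.rec (fun _ => List (ℕ × List ℕ)) ((fun u cd' => @Bool.rec (fun _ => List (ℕ × List ℕ))
      ((u, u :: us) :: ih cd' []) (ih cd' (u :: us)) (Nat.beq (Nat.land 128 cd) 0)) (Nat.land 127 cd) (Nat.shiftRight cd 8))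
      [] (Nat.beq cd 0)) k

/-- a class: the address of its row, the function `orN`, the class -/
inductive Cd : Type
  | mk (o : ℕ) (f : ℕ → ℕ → ℕ) (d : ℕ × List (ℕ × ℕ)) : Cd

/-- the data of a base -/
inductive Pr : Type
  | mk (F2 O Lm O1 mr T PM PT NC0 ZP SQ : ℕ) (C : List (ℕ × List (ℕ × ℕ))) (vis : ℕ → (Cd → Bool) → Bool) : Pr
  | z : Pr

local notation "fP " v:max " := " x "; " b => @Nat.rec (fun _ => Pr) Pr.z (fun v _ => b) (Nat.succ x)

noncomputable def mkUF (f : ℕ → ℕ) (us : List ℕ) : (List (ℕ × ℕ) → Pr) → Pr :=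
  @List.rec ℕ (fun _ => (List (ℕ × ℕ) → Pr) → Pr) (fun k => k [])
    (fun u _ ih k => fP u := u; fP m := f u; ih fun L => k ((u, m) :: L)) us

noncomputable def mkCF (f : ℕ → ℕ → ℕ) (cs : List (ℕ × List ℕ)) : (List (ℕ × List (ℕ × ℕ)) → Pr) → Pr :=
  @List.rec (ℕ × List ℕ) (fun _ => (List (ℕ × List (ℕ × ℕ)) → Pr) → Pr) (fun k => k [])
    (fun c _ ih k => @Prod.rec ℕ (List ℕ) (fun _ => Pr) (fun v us =>
      fP v := v; mkUF (f v) us fun U => ih fun L => k ((v, U) :: L)) c) cs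

noncomputable def covF (s0 : ℕ) (C : List (ℕ × List (ℕ × ℕ))) : Bool :=
  ifB @List.rec (ℕ × List (ℕ × ℕ)) (fun _ => Bool) true (fun d _ ih => @Prod.rec ℕ (List (ℕ × ℕ)) (fun _ => Bool) (fun v U =>
      ifB (ifB Nat.ble (Nat.succ v) 128 then ifB Nat.ble 1 v then
        @List.rec (ℕ × ℕ) (fun _ => Bool) true (fun u _ ih => @Prod.rec ℕ ℕ (fun _ => Bool) (fun a m =>
          ifB (ifB Nat.ble (Nat.succ a) 128 then Nat.ble 1 m else false) then ih else false) u) U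
        else false else false) then ih else false) d) C
  then Nat.beq (Nat.land s0 (@List.rec (ℕ × List (ℕ × ℕ)) (fun _ => ℕ) 1 (fun d _ A =>
    @List.rec (ℕ × ℕ) (fun _ => ℕ) A (fun u _ B => Nat.lor B (Nat.shiftLeft 1 u.1)) d.2) C)) s0
  else false

/-! ### the filter -/

/-- the sum of the `g i` over the bits `i < r` of `c` -/
noncomputable def xg (g : ℕ → ℕ) (c r : ℕ) : ℕ :=
  @Nat.rec (fun _ => ℕ) 0 (fun i A =>
    @Bool.rec (fun _ => ℕ) (Nat.xor (g i) A) A (Nat.beq (Nat.land 1 (Nat.shiftRight c i)) 0)) r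

noncomputable def gb (P g : ℕ → ℕ) (r b : ℕ) : ℕ :=
  fN i := P (Nat.pred b); @Bool.rec (fun _ => ℕ) (xg g b r) (g i)
    (ifB Nat.beq b (Nat.shiftLeft 1 i) then Nat.ble (Nat.succ i) r else false)

/-- the same, bit by bit -/
noncomputable def xs (P g : ℕ → ℕ) (r fuel : ℕ) : ℕ → ℕ :=
  @Nat.rec (fun _ => ℕ → ℕ) (fun c => xg g c r) (fun _ ih c => @Nat.rec (fun _ => ℕ) 0 (fun k _ =>
    (fun c' => fN b := Nat.xor c c'; Nat.xor (ih c') (gb P g r b)) (Nat.land c k)) c) fuel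

/-- the bits `i` such that `g i` is not inside `NC0` -/
noncomputable def mkm (NC0 : ℕ) (g : ℕ → ℕ) (r : ℕ) : ℕ :=
  @Nat.rec (fun _ => ℕ) 0 (fun i A =>
    @Bool.rec (fun _ => ℕ) (Nat.lor (Nat.shiftLeft 1 i) A) A (Nat.beq (Nat.lor NC0 (g i)) NC0)) r

/-- the data for the slower tests -/
inductive Ex : Type
  | a (X Cz rt t R : ℕ) (ok : Bool) (d : ℕ × List (ℕ × ℕ)) : Ex
  | b (d : ℕ × List (ℕ × ℕ)) : Ex

/-- the data of a class which do not depend on the squares -/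
inductive Dt : Type
  | a (Cz rt : ℕ) (e : Ex) : Dt
  | b (e : Ex) : Dt
  | z : Dt

/-- the data which depend only on the centralizer and its normalizer -/
inductive D2 : Type
  | a (X t R : ℕ) (ok : Bool) : D2
  | b (X t : ℕ) (ok : Bool) : D2
  | z : D2

local notation "fE " v:max " := " x "; " b => @Nat.rec (fun _ => D2) D2.z (fun v _ => b) (Nat.succ x)
local notation "fD " v:max " := " x "; " b => @Nat.rec (fun _ => Dt) Dt.z (fun v _ => b) (Nat.succ x)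
local notation "rowF(" NC ", " v ")" => Nat.land FF (Nat.shiftRight NC (Nat.shiftLeft v 7))

noncomputable def mkO (U : List (ℕ × ℕ)) : ((ℕ → ℕ → ℕ) → Pr) → Pr :=
  @List.rec (ℕ × ℕ) (fun _ => ((ℕ → ℕ → ℕ) → Pr) → Pr) (fun k => k fun _ _ => 0)
    (fun u _ ih k => @Prod.rec ℕ ℕ (fun _ => Pr) (fun a m => fP o := Nat.shiftLeft a 7; ih fun f =>
      k fun NC rw => Nat.lor (Nat.mul (Nat.sub 1 (Nat.xor rw (Nat.land FF (Nat.shiftRight NC o)))) m) (f NC rw)) u) U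

noncomputable def mkV (C : List (ℕ × List (ℕ × ℕ))) : ((ℕ → (Cd → Bool) → Bool) → Pr) → Pr :=
  @List.rec (ℕ × List (ℕ × ℕ)) (fun _ => ((ℕ → (Cd → Bool) → Bool) → Pr) → Pr) (fun k => k fun _ _ => true)
    (fun d _ ih k => fP o := Nat.shiftLeft d.1 7; fP vb := Nat.shiftLeft 1 d.1; mkO d.2 fun f => ih fun acc =>
      k fun Q g => ifB Nat.beq (Nat.land vb Q) 0 then (ifB g (Cd.mk o f d) then acc Q g else false) else acc Q g) C

def cz (P : ℕ → ℕ) (M : ℕ) : ℕ := P (Nat.shiftRight (Nat.xor M (Nat.sub M 1)) 1)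

noncomputable def sqR (O O1 SQ rw : ℕ) : ℕ :=
  Nat.land rw (Nat.mod (Nat.land (Nat.mul FF (Nat.land (Nat.mul (Nat.xor FF rw) O) O1)) SQ) (nat_lit 0x1ffffffffffffffffffffffffffffffff))

noncomputable def czF (O Lm NC X : ℕ) : ℕ :=
  Nat.xor FF (Nat.mod ((fun Y => Nat.land O (Nat.shiftRight (Nat.lor (Nat.add (Nat.land Y Lm) Lm) Y) 127))
    (Nat.land (Nat.mul X O) NC)) (nat_lit 0xfffffffffffffffffffffffffffffffe))

noncomputable def tst (P : ℕ → ℕ) (rt V : ℕ) : Bool := Nat.beq (Nat.shiftLeft (P (Nat.land V rt)) 1) (P V)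

noncomputable def big (P : ℕ → ℕ) (X Nm : ℕ) : Bool := Nat.ble (Nat.succ (Nat.shiftLeft (P X) 1)) (P Nm)

noncomputable def sqX (SQ X x : ℕ) : ℕ := Nat.land X (Nat.land FF (Nat.shiftRight SQ (Nat.mul 129 x)))

noncomputable def df (P : ℕ → ℕ) (S S1 p1 : ℕ) : Bool :=
  ifB Nat.beq (P S1) p1 then false else ifB Nat.beq (P (Nat.xor S S1)) p1 then false else true

/-- no element over the bits of `M` has the colour `p1` -/
noncomputable def sh1 (P : ℕ → ℕ) (SQ X QX p1 fuel : ℕ) : ℕ → Bool :=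
  @Nat.rec (fun _ => ℕ → Bool) (fun _ => false) (fun _ ih M => ifB Nat.beq M 0 then true else
    fB x := cz P M; fB S := sqX SQ X x; fB S1 := Nat.land S QX;
    ifB df P S S1 p1 then (fB M' := Nat.xor M (Nat.shiftLeft 1 x); ih M') else false) fuel

noncomputable def shB (P : ℕ → ℕ) (SQ s0 QX X Cz rt p1 : ℕ) : Bool :=
  ifB Nat.beq (Nat.land Cz X) Cz then
    (fB M := Nat.land (Nat.land (Nat.land s0 (Nat.xor FF QX)) Cz) rt; sh1 P SQ X QX p1 129 M) else false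

noncomputable def shA (P : ℕ → ℕ) (SQ s0 QX X Cz rt : ℕ) : Bool :=
  fB p1 := P (Nat.land s0 QX); shB P SQ s0 QX X Cz rt p1

noncomputable def shC (P : ℕ → ℕ) (SQ s0 W QX X Cz rt : ℕ) : Bool :=
  fB p1 := P (Nat.land X W); shB P SQ s0 QX X Cz rt p1

noncomputable def okT (P : ℕ → ℕ) (r T ZP t : ℕ) : Bool :=
  fB i := cz P rowF(ZP, t); ifB Nat.ble i 127 then
    Nat.beq (Nat.shiftRight (Nat.land 4294967295 (Nat.shiftRight T (Nat.shiftLeft (Nat.add (Nat.shiftLeft t 7) i) 5))) r) 0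
  else false

noncomputable def da2 (P : ℕ → ℕ) (okT : ℕ → Bool) (O O1 SQ rw Nm : ℕ) : D2 :=
  fE R := Nat.land Nm (sqR O O1 SQ rw); @Bool.rec (fun _ => D2)
    (fE X := Nat.xor FF rw; fE t := cz P R; @Bool.rec (fun _ => D2) (D2.b X t (okT t)) (D2.a X t R (okT t)) (big P X Nm))
    D2.z (Nat.beq R 0)

noncomputable def dat (d2 : ℕ → ℕ → D2) (O Lm NC : ℕ) (cd : Cd) : Dt :=
  @Cd.rec (fun _ => Dt) (fun o f d => @Nat.rec (fun _ => Dt) Dt.z (fun k _ => fD Nm := f NC (Nat.succ k);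
    @D2.rec (fun _ => Dt)
      (fun X t R ok => fD rt := rowF(NC, t); fD Cz := czF O Lm NC X; Dt.a Cz rt (Ex.a X Cz rt t R ok d))
      (fun X t ok => fD rt := rowF(NC, t); fD Cz := czF O Lm NC X; Dt.b (Ex.a X Cz rt t 0 ok d))
      (Dt.b (Ex.b d)) (d2 (Nat.succ k) Nm)) (Nat.land FF (Nat.shiftRight NC o))) cd

noncomputable def ncF (P : ℕ → ℕ) (NC0 : ℕ) (g : ℕ → ℕ) (r d : ℕ) : ℕ := Nat.lor NC0 (xs P g r 33 d)

noncomputable def anyT (P : ℕ → ℕ) (NC R V : ℕ) : Bool := anyM (fun t => tst P rowF(NC, t) V) 128 R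

noncomputable def slw (P : ℕ → ℕ) (p : Pre) (lev : Bool) (c NC Q I w X Cz t R : ℕ) (d : ℕ × List (ℕ × ℕ)) : Bool :=
  fB V := Nat.land I Cz; ifB anyT P NC R V then true else
    ifB (fB pv := P V; shape p lev c NC Q w X V pv t) then true else cls p lev c NC Q I w d

/-- the slower tests -/
noncomputable def alt (P : ℕ → ℕ) (p : Pre) (sh : ℕ → ℕ → ℕ → ℕ → Bool) (lev : Bool) (c NC Q I w : ℕ) (e : Ex) : Bool :=
  @Ex.rec (fun _ => Bool) (fun X Cz rt t R ok d =>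
    ifB (ifB ok then (fB QX := Nat.land X Q; sh QX X Cz rt) else false) then true else slw P p lev c NC Q I w X Cz t R d)
    (cls p lev c NC Q I w) e

noncomputable def allG (P : ℕ → ℕ) (vis : ℕ → (Cd → Bool) → Bool) (h : Cd → Dt) (Q I : ℕ) (al : Ex → Bool) : Bool :=
  vis Q fun cd => @Dt.rec (fun _ => Bool)
    (fun Cz rt e => fB V := Nat.land I Cz; ifB tst P rt V then true else al e) al true (h cd)

noncomputable def allF (P : ℕ → ℕ) (p : Pre) (vis : ℕ → (Cd → Bool) → Bool) (dt : ℕ → Cd → Dt) (s0 c NC Q I w : ℕ) : Bool :=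
  allG P vis (dt NC) Q I (alt P p (shC P p.SQ s0 (p.rt Q w)) true c NC Q I w)

noncomputable def s2F (P : ℕ → ℕ) (p : Pre) (vis : ℕ → (Cd → Bool) → Bool) (dt : ℕ → Cd → Dt) (outs : List ℕ)
    (s0 i c w NC Q I : ℕ) : Bool :=
  ifB Nat.beq w 0 then bnot (Pre.allL (fun o => bnot (Nat.beq o i)) outs) else
  (fB W := p.cen NC I;
  band (Nat.blt 0 w) (band (tb W (Nat.shiftRight w 1))
    (colM (fun a => band (Nat.blt 0 a) (same p true NC Q p.F a w)) false
      (fun L => ite' (Pre.short L) (allF P p vis dt s0 c NC Q I w)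
        (Pre.allL (fun a => allF P p vis dt s0 c NC Q I a) L)) p.N1 W [])))

/-- `s1`, `s2` are the two tests; `reps` is shifted, `lo1 = lo + 1` -/
noncomputable def runF (s1 : ℕ → ℕ → ℕ → Bool) (s2 : ℕ → ℕ → ℕ → ℕ → ℕ → Bool) (xq : ℕ → ℕ) (r mr m reps lo1 k : ℕ) :
    ℕ → ℕ → ℕ → ℕ → Bool :=
  @Nat.rec (fun _ => ℕ → ℕ → ℕ → ℕ → Bool) (fun _ _ _ _ => true) (fun j ih ce nx c0 Q0 => (fun c =>
    fB x := Nat.xor c c0; fB d := Nat.land c m; (fun Q =>
    ifB Nat.beq nx (Nat.add lo1 j) then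
      (ifB s2 nx ce c d Q then
        (fB ce' := Nat.shiftRight ce 24; ih ce' (Nat.shiftRight (Nat.land 16777215 ce') 9) c Q) else false)
    else ifB s1 c d Q then ih ce nx c Q else false) (Nat.xor Q0 (xq x)))
    (Nat.land mr (Nat.shiftRight reps (Nat.mul r j)))) k

noncomputable def t1F (P : ℕ → ℕ) (p : Pre) (sh : ℕ → ℕ → ℕ → ℕ → Bool) (vis : ℕ → (Cd → Bool) → Bool) (dt : ℕ → Cd → Dt)
    (nc : ℕ → ℕ) (s0 c d Q : ℕ) : Bool :=
  (fun NC I => allG P vis (dt NC) Q I (alt P p sh false c NC Q I 1)) (nc d) (Nat.land s0 (Nat.xor FF Q))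

noncomputable def t2F (P : ℕ → ℕ) (p : Pre) (vis : ℕ → (Cd → Bool) → Bool) (dt : ℕ → Cd → Dt) (nc : ℕ → ℕ) (outs : List ℕ)
    (s0 nx ce c d Q : ℕ) : Bool :=
  fB w := Nat.land 511 ce; s2F P p vis dt outs s0 (Nat.pred nx) c w (nc d) Q (Nat.land s0 (Nat.xor FF Q))

noncomputable def chkI (P : ℕ → ℕ) (r F2 O Lm O1 mr T PM PT NC0 ZP SQ rp lo k ce : ℕ) (outs : List ℕ)
    (C : List (ℕ × List (ℕ × ℕ))) (vis : ℕ → (Cd → Bool) → Bool) : Bool :=
  fB s0 := Nat.land FF SQ; ifB covF s0 C then (fB reps := Nat.shiftRight rp (Nat.mul r lo);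
    fB m := mkm NC0 (gE F2 PM PT) r; fB lo1 := Nat.succ lo;
    (fun (p : Pre) (dt : ℕ → Cd → Dt) (nc : ℕ → ℕ) =>
      runF (t1F P p (shA P SQ s0) vis dt nc s0) (t2F P p vis dt nc outs s0) (xs P (gQ F2 O1 PM) r 33)
        r mr m reps lo1 k ce (Nat.shiftRight (Nat.land 16777215 ce) 9) 0 0)
    ⟨7, r, 128, FF, 129, 16384, F2, O, Lm, O1, nat_lit 0x1ffffffffffffffffffffffffffffffff, nat_lit 0xfffffffffffffffffffffffffffffffe, T, NC0, ZP, SQ,
      mkE 7 F2 16384 O1 (nat_lit 0x1fffffffffffffffffffffffffffffffe) PM (Nat.xor PM PT) r fun E => E, C⟩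
    (dat (da2 P (okT P r T ZP) O O1 SQ) O Lm) (ncF P NC0 (gE F2 PM PT) r)) else false

noncomputable def or7 (a0 a1 a2 a3 a4 a5 a6 : ℕ) : ℕ :=
  Nat.lor (Nat.lor (Nat.lor a0 a1) (Nat.lor a2 a3)) (Nat.lor (Nat.lor a4 a5) a6)

noncomputable def dg7 (O1 a0 a1 a2 a3 a4 a5 a6 : ℕ) : ℕ :=
  Nat.add (Nat.add (Nat.add (Nat.add (Nat.add (Nat.add (dgF O1 a0) (Nat.shiftLeft (dgF O1 a1) 128))
    (Nat.shiftLeft (dgF O1 a2) 256)) (Nat.shiftLeft (dgF O1 a3) 384)) (Nat.shiftLeft (dgF O1 a4) 512))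
    (Nat.shiftLeft (dgF O1 a5) 640)) (Nat.shiftLeft (dgF O1 a6) 768)

noncomputable def preH (pl sq : ℕ → ℕ → ℕ → ℕ) (d7 : ℕ → ℕ → ℕ → ℕ → ℕ → ℕ → ℕ → ℕ → ℕ)
    (cd r F2 O Lm O1 mr T PM PT : ℕ) : Pr :=
  fP a0 := pl F2 PM (Nat.add r 0); fP b0 := pl F2 PT (Nat.add r 0);
  fP a1 := pl F2 PM (Nat.add r 1); fP b1 := pl F2 PT (Nat.add r 1);
  fP a2 := pl F2 PM (Nat.add r 2); fP b2 := pl F2 PT (Nat.add r 2);
  fP a3 := pl F2 PM (Nat.add r 3); fP b3 := pl F2 PT (Nat.add r 3);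
  fP a4 := pl F2 PM (Nat.add r 4); fP b4 := pl F2 PT (Nat.add r 4);
  fP a5 := pl F2 PM (Nat.add r 5); fP b5 := pl F2 PT (Nat.add r 5);
  fP a6 := pl F2 PM (Nat.add r 6); fP b6 := pl F2 PT (Nat.add r 6);
  fP NC0 := or7 (Nat.xor a0 b0) (Nat.xor a1 b1) (Nat.xor a2 b2) (Nat.xor a3 b3) (Nat.xor a4 b4) (Nat.xor a5 b5) (Nat.xor a6 b6);
  fP ZP := Nat.xor F2 (or7 a0 a1 a2 a3 a4 a5 a6);
  fP Dg := d7 O1 a0 a1 a2 a3 a4 a5 a6; fP SQ := sq Dg 7 FF;
  mkCF (cj7 a0 a1 a2 a3 a4 a5 a6 b0 b1 b2 b3 b4 b5 b6) (decF 128 cd []) fun C =>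
    mkV C (Pr.mk F2 O Lm O1 mr T PM PT NC0 ZP SQ C)

noncomputable def preG (rp : ℕ → ℕ → ℕ → ℕ) (tf : ℕ → ℕ → ℕ → ℕ → ℕ) (s5 s7 : ℕ → ℕ)
    (H : ℕ → ℕ → ℕ → ℕ → ℕ → ℕ → ℕ → ℕ → ℕ → Pr) (r w R : ℕ) : Pr :=
  fP F2 := msk 16384; fP O := ones 128 7; fP Lm := Nat.mul (msk 127) O; fP O1 := ones 129 7;
  fP R' := rp w R 28; fP mr := msk r; fP T := tf r mr R' 7;
  fP PM := s5 T; fP PT := s7 PM; H r F2 O Lm O1 mr T PM PT

noncomputable def preF (r w R cd : ℕ) : Pr := preG repack tabF swK5 swK7 (preH plF sqF dg7 cd) r w R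

noncomputable def chkP (P : ℕ → ℕ) (r rp lo k ce : ℕ) (outs : List ℕ) (x : Pr) : Bool :=
  @Pr.rec (fun _ => Bool) (fun F2 O Lm O1 mr T PM PT NC0 ZP SQ C vis =>
    chkI P r F2 O Lm O1 mr T PM PT NC0 ZP SQ rp lo k ce outs C vis) false x

/-- `pop`; the first argument only changes the hash values of the terms -/
def pp (_h X : ℕ) : ℕ := pop X

noncomputable def chkF (B : Base) (cd lo k ce : ℕ) (outs : List ℕ) : Bool :=
  ifB Nat.ble B.w 32 then
    fB r := B.r; fB w := B.w; fB R := B.rel; fB cd := cd; fB h := Nat.mod R 4294967291;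
      chkP (pp h) r B.reps lo k ce outs (preF r w R cd)
  else false

noncomputable def segF (SS : List (List Base)) (B : Base) (cd lo k ce : ℕ) (ics : List (ℕ × Ic)) : Bool :=
  Gen.band (chkF B cd lo k ce (ics.map Prod.fst)) (List.rec (motive := fun _ => Bool) true (fun _ _ _ =>
    isoK 7 SS B.r B.w B.rel fun ck => Gen.allL (fun p => Gen.frc (Gen.gt B.r B.reps p.1) fun c => ck c p.2) ics) ics)

noncomputable def jobsF (SS : List (List Base)) (l : List Base) (Js : List Job) : Bool :=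
  Gen.allL (fun J => look (fun B => segF SS B J.cd J.lo J.k J.ce J.ics) l J.j) Js

/-! ### proofs: bits -/

theorem lc (a b : ℕ) : Nat.land a b = Nat.land b a := Nat.and_comm a b
theorem xc (a b : ℕ) : Nat.xor a b = Nat.xor b a := Nat.xor_comm a b

theorem msk_land (k a : ℕ) : Nat.land (msk k) a = a % 2 ^ k := (lc _ _).trans (land_msk a k)

theorem tb_eq (X i : ℕ) : tb X i = X.testBit i := by
  show Nat.beq ((X >>> i) &&& 1) 1 = _
  rw [Nat.and_one_is_mod, ← Nat.add_zero i, ← Nat.testBit_shiftRight, Nat.add_zero, Nat.testBit_zero]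
  rcases Nat.mod_two_eq_zero_or_one (X >>> i) with h | h <;> rw [h] <;> rfl

theorem beq_one (X i : ℕ) : Nat.beq (Nat.land 1 (Nat.shiftRight X i)) 0 = !X.testBit i := by
  show Nat.beq (1 &&& (X >>> i)) 0 = _
  rw [Nat.and_comm, Nat.and_one_is_mod, ← Nat.add_zero i, ← Nat.testBit_shiftRight, Nat.add_zero, Nat.testBit_zero]
  rcases Nat.mod_two_eq_zero_or_one (X >>> i) with h | h <;> rw [h] <;> rfl

theorem beq_bit (X i : ℕ) : Nat.beq (Nat.land (Nat.shiftLeft 1 i) X) 0 = !X.testBit i := by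
  rw [one_shl]
  show Nat.beq (2 ^ i &&& X) 0 = _
  rw [Nat.two_pow_and]
  cases X.testBit i
  · rfl
  · obtain ⟨k, hk⟩ := Nat.exists_eq_succ_of_ne_zero (Nat.two_pow_pos i).ne'
    rw [Bool.toNat_true, Nat.mul_one, hk]
    rfl

theorem ifB_and {c a : Bool} (h : (ifB c then a else false) = true) : c = true ∧ a = true := by
  cases c
  · cases h
  · exact ⟨rfl, h⟩

theorem ifB_or {c a : Bool} (h : (ifB c then true else a) = true) : c = true ∨ a = true := by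
  cases c
  · exact .inr h
  · exact .inl rfl

theorem bor_l {a : Bool} (b : Bool) (h : a = true) : bor a b = true := by subst h; rfl
theorem bor_r (a : Bool) {b : Bool} (h : b = true) : bor a b = true := by subst h; cases a <;> rfl
theorem band_i {a b : Bool} (h : a = true) (h' : b = true) : band a b = true := by subst h h'; rfl
theorem band_e {a b : Bool} (h : band a b = true) : a = true ∧ b = true := ifB_and h

theorem allL_i {α : Type} {f : α → Bool} : ∀ {L : List α}, (∀ a ∈ L, f a = true) → Pre.allL f L = true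
  | [], _ => rfl
  | a :: _, h => band_i (h a List.mem_cons_self) (allL_i fun b hb => h b (List.mem_cons_of_mem _ hb))

theorem allL_mono {α : Type} {f g : α → Bool} (h : ∀ a, f a = true → g a = true) :
    ∀ {L : List α}, Pre.allL f L = true → Pre.allL g L = true
  | [], _ => rfl
  | a :: _, h1 => band_i (h a (band_e h1).1) (allL_mono h (band_e h1).2)

/-! ### proofs: the table -/

noncomputable def hf (r M s ms mr O U v C mk j : ℕ) : ℕ → ℕ → ℕ → ℕ :=
  @Nat.rec (fun _ => ℕ → ℕ → ℕ → ℕ)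
    (fun Mx y ry => Nat.add (Nat.xor U Mx) (Nat.shiftLeft (Nat.xor (Nat.mul (Nat.xor (Nat.land y mr) v) O) ry) s))
    (fun i f Mx y ry => Nat.add (f (Nat.land (msk (Nat.shiftLeft s i)) Mx) y ry) (Nat.shiftLeft
      (f (Nat.shiftRight Mx (Nat.shiftLeft s i))
        (Nat.xor (Nat.land 4294967295 (Nat.shiftRight ry (Nat.mul 32 (Nat.shiftRight (Nat.land mk (Nat.shiftRight C (Nat.mul 32 i))) r))))
          (Nat.xor y (Nat.land mk (Nat.shiftRight C (Nat.mul 32 i)))))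
        (Nat.land ms (Nat.shiftRight M (Nat.mul s (Nat.shiftRight (Nat.land 4294967295
          (Nat.shiftRight ry (Nat.mul 32 (Nat.shiftRight (Nat.land mk (Nat.shiftRight C (Nat.mul 32 i))) r)))) r)))))
      (Nat.shiftLeft s (Nat.succ i)))) j

theorem halfK_eq (r M s ms mr O U v C mk : ℕ) : ∀ (j : ℕ) (k : (ℕ → ℕ → ℕ → ℕ) → ℕ),
    halfK r M s ms mr O U v C mk j k = k (hf r M s ms mr O U v C mk j)
  | 0, _ => rfl
  | j + 1, _ => halfK_eq r M s ms mr O U v C mk j _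

theorem blk_hi (A a b : ℕ) : (A % 2 ^ (a + b)) >>> a = (A >>> a) % 2 ^ b := by
  refine Nat.eq_of_testBit_eq fun j => ?_
  rw [Nat.testBit_shiftRight, Nat.testBit_mod_two_pow, Nat.testBit_mod_two_pow, Nat.testBit_shiftRight]
  simp only [Nat.add_lt_add_iff_left]

theorem xor_shr (e a r : ℕ) : (e ^^^ a % 2 ^ r) >>> r = e >>> r := by
  rw [Nat.shiftRight_xor_distrib, Nat.shiftRight_eq_div_pow (a % 2 ^ r),
    Nat.div_eq_of_lt (Nat.mod_lt _ (Nat.two_pow_pos r)), Nat.xor_zero]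

theorem hf_eq (r k M O U v C : ℕ) : ∀ (j x y y' : ℕ), y' % 2 ^ r = y % 2 ^ r →
    hf r M (32 * 2 ^ k) (msk (32 * 2 ^ k)) (msk r) O U v C (msk (Nat.add r k)) j
      ((M >>> (32 * 2 ^ k * x)) % 2 ^ (32 * 2 ^ k * 2 ^ j)) y' (Pc.get (32 * 2 ^ k) M (y >>> r)) =
    half r k 32 M C (32 * 2 ^ k) (msk (32 * 2 ^ k)) (msk r) O U v j x y
  | 0, x, y, y', h => by
    show Nat.add (Nat.xor U _) (Nat.shiftLeft (Nat.xor (Nat.mul (Nat.xor (Nat.land y' (msk r)) v) O) _) _) =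
      Nat.add (Nat.xor (Nat.land _ (msk _)) U) (Nat.shiftLeft (Nat.xor (Nat.land _ (msk _))
        (Nat.mul (Nat.xor (Nat.land y (msk r)) v) O)) _)
    rw [land_msk, land_msk, land_msk, land_msk, h, xc U, xc (Nat.mul _ O), Nat.pow_zero, Nat.mul_one]
    rfl
  | j + 1, x, y, y', h => by
    generalize hc : Nat.land (msk (Nat.add r k)) (Nat.shiftRight C (Nat.mul 32 j)) = c
    have hc1 : c >>> r < 2 ^ k := by
      rw [← hc, msk_land]
      exact shiftRight_lt (Nat.mod_lt _ (Nat.two_pow_pos _))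
    have he : Nat.land 4294967295 (Nat.shiftRight (Pc.get (32 * 2 ^ k) M (y >>> r)) (Nat.mul 32 (Nat.shiftRight c r))) =
        Pc.get 32 M (2 ^ k * (y >>> r) + c >>> r) := by
      rw [← get_get 32 (2 ^ k) M (y >>> r) hc1]
      exact msk_land 32 _
    have h1 : half r k 32 M C (32 * 2 ^ k) (msk (32 * 2 ^ k)) (msk r) O U v (j + 1) x y =
        Nat.add (half r k 32 M C (32 * 2 ^ k) (msk (32 * 2 ^ k)) (msk r) O U v j x y) (Nat.shiftLeft
          (frc (mulT r k 32 M y (Nat.land (Nat.shiftRight C (Nat.mul 32 j)) (msk (Nat.add r k))))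
            (half r k 32 M C (32 * 2 ^ k) (msk (32 * 2 ^ k)) (msk r) O U v j (Nat.add x (Nat.shiftLeft 1 j))))
          (Nat.shiftLeft (32 * 2 ^ k) (Nat.succ j))) := rfl
    rw [h1, frc_eq, lc _ (msk (Nat.add r k)), hc, mulT_eq, ← hf_eq r k M O U v C j x y y' h,
      ← hf_eq r k M O U v C j _ _ (Pc.get 32 M (2 ^ k * (y >>> r) + c >>> r) ^^^ (y' ^^^ c))
        (by simp only [Nat.xor_mod_two_pow, Nat.mod_mod, h]), xor_shr]
    show Nat.add (hf _ _ _ _ _ _ _ _ _ _ j (Nat.land (msk _) _) _ _) (Nat.shiftLeft (hf _ _ _ _ _ _ _ _ _ _ j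
      (Nat.shiftRight _ _) (Nat.xor (Nat.land 4294967295 _) _) (Nat.land (msk _) _)) _) = _
    rw [hc, he, msk_land, msk_land, shl_eq (32 * 2 ^ k) j, one_shl, Nat.pow_succ 2 j, ← Nat.mul_assoc, Nat.mul_two,
      Nat.mod_mod_of_dvd _ (Nat.pow_dvd_pow 2 (Nat.le_add_right _ _)), nshr (_ % _), blk_hi, ← Nat.shiftRight_add,
      ← Nat.mul_add]
    rfl

theorem stepF_eq (r R k M : ℕ) : stepF r (msk r) R k M = step r 32 R k M := by
  have hs : Nat.shiftLeft 32 k = 32 * 2 ^ k := shl_eq _ _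
  delta step
  simp only [frc_eq]
  show Nat.add (halfK _ _ _ _ _ _ _ _ _ _ _ _) (Nat.shiftLeft (halfK _ _ _ _ _ _ _ _ _ _ _ _) _) = _
  rw [halfK_eq, halfK_eq, hs, ← hf_eq r k M _ _ _ _ k 0 0 0 rfl, ← hf_eq r k M _ _ _ _ k 0 _ _ rfl,
    shl_eq (32 * 2 ^ k) k, lc _ (msk (Nat.add r k)), Nat.zero_shiftRight]
  simp only [msk_land]
  rfl

theorem tabF_eq (r R : ℕ) : ∀ n, tabF r (msk r) R n = tab r n 32 R
  | 0 => rfl
  | n + 1 => by
    rw [tab_succ, ← tabF_eq r R n, ← stepF_eq]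
    rfl

/-! ### proofs: transpositions and planes -/

theorem sw_eq {j l d X Y Z : ℕ} (K : {x : ℕ // mform j l = x}) (hd : Nat.sub (Nat.shiftLeft 1 l) (Nat.shiftLeft 1 j) = d)
    (hM : Nat.xor (bm 19 j) (Nat.land (bm 19 j) (bm 19 l)) = mform j l) {o : ℕ} (ho : Nat.add j o = l)
    (h : swps 19 o j X = Y) (hZ : Z = j + 1) : swps 19 o Z X = sw1 d K.1 Y := by
  have h3 : swps 19 o (j + 1) X = frc (swps 19 o j X) fun Y => frc (Nat.add j o) fun l => swp 19 j l Y := rfl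
  rw [hZ, h3, frc_eq, frc_eq, h, ho, ← K.2, ← hM, ← hd]
  delta swp
  rw [frc_eq, frc_eq, lc]
  rfl

theorem swK5_eq (X : ℕ) : swps 19 5 14 X = swK5 X :=
  sw_eq K5_13 rfl (by decide +kernel) rfl
    (sw_eq K5_12 rfl (by decide +kernel) rfl
    (sw_eq K5_11 rfl (by decide +kernel) rfl
    (sw_eq K5_10 rfl (by decide +kernel) rfl
    (sw_eq K5_9 rfl (by decide +kernel) rfl
    (sw_eq K5_8 rfl (by decide +kernel) rfl
    (sw_eq K5_7 rfl (by decide +kernel) rfl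
    (sw_eq K5_6 rfl (by decide +kernel) rfl
    (sw_eq K5_5 rfl (by decide +kernel) rfl
    (sw_eq K5_4 rfl (by decide +kernel) rfl
    (sw_eq K5_3 rfl (by decide +kernel) rfl
    (sw_eq K5_2 rfl (by decide +kernel) rfl
    (sw_eq K5_1 rfl (by decide +kernel) rfl
    (sw_eq K5_0 rfl (by decide +kernel) rfl
    rfl rfl) rfl) rfl) rfl) rfl) rfl) rfl) rfl) rfl) rfl) rfl) rfl) rfl) rfl

theorem swK7_eq (X : ℕ) : swps 19 7 7 X = swK7 X :=
  sw_eq K7_6 rfl (by decide +kernel) rfl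
    (sw_eq K7_5 rfl (by decide +kernel) rfl
    (sw_eq K7_4 rfl (by decide +kernel) rfl
    (sw_eq K7_3 rfl (by decide +kernel) rfl
    (sw_eq K7_2 rfl (by decide +kernel) rfl
    (sw_eq K7_1 rfl (by decide +kernel) rfl
    (sw_eq K7_0 rfl (by decide +kernel) rfl
    rfl rfl) rfl) rfl) rfl) rfl) rfl) rfl

theorem get_four (w X a : ℕ) :
    Nat.land (msk w) (Nat.shiftRight (Nat.land (msk (w * 4)) (Nat.shiftRight X (w * 4 * (a / 4)))) (w * (a % 4))) =
      Nat.land (Nat.shiftRight X (w * a)) (msk w) := by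
  rw [msk_land, msk_land, land_msk]
  have h := get_get w 4 X (a / 4) (Nat.mod_lt a (by decide : 0 < 4))
  rw [Nat.div_add_mod] at h
  exact h

theorem plF_eq (X k : ℕ) : plF (msk 16384) X k = plane 7 (msk 16384) X k := by
  have h := get_four 16384 X (pa 7 k)
  have h1 : Nat.shiftLeft (Nat.shiftRight (pa 7 k) 2) 16 = 16384 * 4 * (pa 7 k / 4) := by
    rw [shl_eq, nshr, Nat.shiftRight_eq_div_pow, Nat.mul_comm]
    rfl
  have h2 : Nat.shiftLeft (Nat.land 3 (pa 7 k)) 14 = 16384 * (pa 7 k % 4) := by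
    rw [shl_eq, lc, Nat.mul_comm]
    exact congrArg _ (Nat.and_two_pow_sub_one_eq_mod _ 2)
  have h3 : Nat.shiftLeft (pa 7 k) (Nat.add 7 7) = 16384 * pa 7 k := by
    rw [shl_eq, Nat.mul_comm]
    rfl
  delta plane
  rw [h3, ← h, ← h1, ← h2]
  rfl

theorem plane_xor (n F2 X Y k : ℕ) : plane n F2 (Nat.xor X Y) k = Nat.xor (plane n F2 X k) (plane n F2 Y k) := by
  show ((X ^^^ Y) >>> _) &&& F2 = (X >>> _ &&& F2) ^^^ (Y >>> _ &&& F2)
  rw [Nat.shiftRight_xor_distrib, Nat.and_xor_distrib_right]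

theorem dgF_eq (O1 X : ℕ) : dgF O1 X = diag O1 (nat_lit 0x1fffffffffffffffffffffffffffffffe) X := by
  delta dgF diag
  rw [lc]

theorem sqt_succ (n F N1 Dg j X : ℕ) : sqt n F N1 Dg (j + 1) X =
    Nat.add (sqt n F N1 Dg j (Nat.xor X (Nat.land X (row n F Dg j))))
      (Nat.shiftLeft (sqt n F N1 Dg j (Nat.land X (row n F Dg j))) (Nat.shiftLeft N1 j)) := by
  have h : sqt n F N1 Dg (j + 1) X = frc (Nat.land X (row n F Dg j)) fun Y =>
    Nat.add (frc (Nat.xor X Y) (sqt n F N1 Dg j)) (Nat.shiftLeft (sqt n F N1 Dg j Y) (Nat.shiftLeft N1 j)) := rfl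
  rw [h, frc_eq, frc_eq]

theorem sqt_zero (n F N1 Dg : ℕ) : ∀ j, sqt n F N1 Dg j 0 = 0
  | 0 => rfl
  | j + 1 => by
    rw [sqt_succ, nland, Nat.zero_and, nxor, Nat.xor_self, sqt_zero n F N1 Dg j, nshl, Nat.zero_shiftLeft]

theorem row_eq (F X x : ℕ) : row 7 F X x = Nat.land F (Nat.shiftRight X (Nat.shiftLeft x 7)) := lc _ _

theorem sqF_eq (Dg : ℕ) : ∀ j X, sqF Dg j X = sqt 7 FF 129 Dg j X
  | 0, _ => rfl
  | j + 1, 0 => (sqt_zero _ _ _ _ _).symm
  | j + 1, X + 1 => by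
    rw [sqt_succ, row_eq, ← sqF_eq Dg j, ← sqF_eq Dg j]
    rfl

theorem decF_eq : ∀ k cd us, decF k cd us = dec k cd us
  | 0, _, _ => rfl
  | k + 1, cd, us => by
    have h : dec (k + 1) cd us = ite' (Nat.beq cd 0) [] (frc (Nat.land cd 127) fun u => frc (Nat.shiftRight cd 8) fun cd' =>
      ite' (tb cd 7) ((u, u :: us) :: dec k cd' []) (dec k cd' (u :: us))) := rfl
    have h2 : decF (k + 1) cd us = ite' (Nat.beq cd 0) [] (ite' (Nat.beq (Nat.land (Nat.shiftLeft 1 7) cd) 0)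
      (decF k (Nat.shiftRight cd 8) (Nat.land 127 cd :: us))
      ((Nat.land 127 cd, Nat.land 127 cd :: us) :: decF k (Nat.shiftRight cd 8) [])) := rfl
    rw [h, h2, frc_eq, frc_eq, tb_eq, beq_bit, decF_eq k, decF_eq k, lc 127]
    cases cd.testBit 7 <;> rfl

theorem mkUF_eq (f : ℕ → ℕ) : ∀ (us : List ℕ) (k : List (ℕ × ℕ) → Pr), mkUF f us k = mkU f us k
  | [], _ => rfl
  | u :: us, k => by
    have h : mkU f (u :: us) k = frc u fun u => frc (f u) fun m => mkU f us fun L => k ((u, m) :: L) := rfl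
    rw [h, frc_eq, frc_eq, ← mkUF_eq f us]
    rfl

theorem mkCF_eq (f : ℕ → ℕ → ℕ) : ∀ (cs : List (ℕ × List ℕ)) (k : List (ℕ × List (ℕ × ℕ)) → Pr),
    mkCF f cs k = mkC f cs k
  | [], _ => rfl
  | (v, us) :: cs, k => by
    have h : mkC f ((v, us) :: cs) k = frc v fun v => mkU (f v) us fun U => mkC f cs fun L => k ((v, U) :: L) := rfl
    rw [h, frc_eq, ← mkUF_eq]
    simp only [← mkCF_eq f cs]
    rfl

theorem mkU_k {α : Type} (f : ℕ → ℕ) : ∀ (us : List ℕ) (k : List (ℕ × ℕ) → α),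
    mkU f us k = k (us.map fun u => (u, f u))
  | [], _ => rfl
  | u :: us, k => by
    have h : mkU f (u :: us) k = frc u fun u => frc (f u) fun m => mkU f us fun L => k ((u, m) :: L) := rfl
    rw [h, frc_eq, frc_eq, mkU_k f us]
    rfl

theorem mkC_k {α : Type} (f : ℕ → ℕ → ℕ) : ∀ (cs : List (ℕ × List ℕ)) (k : List (ℕ × List (ℕ × ℕ)) → α),
    mkC f cs k = k (cs.map fun c => (c.1, c.2.map fun u => (u, f c.1 u)))
  | [], _ => rfl
  | c :: cs, k => by
    have h : mkC f (c :: cs) k = frc c.1 fun v => mkU (f v) c.2 fun U => mkC f cs fun L => k ((v, U) :: L) := rfl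
    rw [h, frc_eq, mkU_k, mkC_k f cs]
    rfl

theorem cz_def (P : ℕ → ℕ) (M : ℕ) : cz P M = P (Nat.shiftRight (Nat.xor M (Nat.sub M 1)) 1) := rfl

theorem ctz_def (M : ℕ) : ctz M = pop (Nat.shiftRight (Nat.xor M (Nat.sub M 1)) 1) := rfl

theorem cz_eq (M : ℕ) : cz pop M = ctz M := (cz_def pop M).trans (ctz_def M).symm

/-! ### proofs: the sums of planes -/

theorem xg_succ (g : ℕ → ℕ) (c r : ℕ) : xg g c (r + 1) = bif c.testBit r then g r ^^^ xg g c r else xg g c r := by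
  have h : xg g c (r + 1) = @Bool.rec (fun _ => ℕ) (Nat.xor (g r) (xg g c r)) (xg g c r)
    (Nat.beq (Nat.land 1 (Nat.shiftRight c r)) 0) := rfl
  rw [h, beq_one]
  cases c.testBit r <;> rfl

theorem xg_xor (g : ℕ → ℕ) (a b : ℕ) : ∀ r, xg g (a ^^^ b) r = xg g a r ^^^ xg g b r
  | 0 => (Nat.xor_self 0).symm
  | r + 1 => by
    rw [xg_succ, xg_succ, xg_succ, xg_xor g a b r, Nat.testBit_xor]
    generalize xg g a r = A
    generalize xg g b r = B
    generalize g r = x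
    cases a.testBit r <;> cases b.testBit r
    · rfl
    · exact (by ac_rfl : x ^^^ (A ^^^ B) = A ^^^ (x ^^^ B))
    · exact (Nat.xor_assoc _ _ _).symm
    · show A ^^^ B = (x ^^^ A) ^^^ (x ^^^ B)
      rw [(by ac_rfl : (x ^^^ A) ^^^ (x ^^^ B) = (x ^^^ x) ^^^ (A ^^^ B)), Nat.xor_self, Nat.zero_xor]

theorem xg_zero (g : ℕ → ℕ) : ∀ r, xg g 0 r = 0
  | 0 => rfl
  | r + 1 => by
    rw [xg_succ, Nat.zero_testBit]
    exact xg_zero g r

theorem xg_pow0 (g : ℕ → ℕ) (i : ℕ) : ∀ r, r ≤ i → xg g (2 ^ i) r = 0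
  | 0, _ => rfl
  | r + 1, h => by
    rw [xg_succ, Nat.testBit_two_pow_of_ne (by omega)]
    exact xg_pow0 g i r (by omega)

theorem xg_pow (g : ℕ → ℕ) (i : ℕ) : ∀ r, i < r → xg g (2 ^ i) r = g i
  | 0, h => absurd h (Nat.not_lt_zero _)
  | r + 1, h => by
    rw [xg_succ]
    by_cases h1 : i = r
    · subst h1
      rw [Nat.testBit_two_pow_self, xg_pow0 g i i le_rfl]
      exact Nat.xor_zero _
    · rw [Nat.testBit_two_pow_of_ne h1]
      exact xg_pow g i r (by omega)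

theorem gb_eq (P g : ℕ → ℕ) (r b : ℕ) : gb P g r b = xg g b r := by
  have h : gb P g r b = @Bool.rec (fun _ => ℕ) (xg g b r) (g (P (Nat.pred b)))
    (ifB Nat.beq b (Nat.shiftLeft 1 (P (Nat.pred b))) then Nat.ble (Nat.succ (P (Nat.pred b))) r else false) := rfl
  rw [h]
  generalize P (Nat.pred b) = i
  cases h1 : (ifB Nat.beq b (Nat.shiftLeft 1 i) then Nat.ble (Nat.succ i) r else false)
  · rfl
  · obtain ⟨h2, h3⟩ := ifB_and h1
    rw [Nat.eq_of_beq_eq_true h2, one_shl, xg_pow g i r (Nat.le_of_ble_eq_true h3)]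

theorem xs_eq (P g : ℕ → ℕ) (r : ℕ) : ∀ fuel c, xs P g r fuel c = xg g c r
  | 0, _ => rfl
  | _ + 1, 0 => (xg_zero g r).symm
  | f + 1, k + 1 => by
    have h : xs P g r (f + 1) (k + 1) =
      Nat.xor (xs P g r f (Nat.land (k + 1) k)) (gb P g r (Nat.xor (k + 1) (Nat.land (k + 1) k))) := rfl
    rw [h, xs_eq P g r f, gb_eq, nxor, ← xg_xor, nxor, Nat.xor_comm (k + 1), ← Nat.xor_assoc, Nat.xor_self, Nat.zero_xor]

noncomputable def lE (g : ℕ → ℕ) (r : ℕ) : List ℕ := @Nat.rec (fun _ => List ℕ) [] (fun i L => g i :: L) r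

theorem mkE_eq {α : Type} (n F2 N2 O1 md PM D : ℕ) : ∀ (r : ℕ) (k : List ℕ → α), mkE n F2 N2 O1 md PM D r k =
    k (lE (fun i => Nat.add (plane n F2 D i) (Nat.shiftLeft (diag O1 md (plane n F2 PM i)) N2)) r)
  | 0, _ => rfl
  | r + 1, k => by
    have h : mkE n F2 N2 O1 md PM D (r + 1) k =
      frc (Nat.add (plane n F2 D r) (Nat.shiftLeft (diag O1 md (plane n F2 PM r)) N2)) fun e =>
        mkE n F2 N2 O1 md PM D r fun L => k (e :: L) := rfl
    rw [h, frc_eq, mkE_eq n F2 N2 O1 md PM D r]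
    rfl

theorem xorL_eq (g : ℕ → ℕ) (c : ℕ) : ∀ r A, xorL (lE g r) c r A = A ^^^ xg g c r
  | 0, A => (Nat.xor_zero A).symm
  | r + 1, A => by
    have h : xorL (lE g (r + 1)) c (r + 1) A =
      ite' (tb c r) (frc (Nat.xor A (g r)) (xorL (lE g r) c r)) (xorL (lE g r) c r A) := rfl
    rw [h, frc_eq, xorL_eq g c r, xorL_eq g c r, xg_succ, tb_eq]
    cases c.testBit r
    · rfl
    · exact Nat.xor_assoc _ _ _

theorem xg_map (f : ℕ → ℕ) (h0 : f 0 = 0) (h : ∀ a b, f (a ^^^ b) = f a ^^^ f b) (g g' : ℕ → ℕ)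
    (hg : ∀ i, f (g i) = g' i) (c : ℕ) : ∀ r, f (xg g c r) = xg g' c r
  | 0 => h0
  | r + 1 => by
    rw [xg_succ, xg_succ, ← xg_map f h0 h g g' hg c r]
    cases c.testBit r
    · rfl
    · exact (h _ _).trans (by rw [hg]; rfl)

theorem cat_lo {a s : ℕ} (b : ℕ) (h : a < 2 ^ s) : Nat.land (Nat.add a (Nat.shiftLeft b s)) (msk s) = a := by
  rw [land_msk, shl_eq, nadd, Nat.add_mul_mod_self_right, Nat.mod_eq_of_lt h]

theorem cat_hi {a s : ℕ} (b : ℕ) (h : a < 2 ^ s) : Nat.shiftRight (Nat.add a (Nat.shiftLeft b s)) s = b := by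
  rw [shl_eq, nadd, nshr, Nat.shiftRight_eq_div_pow, Nat.add_mul_div_right _ _ (Nat.two_pow_pos s),
    Nat.div_eq_of_lt h, Nat.zero_add]

theorem plane_lt (n s X k : ℕ) : plane n (msk s) X k < 2 ^ s := by
  delta plane
  rw [land_msk]
  exact Nat.mod_lt _ (Nat.two_pow_pos s)

theorem conc_eq {α : Type} (p : Pre) {s n O1 md PM D : ℕ} {g g' : ℕ → ℕ} (h1 : p.F2 = msk s) (h2 : p.N2 = s)
    (h3 : p.E = mkE n (msk s) s O1 md PM D p.r fun E => E) (hg : ∀ i, plane n (msk s) D i = g i)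
    (hg' : ∀ i, diag O1 md (plane n (msk s) PM i) = g' i) (c : ℕ) (k : ℕ → ℕ → ℕ → α) :
    p.conc c k = k (Nat.lor p.NC0 (xg g c p.r)) (xg g' c p.r) (Nat.land (p.sq 0) (Nat.xor p.F (xg g' c p.r))) := by
  delta Pre.conc
  simp only [frc_eq]
  rw [h1, h2, h3, mkE_eq, xorL_eq, Nat.zero_xor,
    xg_map (fun a => Nat.land a (msk s)) (Nat.zero_and _) (fun _ _ => Nat.and_xor_distrib_right ..) _ g
      (fun i => (cat_lo _ (plane_lt ..)).trans (hg i)),
    xg_map (fun a => Nat.shiftRight a s) (Nat.zero_shiftRight _) (fun _ _ => Nat.shiftRight_xor_distrib) _ g'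
      (fun i => (cat_hi _ (plane_lt ..)).trans (hg' i))]

theorem mkm_succ (A : ℕ) (g : ℕ → ℕ) (r : ℕ) :
    mkm A g (r + 1) = bif Nat.beq (Nat.lor A (g r)) A then mkm A g r else 2 ^ r ||| mkm A g r := by
  have h : mkm A g (r + 1) = @Bool.rec (fun _ => ℕ) (Nat.lor (Nat.shiftLeft 1 r) (mkm A g r)) (mkm A g r)
    (Nat.beq (Nat.lor A (g r)) A) := rfl
  rw [h, one_shl]
  cases Nat.beq (Nat.lor A (g r)) A <;> rfl

theorem mkm_spec (A : ℕ) (g : ℕ → ℕ) : ∀ r i, i < r → (mkm A g r).testBit i = false → A ||| g i = A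
  | 0, _, h, _ => absurd h (Nat.not_lt_zero _)
  | r + 1, i, h, h1 => by
    rw [mkm_succ] at h1
    cases h2 : Nat.beq (Nat.lor A (g r)) A
    · rw [h2, cond_false, Nat.testBit_or, Bool.or_eq_false_iff] at h1
      by_cases h3 : i = r
      · rw [h3, Nat.testBit_two_pow_self] at h1
        cases h1.1
      · exact mkm_spec A g r i (by omega) h1.2
    · rw [h2, cond_true] at h1
      by_cases h3 : i = r
      · rw [h3]
        exact Nat.eq_of_beq_eq_true h2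
      · exact mkm_spec A g r i (by omega) h1

theorem or_xor_congr {A X Y : ℕ} (x : ℕ) (h : A ||| X = A ||| Y) : A ||| (x ^^^ X) = A ||| (x ^^^ Y) := by
  refine Nat.eq_of_testBit_eq fun j => ?_
  have h1 := congrArg (fun z => Nat.testBit z j) h
  simp only [Nat.testBit_or, Nat.testBit_xor] at h1 ⊢
  revert h1
  cases A.testBit j <;> cases X.testBit j <;> cases Y.testBit j <;> cases x.testBit j <;> decide

theorem or_xor_abs {A x : ℕ} (Y : ℕ) (h : A ||| x = A) : A ||| (x ^^^ Y) = A ||| Y := by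
  refine Nat.eq_of_testBit_eq fun j => ?_
  have h1 := congrArg (fun z => Nat.testBit z j) h
  simp only [Nat.testBit_or, Nat.testBit_xor] at h1 ⊢
  revert h1
  cases A.testBit j <;> cases Y.testBit j <;> cases x.testBit j <;> decide

theorem xg_mask (A : ℕ) (g : ℕ → ℕ) (c m : ℕ) : ∀ r, (∀ i, i < r → m.testBit i = false → A ||| g i = A) →
    A ||| xg g (c &&& m) r = A ||| xg g c r
  | 0, _ => rfl
  | r + 1, h => by
    have ih := xg_mask A g c m r fun i hi => h i (by omega)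
    rw [xg_succ, xg_succ, Nat.testBit_and]
    cases c.testBit r
    · exact ih
    · cases h1 : m.testBit r
      · exact ih.trans (or_xor_abs _ (h r (by omega) h1)).symm
      · exact or_xor_congr _ ih

theorem ncF_eq (P : ℕ → ℕ) (A : ℕ) (g : ℕ → ℕ) (r c : ℕ) :
    ncF P A g r (Nat.land c (mkm A g r)) = Nat.lor A (xg g c r) := by
  delta ncF
  rw [xs_eq]
  exact xg_mask A g c _ r (mkm_spec A g r)

/-! ### proofs: the classes -/

structure Std (p : Pre) : Prop where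
  n : p.n = 7
  N : p.N = 128
  F : p.F = FF
  N1 : p.N1 = 129
  m1 : p.m1 = nat_lit 0x1ffffffffffffffffffffffffffffffff
  m2 : p.m2 = nat_lit 0xfffffffffffffffffffffffffffffffe

theorem Std.row {p : Pre} (hp : Std p) (X t : ℕ) : row p.n p.F X t = rowF(X, t) := by
  rw [hp.n, hp.F]
  exact lc _ _

theorem Std.sq {p : Pre} (hp : Std p) (u : ℕ) : p.sq u = Nat.land FF (Nat.shiftRight p.SQ (Nat.mul 129 u)) := by
  delta Pre.sq
  rw [hp.N1, hp.F]
  exact lc _ _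

theorem Std.sqR {p : Pre} (hp : Std p) (Nm rw : ℕ) :
    Nat.land (Nat.land Nm rw) (p.sqin (Nat.xor FF rw)) = Nat.land Nm (sqR p.O p.O1 p.SQ rw) := by
  delta Pre.sqin F7.sqR
  rw [hp.m1, hp.F, nmul _ FF, Nat.mul_comm _ FF]
  exact Nat.and_assoc _ _ _

theorem Std.cz {p : Pre} (hp : Std p) (NC X : ℕ) : Nat.xor p.F (p.nz NC X) = czF p.O p.Lm NC X := by
  delta Pre.nz Sw.rnz czF
  rw [hp.m2, hp.F, hp.N, lc _ p.O]
  rfl

theorem lor_trick (a b m A : ℕ) :
    Nat.lor (Nat.mul (Nat.sub 1 (Nat.xor a b)) m) A = ite' (Nat.beq b a) (Nat.lor m A) A := by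
  cases h : Nat.beq b a
  · have h1 : a ^^^ b ≠ 0 := fun h2 => Nat.ne_of_beq_eq_false h (Nat.eq_of_xor_eq_zero h2).symm
    rw [nxor, nsub, (by omega : 1 - (a ^^^ b) = 0), nmul, Nat.zero_mul]
    exact Nat.zero_or A
  · rw [Nat.eq_of_beq_eq_true h, nxor, Nat.xor_self, nsub, Nat.sub_zero, nmul, Nat.one_mul]
    rfl

theorem mkO_ex {p : Pre} (hp : Std p) : ∀ U : List (ℕ × ℕ), ∃ f : ℕ → ℕ → ℕ,
    (∀ k, mkO U k = k f) ∧ ∀ NC rw, f NC rw = p.orN NC rw U
  | [] => ⟨fun _ _ => 0, fun _ => rfl, fun _ _ => rfl⟩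
  | (a, m) :: U => by
    obtain ⟨f, h1, h2⟩ := mkO_ex hp U
    refine ⟨fun NC rw => Nat.lor (Nat.mul (Nat.sub 1 (Nat.xor rw rowF(NC, a))) m) (f NC rw), fun k => h1 _,
      fun NC rw => ?_⟩
    have h : p.orN NC rw ((a, m) :: U) = ite' (Nat.beq (row p.n p.F NC a) rw) (Nat.lor m (p.orN NC rw U))
      (p.orN NC rw U) := rfl
    rw [h, hp.row, ← h2]
    exact lor_trick _ _ _ _

/-- what `vis` checks -/
def Vis (p : Pre) (C : List (ℕ × List (ℕ × ℕ))) (vis : ℕ → (Cd → Bool) → Bool) : Prop :=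
  ∀ Q g, vis Q g = true → ∀ d ∈ C, tb Q d.1 = true ∨
    ∃ f : ℕ → ℕ → ℕ, (∀ NC rw, f NC rw = p.orN NC rw d.2) ∧ g (Cd.mk (Nat.shiftLeft d.1 7) f d) = true

theorem mkV_ex {p : Pre} (hp : Std p) : ∀ C : List (ℕ × List (ℕ × ℕ)), ∃ vis, (∀ k, mkV C k = k vis) ∧ Vis p C vis
  | [] => ⟨fun _ _ => true, fun _ => rfl, fun _ _ _ _ h => by cases h⟩
  | d :: C => by
    obtain ⟨f, h1, h2⟩ := mkO_ex hp d.2
    obtain ⟨acc, h3, h4⟩ := mkV_ex hp C
    refine ⟨fun Q g => ifB Nat.beq (Nat.land (Nat.shiftLeft 1 d.1) Q) 0 then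
      (ifB g (Cd.mk (Nat.shiftLeft d.1 7) f d) then acc Q g else false) else acc Q g,
      fun k => (h1 _).trans (h3 _), fun Q g h e he => ?_⟩
    have h5 : (ifB Nat.beq (Nat.land (Nat.shiftLeft 1 d.1) Q) 0 then
      (ifB g (Cd.mk (Nat.shiftLeft d.1 7) f d) then acc Q g else false) else acc Q g) = true := h
    rw [beq_bit, ← tb_eq] at h5
    cases h6 : tb Q d.1
    · rw [h6] at h5
      obtain ⟨h7, h8⟩ := ifB_and h5
      rcases List.mem_cons.1 he with h9 | h9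
      · rw [h9]
        exact .inr ⟨f, h2, h7⟩
      · exact h4 Q g h8 e h9
    · rw [h6] at h5
      rcases List.mem_cons.1 he with h9 | h9
      · rw [h9]
        exact .inl h6
      · exact h4 Q g h5 e h9

theorem anyM_first {f : ℕ → Bool} {M : ℕ} (k : ℕ) (h : Nat.beq M 0 = false) (h1 : f (ctz M) = true) :
    anyM f (k + 1) M = true := by
  have h2 : anyM f (k + 1) M = ite' (Nat.beq M 0) false
    (frc (ctz M) fun t => bor (f t) (frc (Nat.xor M (Nat.shiftLeft 1 t)) (anyM f k))) := rfl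
  rw [h2, h, frc_eq, h1]
  rfl

theorem cls_eq {p : Pre} (hp : Std p) (lev : Bool) (c NC Q I w : ℕ) (d : ℕ × List (ℕ × ℕ)) {rw Nm X V R : ℕ}
    (h1 : rowF(NC, d.1) = rw) (h2 : p.orN NC rw d.2 = Nm) (h3 : Nat.xor FF rw = X)
    (h4 : Nat.land I (czF p.O p.Lm NC X) = V) (h5 : Nat.land Nm (sqR p.O p.O1 p.SQ rw) = R) :
    cls p lev c NC Q I w d = bor (tb Q d.1) (bor (Nat.beq rw 0) (bor (band (big pop X Nm)
      (anyM (fun t => tst pop rowF(NC, t) V) (127 + 1) R))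
      (bor (band lev (band (Nat.ble (Nat.shiftLeft (pop X) 3) (pop Nm)) (Nat.ble (pop V) 16)))
        (band (Nat.blt 0 R) (shape p lev c NC Q w X V (pop V) (ctz R)))))) := by
  delta cls
  simp only [frc_eq, hp.row, hp.cz]
  rw [h1, h2, hp.F, hp.sqR, h3, h4, h5, hp.N]
  rfl

theorem alt_a {P : ℕ → ℕ} {p : Pre} {sh : ℕ → ℕ → ℕ → ℕ → Bool} {lev ok : Bool} {c NC Q I w X Cz rt t R : ℕ}
    {d : ℕ × List (ℕ × ℕ)} (h : alt P p sh lev c NC Q I w (Ex.a X Cz rt t R ok d) = true) :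
    (ok = true ∧ sh (Nat.land X Q) X Cz rt = true) ∨ anyT P NC R (Nat.land I Cz) = true ∨
      shape p lev c NC Q w X (Nat.land I Cz) (P (Nat.land I Cz)) t = true ∨ cls p lev c NC Q I w d = true := by
  have h1 : (ifB (ifB ok then sh (Nat.land X Q) X Cz rt else false) then true else
    slw P p lev c NC Q I w X Cz t R d) = true := h
  refine (ifB_or h1).imp ifB_and fun h2 => ?_
  have h3 : (ifB anyT P NC R (Nat.land I Cz) then true else
    ifB shape p lev c NC Q w X (Nat.land I Cz) (P (Nat.land I Cz)) t then true else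
    cls p lev c NC Q I w d) = true := h2
  exact (ifB_or h3).imp id ifB_or

theorem dat_cases {P : ℕ → ℕ} {ok : ℕ → Bool} {O O1 SQ Lm NC I : ℕ} {al : Ex → Bool} {f : ℕ → ℕ → ℕ} {o : ℕ}
    {d : ℕ × List (ℕ × ℕ)} {rw : ℕ} (h0 : Nat.land FF (Nat.shiftRight NC o) = rw) {R : ℕ}
    (hR : Nat.land (f NC rw) (sqR O O1 SQ rw) = R)
    (h : @Dt.rec (fun _ => Bool) (fun Cz rt e => fB V := Nat.land I Cz; ifB tst P rt V then true else al e) al true
      (dat (da2 P ok O O1 SQ) O Lm NC (Cd.mk o f d)) = true) :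
    Nat.beq rw 0 = true ∨ al (Ex.b d) = true ∨ (Nat.beq R 0 = false ∧
      ((big P (Nat.xor FF rw) (f NC rw) = true ∧
        tst P rowF(NC, cz P R) (Nat.land I (czF O Lm NC (Nat.xor FF rw))) = true) ∨
      al (Ex.a (Nat.xor FF rw) (czF O Lm NC (Nat.xor FF rw)) rowF(NC, cz P R) (cz P R)
        (@Bool.rec (fun _ => ℕ) 0 R (big P (Nat.xor FF rw) (f NC rw))) (ok (cz P R)) d) = true)) := by
  have h1 : dat (da2 P ok O O1 SQ) O Lm NC (Cd.mk o f d) = @Nat.rec (fun _ => Dt) Dt.z (fun k _ =>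
    @D2.rec (fun _ => Dt)
      (fun X t R ok => Dt.a (czF O Lm NC X) rowF(NC, t) (Ex.a X (czF O Lm NC X) rowF(NC, t) t R ok d))
      (fun X t ok => Dt.b (Ex.a X (czF O Lm NC X) rowF(NC, t) t 0 ok d))
      (Dt.b (Ex.b d)) (da2 P ok O O1 SQ (Nat.succ k) (f NC (Nat.succ k)))) (Nat.land FF (Nat.shiftRight NC o)) := rfl
  have h2 : da2 P ok O O1 SQ rw (f NC rw) = @Bool.rec (fun _ => D2)
      (@Bool.rec (fun _ => D2) (D2.b (Nat.xor FF rw) (cz P R) (ok (cz P R))) (D2.a (Nat.xor FF rw) (cz P R) R (ok (cz P R)))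
        (big P (Nat.xor FF rw) (f NC rw))) D2.z (Nat.beq R 0) := by
    rw [← hR]
    rfl
  rw [h1, h0] at h
  cases rw with
  | zero => exact .inl rfl
  | succ k =>
    have h3 : @Dt.rec (fun _ => Bool) (fun Cz rt e => ifB tst P rt (Nat.land I Cz) then true else al e) al true
      (@D2.rec (fun _ => Dt)
      (fun X t R ok => Dt.a (czF O Lm NC X) rowF(NC, t) (Ex.a X (czF O Lm NC X) rowF(NC, t) t R ok d))
      (fun X t ok => Dt.b (Ex.a X (czF O Lm NC X) rowF(NC, t) t 0 ok d))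
      (Dt.b (Ex.b d)) (da2 P ok O O1 SQ (k + 1) (f NC (k + 1)))) = true := h
    rw [h2] at h3
    right
    cases h4 : Nat.beq R 0
    · rw [h4] at h3
      refine .inr ⟨rfl, ?_⟩
      cases h5 : big P (Nat.xor FF (k + 1)) (f NC (k + 1))
      · rw [h5] at h3
        exact .inr h3
      · rw [h5] at h3
        exact (ifB_or h3).imp (fun h6 => ⟨rfl, h6⟩) id
    · rw [h4] at h3
      exact .inl h3

theorem blt_of_beq {R : ℕ} (h : Nat.beq R 0 = false) : Nat.blt 0 R = true := by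
  cases R with
  | zero => cases h
  | succ R => rfl

theorem anyT_e {P : ℕ → ℕ} {NC R V : ℕ} {b : Bool} (h : anyT P NC (@Bool.rec (fun _ => ℕ) 0 R b) V = true) :
    band b (anyM (fun t => tst P rowF(NC, t) V) (127 + 1) R) = true := by
  cases b
  · cases h
  · exact h

theorem allG_all {p : Pre} (hp : Std p) {vis : ℕ → (Cd → Bool) → Bool} (hv : Vis p p.C vis) {ok : ℕ → Bool}
    {sh : ℕ → ℕ → ℕ → ℕ → Bool} {lev : Bool} {c NC Q I w : ℕ}
    (hs : ∀ X Cz t, ok t = true → sh (Nat.land X Q) X Cz rowF(NC, t) = true →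
      shape p lev c NC Q w X (Nat.land I Cz) (pop (Nat.land I Cz)) t = true)
    (h : allG pop vis (dat (da2 pop ok p.O p.O1 p.SQ) p.O p.Lm NC) Q I (alt pop p sh lev c NC Q I w) = true) :
    Pre.allL (cls p lev c NC Q I w) p.C = true := by
  refine allL_i fun d hd => ?_
  have e := cls_eq hp lev c NC Q I w d rfl rfl rfl rfl rfl
  rcases hv Q _ h d hd with h1 | ⟨f, h1, h2⟩
  · rw [e]
    exact bor_l _ h1
  rcases dat_cases rfl rfl h2 with h3 | h3 | ⟨h3, h4 | h4⟩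
  · rw [e]
    exact bor_r _ (bor_l _ h3)
  · exact h3
  · rw [h1] at h3 h4
    rw [cz_eq] at h4
    rw [e]
    exact bor_r _ (bor_r _ (bor_l _ (band_i h4.1 (anyM_first _ h3 h4.2))))
  · rw [h1] at h3 h4
    rw [cz_eq] at h4
    rcases alt_a h4 with h5 | h5 | h5 | h5
    · rw [e]
      exact bor_r _ (bor_r _ (bor_r _ (bor_r _ (band_i (blt_of_beq h3) (hs _ _ _ h5.1 h5.2)))))
    · rw [e]
      exact bor_r _ (bor_r _ (bor_l _ (anyT_e h5)))
    · rw [e]
      exact bor_r _ (bor_r _ (bor_r _ (bor_r _ (band_i (blt_of_beq h3) h5))))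
    · exact h5

/-! ### proofs: the shape test -/

theorem df_e {P : ℕ → ℕ} {S S1 p1 : ℕ} (h : df P S S1 p1 = true) :
    Nat.beq (P S1) p1 = false ∧ Nat.beq (P (Nat.xor S S1)) p1 = false := by
  have h1 : (ifB Nat.beq (P S1) p1 then false else ifB Nat.beq (P (Nat.xor S S1)) p1 then false else true) = true := h
  revert h1
  cases Nat.beq (P S1) p1 <;> cases Nat.beq (P (Nat.xor S S1)) p1 <;> decide

theorem sh1_cnt {P : ℕ → ℕ} {SQ X QX p1 : ℕ} {f : ℕ → ℕ} {fin : ℕ → Bool} (hz : ∀ M, cz P M = ctz M) (h0 : fin 0 = true)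
    (hf : ∀ x, df P (sqX SQ X x) (Nat.land (sqX SQ X x) QX) p1 = true →
      f (Nat.shiftLeft x 1) = 0 ∧ f (Nat.succ (Nat.shiftLeft x 1)) = 0) :
    ∀ fuel M, sh1 P SQ X QX p1 fuel M = true → cntM f fin fuel M 0 = true
  | 0, _, h => by cases h
  | k + 1, M, h => by
    have h1 : (ifB Nat.beq M 0 then true else
      ifB df P (sqX SQ X (cz P M)) (Nat.land (sqX SQ X (cz P M)) QX) p1 then
        sh1 P SQ X QX p1 k (Nat.xor M (Nat.shiftLeft 1 (cz P M))) else false) = true := h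
    rw [hz] at h1
    have h2 : cntM f fin (k + 1) M 0 = ite' (Nat.beq M 0) (fin 0)
      (frc (ctz M) fun x => frc (Nat.shiftLeft x 1) fun a => frc (f a) fun b => ite' (Nat.ble b 1)
        (frc (Nat.succ a) fun a' => frc (f a') fun b' => ite' (Nat.ble b' 1)
          (frc (Nat.xor M (Nat.shiftLeft 1 x)) fun M' => frc (Nat.add 0 (Nat.add b b')) (cntM f fin k M')) false)
        false) := rfl
    rw [h2]
    cases h3 : Nat.beq M 0
    · rw [h3] at h1
      obtain ⟨h4, h5⟩ := ifB_and h1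
      obtain ⟨h6, h7⟩ := hf _ h4
      simp only [frc_eq]
      rw [h6, h7]
      have h8 := sh1_cnt hz h0 hf k _ h5
      generalize Nat.xor M (Nat.shiftLeft 1 (ctz M)) = M' at h8 ⊢
      exact h8
    · exact h0

theorem shp_zero {p : Pre} {lev : Bool} {c NC Q w X t ti a : ℕ} (h : Nat.beq (c2 p Q X a) (c2 p Q X w) = false) :
    shp p lev c NC Q w X t ti a = 0 := by
  delta shp same
  rw [h]
  rfl

theorem shl_one (x : ℕ) : Nat.shiftRight (Nat.shiftLeft x 1) 1 = x := Nat.shiftLeft_shiftRight x 1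

theorem shl_one' (x : ℕ) : Nat.shiftRight (Nat.succ (Nat.shiftLeft x 1)) 1 = x := by
  rw [shl_eq, nshr, Nat.shiftRight_eq_div_pow]
  omega

theorem tb_even (x : ℕ) : tb (Nat.shiftLeft x 1) 0 = false := by
  rw [tb_eq, shl_eq, Nat.testBit_zero]
  exact decide_eq_false (by omega)

theorem tb_odd (x : ℕ) : tb (Nat.succ (Nat.shiftLeft x 1)) 0 = true := by
  rw [tb_eq, shl_eq, Nat.testBit_zero]
  exact decide_eq_true (by omega)

theorem bits_odd (X F s Q : ℕ) :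
    Nat.land X (Nat.land (Nat.land F s) Q) = Nat.land (Nat.land X (Nat.land F s)) (Nat.land X Q) := by
  refine Nat.eq_of_testBit_eq fun j => ?_
  simp only [nland, Nat.testBit_and]
  cases X.testBit j <;> cases F.testBit j <;> cases s.testBit j <;> cases Q.testBit j <;> rfl

theorem bits_even (X F s Q : ℕ) : Nat.land X (Nat.land (Nat.land F s) (Nat.xor F Q)) =
    Nat.xor (Nat.land X (Nat.land F s)) (Nat.land (Nat.land X (Nat.land F s)) (Nat.land X Q)) := by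
  refine Nat.eq_of_testBit_eq fun j => ?_
  simp only [nland, nxor, Nat.testBit_and, Nat.testBit_xor]
  cases X.testBit j <;> cases F.testBit j <;> cases s.testBit j <;> cases Q.testBit j <;> rfl

theorem bits_in {X C : ℕ} (h : Nat.land C X = C) (s F Q : ℕ) :
    Nat.land (Nat.land s (Nat.xor F (Nat.land X Q))) C = Nat.land (Nat.land s (Nat.xor F Q)) C := by
  refine Nat.eq_of_testBit_eq fun j => ?_
  have h1 := congrArg (fun z => Nat.testBit z j) h
  simp only [nland, nxor, Nat.testBit_and, Nat.testBit_xor] at h1 ⊢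
  revert h1
  cases X.testBit j <;> cases F.testBit j <;> cases s.testBit j <;> cases Q.testBit j <;> cases C.testBit j <;> decide

theorem Std.c2_odd {p : Pre} (hp : Std p) (Q X x : ℕ) :
    c2 p Q X (Nat.succ (Nat.shiftLeft x 1)) = pop (Nat.land (sqX p.SQ X x) (Nat.land X Q)) := by
  delta c2 Pre.rt sqX
  rw [shl_one', tb_odd, hp.sq]
  exact congrArg pop (bits_odd _ _ _ _)

theorem Std.c2_even {p : Pre} (hp : Std p) (Q X x : ℕ) : c2 p Q X (Nat.shiftLeft x 1) =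
    pop (Nat.xor (sqX p.SQ X x) (Nat.land (sqX p.SQ X x) (Nat.land X Q))) := by
  delta c2 Pre.rt sqX
  rw [shl_one, tb_even, hp.sq, hp.F]
  exact congrArg pop (bits_even _ _ _ _)

theorem okT_e {p : Pre} (hp : Std p) {t : ℕ} (c : ℕ) (h : okT pop p.r p.T p.ZP t = true) :
    Nat.blt (p.mul c (Nat.shiftLeft t 1) (Nat.shiftLeft (ctz rowF(p.ZP, t)) 1)) 2 = true ∧
      Nat.blt (Nat.shiftLeft (ctz rowF(p.ZP, t)) 1) (Nat.add p.N p.N) = true := by
  have h1 : ∀ P : ℕ → ℕ, okT P p.r p.T p.ZP t = true → Nat.ble (cz P rowF(p.ZP, t)) 127 = true ∧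
    Nat.beq (Nat.shiftRight (Nat.land 4294967295 (Nat.shiftRight p.T
    (Nat.shiftLeft (Nat.add (Nat.shiftLeft t 7) (cz P rowF(p.ZP, t))) 5))) p.r) 0 = true := fun _ h => ifB_and h
  obtain ⟨h2, h3⟩ := h1 _ h
  rw [cz_eq] at h2 h3
  generalize ctz rowF(p.ZP, t) = i at h2 h3 ⊢
  have h4 := Nat.le_of_ble_eq_true h2
  refine ⟨Nat.ble_eq_true_of_le ?_, Nat.ble_eq_true_of_le ?_⟩
  · have h5 : ∀ a b : ℕ, a = 0 → (Nat.add (Nat.shiftLeft a 1) (Nat.land b 1)).succ ≤ 2 := fun a b h => by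
      rw [h, nland, Nat.and_one_is_mod, shl_eq, nadd]
      omega
    delta Pre.mul
    refine h5 _ _ ?_
    rw [shl_one, shl_one, hp.n, lc]
    exact Nat.eq_of_beq_eq_true h3
  · rw [hp.N, shl_eq, nadd]
    omega

theorem shB_shape {p : Pre} (hp : Std p) {lev : Bool} {s0 c NC Q w X Cz t : ℕ} (pv : ℕ)
    (ho : okT pop p.r p.T p.ZP t = true) (h : shB pop p.SQ s0 (Nat.land X Q) X Cz rowF(NC, t) (c2 p Q X w) = true) :
    shape p lev c NC Q w X (Nat.land (Nat.land s0 (Nat.xor FF Q)) Cz) pv t = true := by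
  have h1 : ∀ (P : ℕ → ℕ) (SQ s0 QX X Cz rt p1 : ℕ), shB P SQ s0 QX X Cz rt p1 = true → Nat.beq (Nat.land Cz X) Cz = true ∧
      sh1 P SQ X QX p1 129 (Nat.land (Nat.land (Nat.land s0 (Nat.xor FF QX)) Cz) rt) = true :=
    fun _ _ _ _ _ _ _ _ h => ifB_and h
  obtain ⟨h2, h3⟩ := h1 _ _ _ _ _ _ _ _ h
  obtain ⟨h4, h5⟩ := okT_e hp c ho
  rw [bits_in (Nat.eq_of_beq_eq_true h2)] at h3
  delta shape
  simp only [frc_eq, hp.row]
  refine band_i h4 (band_i h5 ?_)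
  rw [hp.N1]
  refine sh1_cnt cz_eq (bor_l _ rfl) (fun x hx => ?_) _ _ h3
  obtain ⟨h6, h7⟩ := df_e hx
  rw [← hp.c2_odd] at h6
  rw [← hp.c2_even] at h7
  exact ⟨shp_zero h7, shp_zero h6⟩

theorem shA_eq (P : ℕ → ℕ) (SQ s0 QX X Cz rt : ℕ) :
    shA P SQ s0 QX X Cz rt = shB P SQ s0 QX X Cz rt (P (Nat.land s0 QX)) := rfl

theorem shC_eq (P : ℕ → ℕ) (SQ s0 W QX X Cz rt : ℕ) :
    shC P SQ s0 W QX X Cz rt = shB P SQ s0 QX X Cz rt (P (Nat.land X W)) := rfl

theorem Std.sq0 {p : Pre} (hp : Std p) : p.sq 0 = Nat.land FF p.SQ := hp.sq 0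

theorem Std.c2_one {p : Pre} (hp : Std p) (Q X : ℕ) :
    c2 p Q X 1 = pop (Nat.land (Nat.land FF p.SQ) (Nat.land X Q)) := by
  have h1 : p.rt Q 1 = Nat.land (p.sq 0) Q := rfl
  delta c2
  rw [h1, hp.sq0]
  generalize Nat.land FF p.SQ = s
  exact congrArg pop (by ac_rfl : X &&& (s &&& Q) = s &&& (X &&& Q))

/-! ### proofs: the two tests -/

theorem allF_all {p : Pre} (hp : Std p) {vis : ℕ → (Cd → Bool) → Bool} (hv : Vis p p.C vis) {s0 c NC Q w : ℕ}
    (h : allF pop p vis (dat (da2 pop (okT pop p.r p.T p.ZP) p.O p.O1 p.SQ) p.O p.Lm) s0 c NC Q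
      (Nat.land s0 (Nat.xor FF Q)) w = true) :
    Pre.allL (cls p true c NC Q (Nat.land s0 (Nat.xor FF Q)) w) p.C = true := by
  refine allG_all hp hv (sh := shC pop p.SQ s0 (p.rt Q w)) (fun X Cz t h1 h2 => ?_) h
  rw [shC_eq] at h2
  exact shB_shape hp _ h1 h2

theorem colM_mono {f : ℕ → Bool} {k k' : List ℕ → Bool} (h : ∀ L, k L = true → k' L = true) :
    ∀ fuel M L, colM f false k fuel M L = true → colM f false k' fuel M L = true
  | 0, _, _, h1 => h1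
  | j + 1, M, L, h1 => by
    have e : ∀ k : List ℕ → Bool, colM f false k (j + 1) M L = ite' (Nat.beq M 0) (k L)
      (frc (ctz M) fun x => frc (Nat.shiftLeft x 1) fun a => frc (Nat.succ a) fun a' =>
        frc (Nat.xor M (Nat.shiftLeft 1 x)) fun M' =>
        ite' (f a) (ite' (f a') (colM f false k j M' (a :: a' :: L)) (colM f false k j M' (a :: L)))
          (ite' (f a') (colM f false k j M' (a' :: L)) (colM f false k j M' L))) := fun _ => rfl
    rw [e] at h1 ⊢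
    simp only [frc_eq] at h1 ⊢
    revert h1
    cases Nat.beq M 0
    · cases f (Nat.shiftLeft (ctz M) 1) <;> cases f (Nat.succ (Nat.shiftLeft (ctz M) 1)) <;>
        exact colM_mono h j _ _
    · exact h L

theorem s2F_eq (P : ℕ → ℕ) (p : Pre) (vis : ℕ → (Cd → Bool) → Bool) (dt : ℕ → Cd → Dt) (outs : List ℕ)
    (s0 i c w NC Q I : ℕ) : s2F P p vis dt outs s0 i c w NC Q I =
    ite' (Nat.beq w 0) (bnot (Pre.allL (fun o => bnot (Nat.beq o i)) outs))
      ((band (Nat.blt 0 w) (band (tb (p.cen NC I) (Nat.shiftRight w 1))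
        (colM (fun a => band (Nat.blt 0 a) (same p true NC Q p.F a w)) false
          (fun L => ite' (Pre.short L) (allF P p vis dt s0 c NC Q I w)
            (Pre.allL (fun a => allF P p vis dt s0 c NC Q I a) L)) p.N1 (p.cen NC I) [])))) := rfl

noncomputable def s2a (p : Pre) (c w NC Q I : ℕ) : Bool := frc (p.cen NC I) fun W =>
  band (Nat.blt 0 w) (band (tb W (Nat.shiftRight w 1))
    (colM (fun a => band (Nat.blt 0 a) (p.same true NC Q p.F a w)) false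
      (fun L => ite' (Pre.short L) (Pre.allL (p.cls true c NC Q I w) p.C)
        (Pre.allL (fun a => Pre.allL (p.cls true c NC Q I a) p.C) L)) p.N1 W []))

theorem s2_eq (p : Pre) (c w : ℕ) : s2 p c w = p.conc c fun NC Q I => s2a p c w NC Q I := rfl

theorem s2F_s2a {P : ℕ → ℕ} {p : Pre} {vis : ℕ → (Cd → Bool) → Bool} {dt : ℕ → Cd → Dt} {outs : List ℕ}
    {s0 i c w NC Q I : ℕ} (ha : ∀ a, allF P p vis dt s0 c NC Q I a = true → Pre.allL (cls p true c NC Q I a) p.C = true)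
    (h : s2F P p vis dt outs s0 i c w NC Q I = true) :
    ite' (Nat.beq w 0) (bnot (Pre.allL (fun o => bnot (Nat.beq o i)) outs)) (s2a p c w NC Q I) = true := by
  rw [s2F_eq] at h
  delta s2a
  rw [frc_eq]
  revert h
  cases Nat.beq w 0
  · intro h
    obtain ⟨h1, h2⟩ := band_e h
    obtain ⟨h3, h4⟩ := band_e h2
    refine band_i h1 (band_i h3 (colM_mono (fun L => ?_) _ _ _ h4))
    cases Pre.short L
    · exact allL_mono ha
    · exact ha w
  · exact id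

/-! ### proofs: the loop -/

theorem run_of {p : Pre} {s1' : ℕ → ℕ → ℕ → Bool} {s2' : ℕ → ℕ → ℕ → ℕ → ℕ → Bool} {xq qf : ℕ → ℕ} {reps lo m : ℕ}
    {outs : List ℕ} (hq : ∀ c c0, Nat.xor (qf c0) (xq (Nat.xor c c0)) = qf c)
    (h1 : ∀ c, s1' c (Nat.land c m) (qf c) = true → s1 p c = true)
    (h2 : ∀ nx ce c, s2' nx ce c (Nat.land c m) (qf c) = true →
      ite' (Nat.beq (Nat.land 511 ce) 0) (bnot (Pre.allL (fun o => bnot (Nat.beq o (Nat.pred nx))) outs))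
        (s2 p c (Nat.land 511 ce)) = true) :
    ∀ k ce c0, runF s1' s2' xq p.r (msk p.r) m (Nat.shiftRight reps (Nat.mul p.r lo)) (Nat.succ lo) k ce
      (Nat.shiftRight (Nat.land 16777215 ce) 9) c0 (qf c0) = true → run p reps lo k outs ce = true
  | 0, _, _, _ => rfl
  | j + 1, ce, c0, h => by
    have e1 : run p reps lo (j + 1) outs ce = frc (Nat.add lo j) fun i =>
      frc (Nat.land (Nat.shiftRight reps (Nat.mul p.r i)) (msk p.r)) fun c =>
      ite' (Nat.beq (Nat.shiftRight (Nat.land ce 16777215) 9) (Nat.succ i))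
        (frc (Nat.land ce 511) fun w => band (ite' (Nat.beq w 0) (bnot (Pre.allL (fun o => bnot (Nat.beq o i)) outs))
          (s2 p c w)) (frc (Nat.shiftRight ce 24) (run p reps lo j outs)))
        (band (s1 p c) (run p reps lo j outs ce)) := rfl
    have e2 : ∀ r mr reps lo1 nx Q0, runF s1' s2' xq r mr m reps lo1 (j + 1) ce nx c0 Q0 =
      (fun c => ifB Nat.beq nx (Nat.add lo1 j) then
        (ifB s2' nx ce c (Nat.land c m) (Nat.xor Q0 (xq (Nat.xor c c0))) then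
          runF s1' s2' xq r mr m reps lo1 j (Nat.shiftRight ce 24)
            (Nat.shiftRight (Nat.land 16777215 (Nat.shiftRight ce 24)) 9) c (Nat.xor Q0 (xq (Nat.xor c c0))) else false)
        else ifB s1' c (Nat.land c m) (Nat.xor Q0 (xq (Nat.xor c c0))) then
          runF s1' s2' xq r mr m reps lo1 j ce nx c (Nat.xor Q0 (xq (Nat.xor c c0))) else false)
      (Nat.land mr (Nat.shiftRight reps (Nat.mul r j))) := fun _ _ _ _ _ _ => rfl
    have e3 : Nat.land (Nat.shiftRight reps (Nat.mul p.r (Nat.add lo j))) (msk p.r) =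
        Nat.land (msk p.r) (Nat.shiftRight (Nat.shiftRight reps (Nat.mul p.r lo)) (Nat.mul p.r j)) := by
      rw [lc, nmul, nadd, Nat.mul_add, nshr, Nat.shiftRight_add]
      rfl
    have e4 : Nat.add (Nat.succ lo) j = Nat.succ (Nat.add lo j) := Nat.succ_add lo j
    rw [e2, e4] at h
    rw [e1]
    simp only [frc_eq]
    rw [e3, lc ce, lc ce]
    generalize Nat.land (msk p.r) (Nat.shiftRight (Nat.shiftRight reps (Nat.mul p.r lo)) (Nat.mul p.r j)) = c at h ⊢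
    beta_reduce at h
    rw [hq] at h
    cases h3 : Nat.beq (Nat.shiftRight (Nat.land 16777215 ce) 9) (Nat.succ (Nat.add lo j))
    · rw [h3] at h
      obtain ⟨h4, h5⟩ := ifB_and h
      exact band_i (h1 c h4) (run_of hq h1 h2 j ce c h5)
    · rw [h3] at h
      obtain ⟨h4, h5⟩ := ifB_and h
      have h6 := h2 _ _ _ h4
      rw [Nat.eq_of_beq_eq_true h3] at h6
      exact band_i h6 (run_of hq h1 h2 j _ c h5)

theorem cov_in : ∀ U : List (ℕ × ℕ),
    @List.rec (ℕ × ℕ) (fun _ => Bool) true (fun u _ ih => @Prod.rec ℕ ℕ (fun _ => Bool) (fun a m =>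
      ifB (ifB Nat.ble (Nat.succ a) 128 then Nat.ble 1 m else false) then ih else false) u) U =
    Pre.allL (fun u => band (Nat.blt u.1 128) (Nat.blt 0 u.2)) U
  | [] => rfl
  | (a, m) :: U => congrArg (band (band (Nat.blt a 128) (Nat.blt 0 m))) (cov_in U)

theorem cov_out : ∀ C : List (ℕ × List (ℕ × ℕ)),
    @List.rec (ℕ × List (ℕ × ℕ)) (fun _ => Bool) true (fun d _ ih => @Prod.rec ℕ (List (ℕ × ℕ)) (fun _ => Bool) (fun v U =>
      ifB (ifB Nat.ble (Nat.succ v) 128 then ifB Nat.ble 1 v then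
        @List.rec (ℕ × ℕ) (fun _ => Bool) true (fun u _ ih => @Prod.rec ℕ ℕ (fun _ => Bool) (fun a m =>
          ifB (ifB Nat.ble (Nat.succ a) 128 then Nat.ble 1 m else false) then ih else false) u) U
        else false else false) then ih else false) d) C =
    Pre.allL (fun d => band (Nat.blt d.1 128) (band (Nat.blt 0 d.1)
      (Pre.allL (fun u => band (Nat.blt u.1 128) (Nat.blt 0 u.2)) d.2))) C
  | [] => rfl
  | (v, U) :: C => congrArg₂ (fun x y => band (band (Nat.blt v 128) (band (Nat.blt 0 v) x)) y) (cov_in U) (cov_out C)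

theorem covF_eq {p : Pre} (hp : Std p) : covF (Nat.land FF p.SQ) p.C = p.cover := by
  delta Pre.cover covF
  rw [frc_eq, hp.N, hp.sq0, cov_out]
  rfl

theorem chkI_eq (P : ℕ → ℕ) (r F2 O Lm O1 mr T PM PT NC0 ZP SQ rp lo k ce : ℕ) (outs : List ℕ)
    (C : List (ℕ × List (ℕ × ℕ))) (vis : ℕ → (Cd → Bool) → Bool) {p : Pre}
    (hp : p = ⟨7, r, 128, FF, 129, 16384, F2, O, Lm, O1, nat_lit 0x1ffffffffffffffffffffffffffffffff, nat_lit 0xfffffffffffffffffffffffffffffffe, T, NC0, ZP, SQ,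
      mkE 7 F2 16384 O1 (nat_lit 0x1fffffffffffffffffffffffffffffffe) PM (Nat.xor PM PT) r fun E => E, C⟩) :
    chkI P r F2 O Lm O1 mr T PM PT NC0 ZP SQ rp lo k ce outs C vis = ifB covF (Nat.land FF SQ) C then (
      runF (t1F P p (shA P SQ (Nat.land FF SQ)) vis (dat (da2 P (okT P r T ZP) O O1 SQ) O Lm) (ncF P NC0 (gE F2 PM PT) r)
          (Nat.land FF SQ))
        (t2F P p vis (dat (da2 P (okT P r T ZP) O O1 SQ) O Lm) (ncF P NC0 (gE F2 PM PT) r) outs (Nat.land FF SQ))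
        (xs P (gQ F2 O1 PM) r 33) r mr (mkm NC0 (gE F2 PM PT) r) (Nat.shiftRight rp (Nat.mul r lo)) (Nat.succ lo) k ce
        (Nat.shiftRight (Nat.land 16777215 ce) 9) 0 0) else false := by
  subst hp
  rfl

theorem t1F_eq (P : ℕ → ℕ) (p : Pre) (sh : ℕ → ℕ → ℕ → ℕ → Bool) (vis : ℕ → (Cd → Bool) → Bool) (dt : ℕ → Cd → Dt)
    (nc : ℕ → ℕ) (s0 c d Q : ℕ) : t1F P p sh vis dt nc s0 c d Q = allG P vis (dt (nc d)) Q (Nat.land s0 (Nat.xor FF Q))
      (alt P p sh false c (nc d) Q (Nat.land s0 (Nat.xor FF Q)) 1) := rfl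

theorem t2F_eq (P : ℕ → ℕ) (p : Pre) (vis : ℕ → (Cd → Bool) → Bool) (dt : ℕ → Cd → Dt) (nc : ℕ → ℕ) (outs : List ℕ)
    (s0 nx ce c d Q : ℕ) : t2F P p vis dt nc outs s0 nx ce c d Q =
    s2F P p vis dt outs s0 (Nat.pred nx) c (Nat.land 511 ce) (nc d) Q (Nat.land s0 (Nat.xor FF Q)) := rfl

theorem run_main {p : Pre} (hp : Std p) {vis : ℕ → (Cd → Bool) → Bool} (hv : Vis p p.C vis) {g g' : ℕ → ℕ}
    (hc : ∀ c (k : ℕ → ℕ → ℕ → Bool), p.conc c k = k (Nat.lor p.NC0 (xg g c p.r)) (xg g' c p.r)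
      (Nat.land (p.sq 0) (Nat.xor p.F (xg g' c p.r)))) {rp lo k ce : ℕ} {outs : List ℕ}
    (h : runF (t1F pop p (shA pop p.SQ (Nat.land FF p.SQ)) vis (dat (da2 pop (okT pop p.r p.T p.ZP) p.O p.O1 p.SQ) p.O p.Lm)
          (ncF pop p.NC0 g p.r) (Nat.land FF p.SQ))
        (t2F pop p vis (dat (da2 pop (okT pop p.r p.T p.ZP) p.O p.O1 p.SQ) p.O p.Lm) (ncF pop p.NC0 g p.r) outs
          (Nat.land FF p.SQ))
        (xs pop g' p.r 33) p.r (msk p.r) (mkm p.NC0 g p.r) (Nat.shiftRight rp (Nat.mul p.r lo)) (Nat.succ lo) k ce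
        (Nat.shiftRight (Nat.land 16777215 ce) 9) 0 0 = true) : run p rp lo k outs ce = true := by
  refine run_of (s1' := t1F pop p (shA pop p.SQ (Nat.land FF p.SQ)) vis
      (dat (da2 pop (okT pop p.r p.T p.ZP) p.O p.O1 p.SQ) p.O p.Lm) (ncF pop p.NC0 g p.r) (Nat.land FF p.SQ))
    (s2' := t2F pop p vis (dat (da2 pop (okT pop p.r p.T p.ZP) p.O p.O1 p.SQ) p.O p.Lm) (ncF pop p.NC0 g p.r) outs
      (Nat.land FF p.SQ)) (xq := xs pop g' p.r 33) (m := mkm p.NC0 g p.r) (qf := fun c => xg g' c p.r)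
    (fun c c0 => ?_) (fun c h1 => ?_) (fun nx ce c h1 => ?_) k ce 0 ?_
  · rw [xs_eq, nxor, ← xg_xor, nxor, Nat.xor_comm c, ← Nat.xor_assoc, Nat.xor_self, Nat.zero_xor]
  · delta s1
    rw [hc, hp.sq0, hp.F]
    rw [t1F_eq, ncF_eq] at h1
    refine allG_all hp hv (sh := shA pop p.SQ (Nat.land FF p.SQ)) (fun X Cz t h2 h3 => ?_) h1
    rw [shA_eq, ← hp.c2_one] at h3
    exact shB_shape hp _ h2 h3
  · rw [t2F_eq, ncF_eq] at h1
    rw [s2_eq, hc, hp.sq0, hp.F]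
    exact s2F_s2a (fun a => allF_all hp hv) h1
  · beta_reduce
    rw [xg_zero]
    exact h

theorem chkP_eq (P : ℕ → ℕ) (r F2 O Lm O1 mr T PM PT NC0 ZP SQ rp lo k ce : ℕ) (outs : List ℕ)
    (C : List (ℕ × List (ℕ × ℕ))) (vis : ℕ → (Cd → Bool) → Bool) :
    chkP P r rp lo k ce outs (Pr.mk F2 O Lm O1 mr T PM PT NC0 ZP SQ C vis) =
      chkI P r F2 O Lm O1 mr T PM PT NC0 ZP SQ rp lo k ce outs C vis := rfl

theorem chkI_ok {r O Lm O1 T PM PT NC0 ZP SQ rp lo k ce : ℕ} {outs : List ℕ} {C : List (ℕ × List (ℕ × ℕ))} {p : Pre}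
    (hp : p = ⟨7, r, 128, FF, 129, 16384, msk 16384, O, Lm, O1, nat_lit 0x1ffffffffffffffffffffffffffffffff, nat_lit 0xfffffffffffffffffffffffffffffffe, T, NC0, ZP, SQ,
      mkE 7 (msk 16384) 16384 O1 (nat_lit 0x1fffffffffffffffffffffffffffffffe) PM (Nat.xor PM PT) r fun E => E, C⟩)
    (h : chkP pop r rp lo k ce outs (mkV C (Pr.mk (msk 16384) O Lm O1 (msk r) T PM PT NC0 ZP SQ C)) = true) :
    band p.cover (frc rp fun reps => run p reps lo k outs ce) = true := by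
  have hs : Std p := by
    subst hp
    exact ⟨rfl, rfl, rfl, rfl, rfl, rfl⟩
  obtain ⟨vis, h3, h4⟩ := mkV_ex hs C
  rw [h3, chkP_eq, chkI_eq _ _ _ _ _ _ _ _ _ _ _ _ _ _ _ _ _ _ _ _ hp] at h
  obtain ⟨h1, h2⟩ := ifB_and h
  rw [frc_eq, ← covF_eq hs]
  have hc := @conc_eq Bool p 16384 7 O1 (nat_lit 0x1fffffffffffffffffffffffffffffffe) PM (Nat.xor PM PT) (gE (msk 16384) PM PT) (gQ (msk 16384) O1 PM)
    (by rw [hp]) (by rw [hp]) (by rw [hp]) (fun i => by rw [plane_xor, ← plF_eq, ← plF_eq]; rfl)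
    (fun i => by rw [← plF_eq, ← dgF_eq]; rfl)
  subst hp
  exact band_i h1 (run_main hs h4 hc h2)

/-! ### proofs: the data of a base -/

theorem or7_eq (g : ℕ → ℕ) : or7 (g 0) (g 1) (g 2) (g 3) (g 4) (g 5) (g 6) =
    @Nat.rec (fun _ => ℕ) 0 (fun i A => Nat.lor A (g i)) 7 := by
  show (g 0 ||| g 1 ||| (g 2 ||| g 3)) ||| (g 4 ||| g 5 ||| g 6) =
    0 ||| g 0 ||| g 1 ||| g 2 ||| g 3 ||| g 4 ||| g 5 ||| g 6
  rw [Nat.zero_or]
  ac_rfl

theorem add7_eq (g : ℕ → ℕ) : Nat.add (Nat.add (Nat.add (Nat.add (Nat.add (Nat.add (g 0) (g 1)) (g 2)) (g 3)) (g 4))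
    (g 5)) (g 6) = @Nat.rec (fun _ => ℕ) 0 (fun i A => Nat.add A (g i)) 7 := by
  show g 0 + g 1 + g 2 + g 3 + g 4 + g 5 + g 6 = 0 + g 0 + g 1 + g 2 + g 3 + g 4 + g 5 + g 6
  rw [Nat.zero_add]

theorem orPl_eq (F2 X r : ℕ) : orPl 7 F2 X r 7 = or7 (plane 7 F2 X (Nat.add r 0)) (plane 7 F2 X (Nat.add r 1)) (plane 7 F2 X (Nat.add r 2))
    (plane 7 F2 X (Nat.add r 3)) (plane 7 F2 X (Nat.add r 4)) (plane 7 F2 X (Nat.add r 5))
    (plane 7 F2 X (Nat.add r 6)) :=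
  (or7_eq fun i => plane 7 F2 X (Nat.add r i)).symm

theorem diags_eq (F2 O1 X r : ℕ) : diags 7 F2 O1 (nat_lit 0x1fffffffffffffffffffffffffffffffe) X r 7 =
    dg7 O1 (plane 7 F2 X (Nat.add r 0)) (plane 7 F2 X (Nat.add r 1)) (plane 7 F2 X (Nat.add r 2))
    (plane 7 F2 X (Nat.add r 3)) (plane 7 F2 X (Nat.add r 4)) (plane 7 F2 X (Nat.add r 5))
    (plane 7 F2 X (Nat.add r 6)) := by
  have h : ∀ (S : ℕ → ℕ → ℕ) (g : ℕ → ℕ), (∀ x, S x (Nat.shiftLeft 0 7) = x) →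
      @Nat.rec (fun _ => ℕ) 0 (fun i A => Nat.add A (S (g i) (Nat.shiftLeft i 7))) 7 =
      Nat.add (Nat.add (Nat.add (Nat.add (Nat.add (Nat.add (g 0) (S (g 1) 128)) (S (g 2) 256)) (S (g 3) 384))
        (S (g 4) 512)) (S (g 5) 640)) (S (g 6) 768) := fun S g h => by
    rw [← add7_eq fun i => S (g i) (Nat.shiftLeft i 7), h]
    rfl
  delta dg7 diags
  simp only [dgF_eq]
  exact h Nat.shiftLeft (fun i => diag O1 _ (plane 7 F2 X (Nat.add r i))) fun _ => rfl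

theorem cjm_eq (F2 X Y r : ℕ) : cjm 7 FF F2 X Y r =
    cj7 (plane 7 F2 X (Nat.add r 0)) (plane 7 F2 X (Nat.add r 1)) (plane 7 F2 X (Nat.add r 2))
    (plane 7 F2 X (Nat.add r 3)) (plane 7 F2 X (Nat.add r 4)) (plane 7 F2 X (Nat.add r 5))
    (plane 7 F2 X (Nat.add r 6))
    (plane 7 F2 Y (Nat.add r 0)) (plane 7 F2 Y (Nat.add r 1)) (plane 7 F2 Y (Nat.add r 2))
    (plane 7 F2 Y (Nat.add r 3)) (plane 7 F2 Y (Nat.add r 4)) (plane 7 F2 Y (Nat.add r 5))
    (plane 7 F2 Y (Nat.add r 6)) := by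
  funext v u
  delta cjm
  simp only [row_eq]
  exact congrArg (Nat.xor FF) (or7_eq fun i => Nat.xor rowF(plane 7 F2 X (Nat.add r i), v)
    rowF(plane 7 F2 Y (Nat.add r i), u)).symm

theorem preH_eq (pl sq : ℕ → ℕ → ℕ → ℕ) (d7 : ℕ → ℕ → ℕ → ℕ → ℕ → ℕ → ℕ → ℕ → ℕ)
    (cd r F2 O Lm O1 mr T PM PT : ℕ) {a b : ℕ → ℕ}
    (ha : ∀ i, pl F2 PM i = a i) (hb : ∀ i, pl F2 PT i = b i) :
    preH pl sq d7 cd r F2 O Lm O1 mr T PM PT =
    mkCF (cj7 (a (Nat.add r 0)) (a (Nat.add r 1)) (a (Nat.add r 2)) (a (Nat.add r 3)) (a (Nat.add r 4)) (a (Nat.add r 5)) (a (Nat.add r 6))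
      (b (Nat.add r 0)) (b (Nat.add r 1)) (b (Nat.add r 2)) (b (Nat.add r 3)) (b (Nat.add r 4)) (b (Nat.add r 5)) (b (Nat.add r 6))) (decF 128 cd []) fun C =>
    mkV C (Pr.mk F2 O Lm O1 mr T PM PT
      (or7 (Nat.xor (a (Nat.add r 0)) (b (Nat.add r 0)))
        (Nat.xor (a (Nat.add r 1)) (b (Nat.add r 1)))
        (Nat.xor (a (Nat.add r 2)) (b (Nat.add r 2)))
        (Nat.xor (a (Nat.add r 3)) (b (Nat.add r 3)))
        (Nat.xor (a (Nat.add r 4)) (b (Nat.add r 4)))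
        (Nat.xor (a (Nat.add r 5)) (b (Nat.add r 5)))
        (Nat.xor (a (Nat.add r 6)) (b (Nat.add r 6))))
      (Nat.xor F2 (or7 (a (Nat.add r 0)) (a (Nat.add r 1)) (a (Nat.add r 2)) (a (Nat.add r 3)) (a (Nat.add r 4)) (a (Nat.add r 5)) (a (Nat.add r 6))))
      (sq (d7 O1 (a (Nat.add r 0)) (a (Nat.add r 1)) (a (Nat.add r 2)) (a (Nat.add r 3)) (a (Nat.add r 4)) (a (Nat.add r 5)) (a (Nat.add r 6))) 7 FF) C) := by
  obtain rfl : pl F2 PM = a := funext ha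
  obtain rfl : pl F2 PT = b := funext hb
  rfl

theorem pre_eq {α : Type} (r w R : ℕ) (cs : List (ℕ × List ℕ)) (k : Pre → α) {T PM PT : ℕ}
    (h1 : tab r 7 32 (repack w R 28) = T) (h2 : swps 19 5 14 T = PM) (h3 : swps 19 7 7 PM = PT) :
    pre 7 r w R cs k = mkC (cjm 7 FF (msk 16384) PM PT r) cs fun C =>
      k ⟨7, r, 128, FF, 129, 16384, msk 16384, ones 128 7, Nat.mul (msk 127) (ones 128 7), ones 129 7,
        nat_lit 0x1ffffffffffffffffffffffffffffffff, nat_lit 0xfffffffffffffffffffffffffffffffe, T, orPl 7 (msk 16384) (Nat.xor PM PT) r 7,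
        Nat.xor (msk 16384) (orPl 7 (msk 16384) PM r 7),
        sqt 7 FF 129 (diags 7 (msk 16384) (ones 129 7) (nat_lit 0x1fffffffffffffffffffffffffffffffe) PM r 7) 7 FF,
        mkE 7 (msk 16384) 16384 (ones 129 7) (nat_lit 0x1fffffffffffffffffffffffffffffffe) PM (Nat.xor PM PT) r fun E => E, C⟩ := by
  have e1 : Nat.shiftLeft 1 7 = 128 := rfl
  have e2 : msk 128 = FF := by decide +kernel
  have e3 : Nat.succ 128 = 129 := rfl
  have e4 : Nat.shiftLeft 128 7 = 16384 := rfl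
  have e5 : Nat.pred 128 = 127 := rfl
  have e6 : msk 129 = nat_lit 0x1ffffffffffffffffffffffffffffffff := by decide +kernel
  have e7 : Nat.pred FF = nat_lit 0xfffffffffffffffffffffffffffffffe := by decide +kernel
  have e8 : Nat.pred (nat_lit 0x1ffffffffffffffffffffffffffffffff) = nat_lit 0x1fffffffffffffffffffffffffffffffe := by decide +kernel
  have e9 : tri 7 0 = 28 := rfl
  have e10 : Nat.add 7 7 = 14 := rfl
  have e11 : Nat.add 14 5 = 19 := rfl
  delta pre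
  simp only [frc_eq]
  rw [e1, e2, e3, e4, e5, e6, e7, e8, e9, e10, e11, h1, h2, h3, mkE_eq, mkE_eq]

theorem preG_eq (rp : ℕ → ℕ → ℕ → ℕ) (tf : ℕ → ℕ → ℕ → ℕ → ℕ) (s5 s7 : ℕ → ℕ)
    (H : ℕ → ℕ → ℕ → ℕ → ℕ → ℕ → ℕ → ℕ → ℕ → Pr) (r w R : ℕ) : preG rp tf s5 s7 H r w R =
    H r (msk 16384) (ones 128 7) (Nat.mul (msk 127) (ones 128 7)) (ones 129 7) (msk r)
      (tf r (msk r) (rp w R 28) 7) (s5 (tf r (msk r) (rp w R 28) 7)) (s7 (s5 (tf r (msk r) (rp w R 28) 7))) := rfl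

theorem pp_eq (h : ℕ) : pp h = pop := funext fun _ => rfl

theorem chk_of {B : Base} {cd lo k ce : ℕ} {outs : List ℕ} (h : chkF B cd lo k ce outs = true) :
    chk 7 B cd lo k ce outs = true := by
  obtain ⟨h1, h2⟩ : Nat.ble B.w 32 = true ∧
    chkP (pp (Nat.mod B.rel 4294967291)) B.r B.reps lo k ce outs (preF B.r B.w B.rel cd) = true := ifB_and h
  rw [pp_eq] at h2
  delta preF at h2
  rw [preG_eq, tabF_eq, ← swK5_eq, ← swK7_eq] at h2
  delta chk
  refine band_i h1 (band_i rfl (band_i rfl ?_))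
  rw [pre_eq _ _ _ _ _ rfl rfl rfl]
  generalize tab B.r 7 32 (repack B.w B.rel 28) = T at h2 ⊢
  generalize swps 19 5 14 T = PM at h2 ⊢
  generalize swps 19 7 7 PM = PT at h2 ⊢
  rw [preH_eq _ _ _ _ _ _ _ _ _ _ _ _ _ (plF_eq PM) (plF_eq PT), ← cjm_eq, decF_eq, ← orPl_eq, ← diags_eq,
    sqF_eq] at h2
  simp only [← plane_xor] at h2
  rw [← orPl_eq, mkCF_eq, mkC_k] at h2
  rw [mkC_k]
  exact chkI_ok rfl h2

theorem seg_of {SS : List (List Base)} {B : Base} {cd lo k ce : ℕ} {ics : List (ℕ × Ic)}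
    (h : segF SS B cd lo k ce ics = true) : seg 7 SS B cd lo k ce ics = true := by
  obtain ⟨h1, h2⟩ := Gen.band_spec h
  delta seg
  rw [chk_of h1]
  exact h2

theorem look_mono {α : Type} {p q : α → Bool} (h : ∀ a, p a = true → q a = true) :
    ∀ (L : List α) (k : ℕ), look p L k = true → look q L k = true
  | [], _, h1 => h1
  | a :: _, 0, h1 => h a h1
  | _ :: L, k + 1, h1 => look_mono h L k h1

theorem gallL_mono {α : Type} {f g : α → Bool} (h : ∀ a, f a = true → g a = true) :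
    ∀ L : List α, Gen.allL f L = true → Gen.allL g L = true
  | [], _ => rfl
  | a :: L, h1 => band_i (h a (band_e h1).1) (gallL_mono h L (band_e h1).2)

theorem jobs_of {SS : List (List Base)} {l : List Base} {Js : List Job} (h : jobsF SS l Js = true) :
    jobs 7 SS l Js = true := by
  delta jobsF at h
  delta jobs
  refine gallL_mono (fun J h1 => ?_) Js h
  refine look_mono (fun B h2 => ?_) l J.j h1
  exact seg_of h2

theorem hd {SS : List (List Base)} {l : List Base} {Js : List Job} {L : List (List Job)}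
    (h : Gen.allL (jobsF SS l) (Js :: L) = true) : jobs 7 SS l Js = true := jobs_of (band_e h).1

theorem tl {α : Type} {f : α → Bool} {a : α} {L : List α} (h : Gen.allL f (a :: L) = true) : Gen.allL f L = true :=
  (band_e h).2

/-! ### one kernel run for every segment (after helper38) -/

def Ok (SS : List (List Base)) (l : List Base) (Js : List Job) : Prop :=
  ∀ J ∈ Js, look (fun B => seg 7 SS B J.cd J.lo J.k J.ce J.ics) l J.j = true

theorem c0 {SS : List (List Base)} {l : List Base} : Ok SS l [] := List.forall_mem_nil _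

noncomputable def segL (SS : List (List Base)) (l : List Base) (j lo k cd ce : ℕ) (ics : List (ℕ × Ic)) : Bool :=
  look (fun B => segF SS B cd lo k ce ics) l j

theorem e {SS : List (List Base)} {l : List Base} {Ks : List Job} (j lo k cd ce : ℕ) (ics : List (ℕ × Ic))
    (h : segL SS l j lo k cd ce ics = true) (h2 : Ok SS l Ks) : Ok SS l (⟨j, cd, lo, k, ce, ics⟩ :: Ks) :=
  List.forall_mem_cons.2 ⟨look_mono (fun _ => seg_of) l j h, h2⟩

/-- checked segments -/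
def Pt (SS : List (List Base)) (l : List Base) : Type := {Js : List Job // Ok SS l Js}

theorem ap {SS : List (List Base)} {l : List Base} (p : Pt SS l) {Ks : List Job} (h : Ok SS l Ks) : Ok SS l (p.1 ++ Ks) :=
  fun J hJ => (List.mem_append.1 hJ).elim (p.2 J) (h J)

theorem dn {SS : List (List Base)} {l : List Base} {Js : List Job} (h : Ok SS l Js) (hc : cov l Js = true) : Dn 7 SS l :=
  dn_of h hc

end Cfsg.Agent.FS.Sw.F7
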