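import Cfsg.Agent.FS.Gen.K6_m3
import Cfsg.Agent.Prune
set_option linter.all false
prune_inst 0x7f00000000000000000000000000000000000000000000000000000000000000000000000000000000000000000000000000000000000000000000000000000000000000000000000000000000000000003fffffffffffffffffffffffffffbeffbdffffffff
open scoped Cfsg.Agent.FastGrp

/-!
# The filter on pairs, faster (helper41)

The data of a class depend only on the commutation plane, which takes few values; they are values of an inductive type,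
so that the kernel computes them once.  `jobs_of : jobsF n SS l Js = true → jobs n SS l Js = true`.
-/

set_option autoImplicit false

namespace Cfsg.Agent.FS.Sw

open Cfsg.Agent.FS.Pc
open Gen (Ic isoK look)

namespace Fx

local notation "fB " v:max " := " x "; " b => @Nat.rec (fun _ => Bool) false (fun v _ => b) (Nat.succ x)
local notation "ifB " c " then " a " else " b => @Bool.rec (fun _ => Bool) b a c

/-- the data of a class which depend only on the commutation plane -/
inductive Dt : Type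
  | a (Cz rt X t : ℕ) (ok : Bool) (d : ℕ × List (ℕ × ℕ)) : Dt
  | b (Cz rt X t : ℕ) (ok : Bool) (d : ℕ × List (ℕ × ℕ)) : Dt
  | c (d : ℕ × List (ℕ × ℕ)) : Dt

/-- the data which depend only on the centralizer and its normalizer -/
inductive D2 : Type
  | a (X t : ℕ) (ok : Bool) : D2
  | b (X t : ℕ) (ok : Bool) : D2
  | z : D2

/-- the classes which are not central, with their data -/
inductive LL : Type
  | nil : LL
  | cons (vb : ℕ) (e : Dt) (tl : LL) : LL

noncomputable def okG (p : Pre) (t z : ℕ) : Bool :=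
  fB i2 := Nat.shiftLeft z 1; band (Nat.blt i2 (Nat.add p.N p.N))
    (Nat.beq (Nat.shiftRight (Nat.land (Nat.shiftRight p.T (Nat.shiftLeft (Nat.add
      (Nat.shiftLeft (Nat.shiftRight (Nat.shiftLeft t 1) 1) p.n) (Nat.shiftRight i2 1)) 5)) 4294967295) p.r) 0)

noncomputable def okT (p : Pre) (t : ℕ) : Bool := okG p t (ctz (row p.n p.F p.ZP t))

noncomputable def sel (b : Bool) (X t : ℕ) (ok : Bool) : D2 := @Bool.rec (fun _ => D2) (D2.b X t ok) (D2.a X t ok) b

noncomputable def daG (cz sq : ℕ → ℕ) (lt : ℕ → ℕ → Bool) (ok : ℕ → Bool) (F rw Nm : ℕ) : D2 :=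
  @Nat.rec (fun _ => D2) D2.z (fun X _ => @Nat.rec (fun _ => D2) D2.z (fun R _ => ite' (Nat.beq R 0) D2.z
    (@Nat.rec (fun _ => D2) D2.z (fun t _ => sel (lt X Nm) X t (ok t))
      (Nat.succ (cz R)))) (Nat.succ (Nat.land (Nat.land Nm rw) (sq X)))) (Nat.succ (Nat.xor F rw))

def plt (X Nm : ℕ) : Bool := Nat.blt (Nat.shiftLeft (pop X) 1) (pop Nm)

noncomputable def da2 (p : Pre) (rw Nm : ℕ) : D2 := daG ctz p.sqin plt (okT p) p.F rw Nm

noncomputable def dat2 (p : Pre) (NC : ℕ) (d : ℕ × List (ℕ × ℕ)) (e : D2) : Dt :=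
  @D2.rec (fun _ => Dt)
    (fun X t ok => @Nat.rec (fun _ => Dt) (Dt.c d) (fun rt _ => @Nat.rec (fun _ => Dt) (Dt.c d)
      (fun Cz _ => Dt.a Cz rt X t ok d) (Nat.succ (Nat.xor p.F (p.nz NC X)))) (Nat.succ (row p.n p.F NC t)))
    (fun X t ok => @Nat.rec (fun _ => Dt) (Dt.c d) (fun rt _ => @Nat.rec (fun _ => Dt) (Dt.c d)
      (fun Cz _ => Dt.b Cz rt X t ok d) (Nat.succ (Nat.xor p.F (p.nz NC X)))) (Nat.succ (row p.n p.F NC t)))
    (Dt.c d) e

noncomputable def dat (p : Pre) (NC rw : ℕ) (d : ℕ × List (ℕ × ℕ)) : Dt :=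
  @Nat.rec (fun _ => Dt) (Dt.c d) (fun Nm _ => dat2 p NC d (da2 p rw Nm)) (Nat.succ (p.orN NC rw d.2))

noncomputable def lst (p : Pre) (NC : ℕ) (C : List (ℕ × List (ℕ × ℕ))) : LL → LL :=
  @List.rec (ℕ × List (ℕ × ℕ)) (fun _ => LL → LL) (fun A => A) (fun d _ ih A =>
    @Nat.rec (fun _ => LL) LL.nil (fun rw _ => @Bool.rec (fun _ => LL)
      (@Nat.rec (fun _ => LL) LL.nil (fun vb _ => ih (LL.cons vb (dat p NC rw d) A)) (Nat.succ (Nat.shiftLeft 1 d.1)))
      (ih A) (Nat.beq rw 0)) (Nat.succ (row p.n p.F NC d.1))) C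

def tst (rt V : ℕ) : Bool := Nat.beq (Nat.shiftLeft (pop (Nat.land V rt)) 1) (pop V)

noncomputable def df2 (a b p1 : ℕ) : Bool := ifB Nat.beq a p1 then false else ifB Nat.beq b p1 then false else true

noncomputable def df (S S1 p1 : ℕ) : Bool := df2 (pop S1) (pop (Nat.xor S S1)) p1

/-- all bits of `M` have the property `g` -/
noncomputable def allM (nx : ℕ → ℕ) (g : ℕ → Bool) (fuel : ℕ) : ℕ → Bool :=
  @Nat.rec (fun _ => ℕ → Bool) (fun _ => false) (fun _ ih M => ifB Nat.beq M 0 then true else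
    fB x := nx M; ifB g x then (fB M' := Nat.xor M (Nat.shiftLeft 1 x); ih M') else false) fuel

noncomputable def shx (p : Pre) (X QX p1 x : ℕ) : Bool := fB S := Nat.land X (p.sq x); fB S1 := Nat.land S QX; df S S1 p1

/-- no element over the bits of `M` has the colour `p1` -/
noncomputable def sh1 (p : Pre) (X QX p1 M : ℕ) : Bool := allM ctz (shx p X QX p1) p.N1 M

noncomputable def sh0 (p : Pre) (Q z V rt X : ℕ) : Bool :=
  fB QX := Nat.land X Q; fB M := Nat.land V rt; fB p1 := z; sh1 p X QX p1 M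

noncomputable def alt (p : Pre) (lev : Bool) (c NC Q I w V rt X : ℕ) (ok : Bool) (d : ℕ × List (ℕ × ℕ)) : Bool :=
  bor (band ok (sh0 p Q (p.c2 Q X w) V rt X)) (p.cls lev c NC Q I w d)

noncomputable def visG (I : ℕ) (ts : ℕ → ℕ → Bool) (al : ℕ → ℕ → ℕ → Bool → ℕ × List (ℕ × ℕ) → Bool)
    (cl : ℕ × List (ℕ × ℕ) → Bool) (e : Dt) : Bool :=
  @Dt.rec (fun _ => Bool)
    (fun Cz rt X _ ok d => fB V := Nat.land I Cz; ifB ts rt V then true else al V rt X ok d)
    (fun Cz rt X _ ok d => fB V := Nat.land I Cz; al V rt X ok d) cl e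

noncomputable def foldG (Q : ℕ) (v : Dt → Bool) (L : LL) : Bool :=
  @LL.rec (fun _ => Bool) true (fun vb e _ ih => ifB Nat.beq (Nat.land vb Q) 0 then
    (ifB v e then ih else false) else ih) L

noncomputable def vis (p : Pre) (lev : Bool) (c NC Q I w : ℕ) : Dt → Bool :=
  visG I tst (alt p lev c NC Q I w) (p.cls lev c NC Q I w)

noncomputable def fold (p : Pre) (lev : Bool) (c NC Q I w : ℕ) (L : LL) : Bool :=
  foldG Q (visG I tst (alt p lev c NC Q I w) (p.cls lev c NC Q I w)) L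

noncomputable def s2F (p : Pre) (ls : ℕ → LL) (c NC Q I w : ℕ) : Bool :=
  frc (p.cen NC I) fun W => band (Nat.blt 0 w) (band (tb W (Nat.shiftRight w 1))
    (Pre.colM (fun a => band (Nat.blt 0 a) (p.same true NC Q p.F a w)) false
      (fun L => ite' (Pre.short L) (fold p true c NC Q I w (ls NC))
        (Pre.allL (fun a => fold p true c NC Q I a (ls NC)) L)) p.N1 W []))

/-- the bits `i` such that the plane is not inside `NC0` -/
noncomputable def mkm (NC0 F2 : ℕ) (L : List ℕ) : ℕ → ℕ :=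
  @List.rec ℕ (fun _ => ℕ → ℕ) (fun _ => 0) (fun e _ ih i => @Nat.rec (fun _ => ℕ) 0 (fun i _ =>
    @Bool.rec (fun _ => ℕ) (Nat.lor (Nat.shiftLeft 1 i) (ih i)) (ih i) (Nat.beq (Nat.lor NC0 (Nat.land e F2)) NC0)) i) L

noncomputable def okm (NC0 F2 m : ℕ) (L : List ℕ) : ℕ → Bool :=
  @List.rec ℕ (fun _ => ℕ → Bool) (fun _ => true) (fun e _ ih i => @Nat.rec (fun _ => Bool) true (fun i _ =>
    ifB (ifB tb m i then true else Nat.beq (Nat.lor NC0 (Nat.land e F2)) NC0) then ih i else false) i) L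

noncomputable def mkQ (N2 : ℕ) (L : List ℕ) : (List ℕ → Bool) → Bool :=
  @List.rec ℕ (fun _ => (List ℕ → Bool) → Bool) (fun k => k [])
    (fun e _ ih k => fB q := Nat.shiftRight e N2; ih fun M => k (q :: M)) L

noncomputable def ncF (p : Pre) (d : ℕ) : ℕ := Nat.lor p.NC0 (Nat.land (xorL p.E d p.r 0) p.F2)

noncomputable def xq (QL : List ℕ) (r c : ℕ) : ℕ := xorL QL c r 0

noncomputable def runF (p : Pre) (ls : ℕ → LL) (nc xq : ℕ → ℕ) (r mr m F s0 reps lo k : ℕ) (outs : List ℕ) : ℕ → Bool :=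
  @Nat.rec (fun _ => ℕ → Bool) (fun _ => true) (fun j ih ce => fB i := Nat.add lo j;
    fB c := Nat.land (Nat.shiftRight reps (Nat.mul r i)) mr; fB d := Nat.land c m;
    fB c0 := Nat.land c 15; fB c1 := Nat.land c 240; fB c2 := Nat.xor c (Nat.xor c0 c1);
    fB Q := Nat.xor (xq c2) (Nat.xor (xq c0) (xq c1)); fB I := Nat.land s0 (Nat.xor F Q);
    ifB Nat.beq (Nat.shiftRight (Nat.land ce 16777215) 9) (Nat.succ i) then
      (fB w := Nat.land ce 511;
        ifB (ifB Nat.beq w 0 then bnot (Pre.allL (fun o => bnot (Nat.beq o i)) outs) else s2F p ls c (nc d) Q I w)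
        then (fB ce' := Nat.shiftRight ce 24; ih ce') else false)
    else ifB fold p false c (nc d) Q I 1 (ls (nc d)) then ih ce else false) k

noncomputable def lsF (p : Pre) (NC : ℕ) : LL := lst p NC p.C LL.nil

noncomputable def topF (p : Pre) (reps lo k : ℕ) (outs : List ℕ) (ce : ℕ) : Bool :=
  ifB p.cover then ifB Nat.ble 1 p.N then
    fB r := p.r; fB mr := msk r; fB F := p.F; fB s0 := p.sq 0; fB m := mkm p.NC0 p.F2 p.E r;
    ifB okm p.NC0 p.F2 m p.E r then
      mkQ p.N2 p.E fun QL => runF p (lsF p) (ncF p) (xq QL r) r mr m F s0 reps lo k outs ce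
    else false
  else false else false

noncomputable def preP (n r w R cd : ℕ) : Pre := pre n r w R (dec 128 cd []) fun p => p

noncomputable def chkF (n : ℕ) (B : Base) (cd lo k ce : ℕ) (outs : List ℕ) : Bool :=
  ifB Nat.ble B.w 32 then ifB Nat.ble n 7 then ifB Nat.ble 1 n then
    fB r := B.r; fB w := B.w; fB R := B.rel; fB cd := cd; fB reps := B.reps; fB lo := lo; fB ce := ce;
    @Pre.rec (fun _ => Bool) (fun n r N F N1 N2 F2 O Lm O1 m1 m2 T NC0 ZP SQ E C =>
      topF ⟨n, r, N, F, N1, N2, F2, O, Lm, O1, m1, m2, T, NC0, ZP, SQ, E, C⟩ reps lo k outs ce) (preP n r w R cd)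
  else false else false else false

noncomputable def segF (n : ℕ) (SS : List (List Base)) (B : Base) (cd lo k ce : ℕ) (ics : List (ℕ × Ic)) : Bool :=
  Gen.band (chkF n B cd lo k ce (ics.map Prod.fst)) (List.rec (motive := fun _ => Bool) true (fun _ _ _ =>
    isoK n SS B.r B.w B.rel fun ck => Gen.allL (fun p => Gen.frc (Gen.gt B.r B.reps p.1) fun c => ck c p.2) ics) ics)

noncomputable def jobsF (n : ℕ) (SS : List (List Base)) (l : List Base) (Js : List Job) : Bool :=
  Gen.allL (fun J => look (fun B => segF n SS B J.cd J.lo J.k J.ce J.ics) l J.j) Js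

theorem tb_eq (X i : ℕ) : tb X i = X.testBit i := by
  show Nat.beq ((X >>> i) &&& 1) 1 = _
  rw [Nat.and_one_is_mod, Nat.testBit_eq_decide_div_mod_eq, Nat.shiftRight_eq_div_pow]
  rcases Nat.mod_two_eq_zero_or_one (X / 2 ^ i) with h | h <;> rw [h] <;> rfl

theorem xorL_succ (e : ℕ) (L : List ℕ) (c i A : ℕ) :
    xorL (e :: L) c (i + 1) A = xorL L c i (bif c.testBit i then A ^^^ e else A) := by
  show ite' (tb c i) (frc (Nat.xor A e) (xorL L c i)) (xorL L c i A) = _
  rw [tb_eq, frc_eq]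
  cases c.testBit i <;> rfl

theorem xorL_lin (c c' : ℕ) : ∀ (L : List ℕ) (i A A' : ℕ),
    xorL L (c ^^^ c') i (A ^^^ A') = xorL L c i A ^^^ xorL L c' i A'
  | [], _, _, _ => rfl
  | _ :: _, 0, _, _ => rfl
  | e :: L, i + 1, A, A' => by
    rw [xorL_succ, xorL_succ, xorL_succ, ← xorL_lin c c' L i, Nat.testBit_xor]
    congr 1
    cases c.testBit i <;> cases c'.testBit i
    · rfl
    · exact Nat.xor_assoc _ _ _
    · show A ^^^ A' ^^^ e = A ^^^ e ^^^ A'
      rw [Nat.xor_assoc, Nat.xor_comm A', Nat.xor_assoc]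
    · show A ^^^ A' = A ^^^ e ^^^ (A' ^^^ e)
      rw [Nat.xor_comm A' e, Nat.xor_assoc, ← Nat.xor_assoc e, Nat.xor_self, Nat.zero_xor]

theorem xorL_shr (c s : ℕ) : ∀ (L : List ℕ) (i A : ℕ),
    xorL L c i A >>> s = xorL (L.map fun e => Nat.shiftRight e s) c i (A >>> s)
  | [], _, _ => rfl
  | _ :: _, 0, _ => rfl
  | e :: L, i + 1, A => by
    rw [List.map_cons, xorL_succ, xorL_succ, xorL_shr c s L i]
    congr 1
    cases c.testBit i
    · rfl
    · exact Nat.shiftRight_xor_distrib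

theorem mkQ_eq (s : ℕ) : ∀ (L : List ℕ) (k : List ℕ → Bool), mkQ s L k = k (L.map fun e => Nat.shiftRight e s)
  | [], _ => rfl
  | e :: L, k => mkQ_eq s L fun M => k (Nat.shiftRight e s :: M)

theorem xorL_mask {Z G m : ℕ} (c : ℕ) : ∀ (L : List ℕ) (i A A' : ℕ), okm Z G m L i = true →
    Z ||| (A &&& G) = Z ||| (A' &&& G) → Z ||| (xorL L c i A &&& G) = Z ||| (xorL L (c &&& m) i A' &&& G)
  | [], _, _, _, _, h => h
  | _ :: _, 0, _, _, _, h => h
  | e :: L, i + 1, A, A', ho, h => by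
    have h1 : (ifB (ifB tb m i then true else Nat.beq (Z ||| (e &&& G)) Z) then okm Z G m L i else false) = true := ho
    rw [tb_eq] at h1
    rw [xorL_succ, xorL_succ, Nat.testBit_and]
    have hb : ∀ j, (Z.testBit j || (A.testBit j && G.testBit j)) = (Z.testBit j || (A'.testBit j && G.testBit j)) :=
      fun j => by rw [← Nat.testBit_and, ← Nat.testBit_and, ← Nat.testBit_or, ← Nat.testBit_or, h]
    cases hm : m.testBit i
    · rw [hm] at h1
      cases h2 : Nat.beq (Z ||| (e &&& G)) Z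
      · rw [h2] at h1
        cases h1
      · rw [h2] at h1
        refine xorL_mask c L i _ _ h1 ?_
        cases c.testBit i
        · exact h
        · show Z ||| ((A ^^^ e) &&& G) = Z ||| (A' &&& G)
          refine Nat.eq_of_testBit_eq fun j => ?_
          have h3 : (Z.testBit j || (e.testBit j && G.testBit j)) = Z.testBit j := by
            rw [← Nat.testBit_and, ← Nat.testBit_or, Nat.eq_of_beq_eq_true h2]
          have h4 := hb j
          rw [Nat.testBit_or, Nat.testBit_or, Nat.testBit_and, Nat.testBit_and, Nat.testBit_xor]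
          revert h3 h4
          cases Z.testBit j <;> cases A.testBit j <;> cases A'.testBit j <;> cases e.testBit j <;> cases G.testBit j <;> decide
    · rw [hm] at h1
      refine xorL_mask c L i _ _ h1 ?_
      cases c.testBit i
      · exact h
      · show Z ||| ((A ^^^ e) &&& G) = Z ||| ((A' ^^^ e) &&& G)
        refine Nat.eq_of_testBit_eq fun j => ?_
        have h4 := hb j
        rw [Nat.testBit_or, Nat.testBit_or, Nat.testBit_and, Nat.testBit_and, Nat.testBit_xor, Nat.testBit_xor]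
        revert h4
        cases Z.testBit j <;> cases A.testBit j <;> cases A'.testBit j <;> cases e.testBit j <;> cases G.testBit j <;> decide

theorem cls_eq (p : Pre) (lev : Bool) (c NC Q I w : ℕ) (d : ℕ × List (ℕ × ℕ)) : p.cls lev c NC Q I w d =
    (fun rw => (fun X Nm => (fun V R => bor (tb Q d.1) (bor (Nat.beq rw 0)
      (bor (band (plt X Nm)
          (Pre.anyM (fun t => tst (row p.n p.F NC t) V) p.N R))
        (bor (band lev (band (Nat.ble (Nat.shiftLeft (pop X) 3) (pop Nm)) (Nat.ble (pop V) 16)))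
          (band (Nat.blt 0 R) (p.shape lev c NC Q w X V (pop V) (ctz R)))))))
      (Nat.land I (Nat.xor p.F (p.nz NC X))) (Nat.land (Nat.land Nm rw) (p.sqin X)))
      (Nat.xor p.F rw) (p.orN NC rw d.2)) (row p.n p.F NC d.1) := by
  delta Pre.cls
  simp only [frc_eq]
  rfl

theorem bor_r (a : Bool) {b : Bool} (h : b = true) : bor a b = true := by
  cases a
  · exact h
  · rfl

theorem bor_l {a : Bool} (b : Bool) (h : a = true) : bor a b = true := by
  rw [h]
  rfl

theorem band_of {a b : Bool} (h : a = true) (h' : b = true) : band a b = true := by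
  rw [h, h']
  rfl

theorem if_and {a b : Bool} (h : (ifB a then b else false) = true) : a = true ∧ b = true := by
  cases a
  · cases h
  · exact ⟨rfl, h⟩

theorem if_or {a b : Bool} (h : (ifB a then true else b) = true) : a = true ∨ b = true := by
  cases a
  · exact Or.inr h
  · exact Or.inl rfl

theorem anyM_of {f : ℕ → Bool} {N R : ℕ} (hN : Nat.ble 1 N = true) (hR : Nat.beq R 0 = false) (h : f (ctz R) = true) :
    Pre.anyM f N R = true := by
  cases N with
  | zero => cases hN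
  | succ N =>
    show ite' (Nat.beq R 0) false (frc (ctz R) fun t => bor (f t) (frc (Nat.xor R (Nat.shiftLeft 1 t)) (Pre.anyM f N))) = true
    rw [hR, frc_eq]
    exact bor_l _ h

theorem c2_even (p : Pre) (Q X x : ℕ) : p.c2 Q X (Nat.shiftLeft x 1) =
    pop (Nat.xor (Nat.land X (p.sq x)) (Nat.land (Nat.land X (p.sq x)) (Nat.land X Q))) := by
  have h1 : Nat.shiftRight (Nat.shiftLeft x 1) 1 = x := Nat.shiftLeft_shiftRight x 1
  have h2 : tb (Nat.shiftLeft x 1) 0 = false := by
    rw [tb_eq]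
    exact (Nat.testBit_shiftLeft x).trans rfl
  delta Pre.c2 Pre.rt
  rw [h1, h2]
  congr 1
  show X &&& ((p.SQ >>> (p.N1 * x) &&& p.F) &&& (p.F ^^^ Q)) =
    (X &&& (p.SQ >>> (p.N1 * x) &&& p.F)) ^^^ ((X &&& (p.SQ >>> (p.N1 * x) &&& p.F)) &&& (X &&& Q))
  generalize p.SQ >>> (p.N1 * x) = Y
  refine Nat.eq_of_testBit_eq fun j => ?_
  simp only [Nat.testBit_and, Nat.testBit_xor]
  cases X.testBit j <;> cases Y.testBit j <;> cases p.F.testBit j <;> cases Q.testBit j <;> rfl

theorem c2_odd (p : Pre) (Q X x : ℕ) : p.c2 Q X (Nat.succ (Nat.shiftLeft x 1)) =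
    pop (Nat.land (Nat.land X (p.sq x)) (Nat.land X Q)) := by
  have h0 : Nat.succ (Nat.shiftLeft x 1) = 2 * x + 1 := by
    show x <<< 1 + 1 = _
    rw [Nat.shiftLeft_eq, Nat.pow_one, Nat.mul_comm]
  have h1 : Nat.shiftRight (2 * x + 1) 1 = x := by
    show (2 * x + 1) >>> 1 = x
    rw [Nat.shiftRight_eq_div_pow]
    omega
  have h2 : tb (2 * x + 1) 0 = true := by
    rw [tb_eq, Nat.testBit_zero]
    exact decide_eq_true (by omega)
  delta Pre.c2 Pre.rt
  rw [h0, h1, h2]
  congr 1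
  show X &&& (p.sq x &&& Q) = (X &&& p.sq x) &&& (X &&& Q)
  refine Nat.eq_of_testBit_eq fun j => ?_
  simp only [Nat.testBit_and]
  cases X.testBit j <;> cases (p.sq x).testBit j <;> cases Q.testBit j <;> rfl

theorem shp_zero {p : Pre} {lev : Bool} {c NC Q w X t ti a : ℕ} (h : Nat.beq (p.c2 Q X a) (p.c2 Q X w) = false) :
    p.shp lev c NC Q w X t ti a = 0 := by
  delta Pre.shp Pre.same
  rw [h]
  rfl

theorem band_spec {a b : Bool} (h : band a b = true) : a = true ∧ b = true := if_and h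

theorem bor_spec {a b : Bool} (h : bor a b = true) : a = true ∨ b = true := if_or h

theorem df2_spec {a b c : ℕ} (h : df2 a b c = true) : Nat.beq a c = false ∧ Nat.beq b c = false := by
  delta df2 at h
  revert h
  cases Nat.beq a c <;> cases Nat.beq b c <;> decide

theorem allM_succ {nx : ℕ → ℕ} {g : ℕ → Bool} {k M : ℕ} (h : allM nx g (k + 1) M = true) (hM : Nat.beq M 0 = false) :
    g (nx M) = true ∧ allM nx g k (Nat.xor M (Nat.shiftLeft 1 (nx M))) = true := by
  have h1 : (ifB Nat.beq M 0 then true else ifB g (nx M) then allM nx g k (Nat.xor M (Nat.shiftLeft 1 (nx M)))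
    else false) = true := h
  rw [hM] at h1
  exact if_and h1

theorem cntM_of {f : ℕ → ℕ} {g fin : ℕ → Bool} (h0 : fin 0 = true)
    (hg : ∀ x, g x = true → f (Nat.shiftLeft x 1) = 0 ∧ f (Nat.succ (Nat.shiftLeft x 1)) = 0) : ∀ (k M : ℕ),
    allM ctz g k M = true → Pre.cntM f fin k M 0 = true
  | 0, _, h => by cases h
  | k + 1, M, h => by
    have e : Pre.cntM f fin (k + 1) M 0 = ite' (Nat.beq M 0) (fin 0)
      (frc (ctz M) fun x => frc (Nat.shiftLeft x 1) fun a => frc (f a) fun b => ite' (Nat.ble b 1)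
        (frc (Nat.succ a) fun a' => frc (f a') fun b' => ite' (Nat.ble b' 1)
          (frc (Nat.xor M (Nat.shiftLeft 1 x)) fun M' => frc (Nat.add 0 (Nat.add b b'))
            (Pre.cntM f fin k M')) false) false) := rfl
    rw [e]
    cases hM : Nat.beq M 0
    · obtain ⟨h2, h3⟩ := allM_succ h hM
      have h4 := cntM_of h0 hg k _ h3
      simp only [frc_eq]
      rw [(hg _ h2).1, (hg _ h2).2]
      generalize Nat.xor M (Nat.shiftLeft 1 (ctz M)) = M' at h4 ⊢
      exact h4
    · exact h0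

theorem mul_lt {p : Pre} {c a b : ℕ} (h : Nat.beq (Nat.shiftRight (Nat.land (Nat.shiftRight p.T (Nat.shiftLeft (Nat.add
    (Nat.shiftLeft (Nat.shiftRight a 1) p.n) (Nat.shiftRight b 1)) 5)) 4294967295) p.r) 0 = true) :
    Nat.blt (p.mul c a b) 2 = true := by
  have h1 : ∀ y : ℕ, Nat.blt (Nat.add (Nat.shiftLeft 0 1) (Nat.land y 1)) 2 = true := fun y => by
    rw [Nat.blt_eq]
    show 0 <<< 1 + (y &&& 1) < 2
    rw [Nat.zero_shiftLeft, Nat.zero_add]
    exact Nat.and_lt_two_pow _ (n := 1) (by decide)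
  delta Pre.mul
  beta_reduce
  rw [Nat.eq_of_beq_eq_true h]
  exact h1 _

theorem okG_spec {p : Pre} {c t z : ℕ} (h : okG p t z = true) : Nat.blt (Nat.shiftLeft z 1) (Nat.add p.N p.N) = true ∧
    Nat.blt (p.mul c (Nat.shiftLeft t 1) (Nat.shiftLeft z 1)) 2 = true :=
  ⟨(band_spec h).1, mul_lt (band_spec h).2⟩

theorem sh0_spec {p : Pre} {Q z V rt X : ℕ} (h : sh0 p Q z V rt X = true) :
    allM ctz (shx p X (Nat.land X Q) z) p.N1 (Nat.land V rt) = true := h

theorem shape_of {p : Pre} {lev : Bool} {c NC Q w X V pv t : ℕ} (h1 : okT p t = true)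
    (h2 : sh0 p Q (p.c2 Q X w) V (row p.n p.F NC t) X = true) : p.shape lev c NC Q w X V pv t = true := by
  obtain ⟨h3, h4⟩ := okG_spec (c := c) (z := ctz (row p.n p.F p.ZP t)) h1
  have h5 := sh0_spec h2
  delta Pre.shape
  simp only [frc_eq]
  refine band_of h4 (band_of h3 (cntM_of (bor_l _ rfl) (fun x hx => ?_) _ _ h5))
  have h6 : df2 (pop (Nat.land (Nat.land X (p.sq x)) (Nat.land X Q)))
    (pop (Nat.xor (Nat.land X (p.sq x)) (Nat.land (Nat.land X (p.sq x)) (Nat.land X Q)))) (p.c2 Q X w) = true := hx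
  rw [← c2_odd, ← c2_even] at h6
  exact ⟨shp_zero (df2_spec h6).2, shp_zero (df2_spec h6).1⟩

theorem blt_of_beq {R : ℕ} (h : Nat.beq R 0 = false) : Nat.blt 0 R = true := by
  cases R with
  | zero => cases h
  | succ R => rfl

theorem alt_cls {p : Pre} {lev : Bool} {c NC Q I w : ℕ} {d : ℕ × List (ℕ × ℕ)} {rw X R : ℕ} (e1 : rw = row p.n p.F NC d.1)
    (e2 : X = Nat.xor p.F rw) (e3 : R = Nat.land (Nat.land (p.orN NC rw d.2) rw) (p.sqin X)) (hR : Nat.beq R 0 = false)
    (h : alt p lev c NC Q I w (Nat.land I (Nat.xor p.F (p.nz NC X))) (row p.n p.F NC (ctz R)) X (okT p (ctz R)) d = true) :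
    p.cls lev c NC Q I w d = true := by
  rcases bor_spec h with h1 | h1
  · obtain ⟨h2, h3⟩ := band_spec h1
    rw [cls_eq]
    subst e1 e2 e3
    exact bor_r _ (bor_r _ (bor_r _ (bor_r _ (band_of (blt_of_beq hR) (shape_of h2 h3)))))
  · exact h1

theorem visG_sel {I : ℕ} {ts : ℕ → ℕ → Bool} {al : ℕ → ℕ → ℕ → Bool → ℕ × List (ℕ × ℕ) → Bool}
    {cl : ℕ × List (ℕ × ℕ) → Bool} {p : Pre} {NC X t : ℕ} {d : ℕ × List (ℕ × ℕ)} {z b ok : Bool}
    (h : visG I ts al cl (dat2 p NC d (ite' z D2.z (sel b X t ok))) = true) : cl d = true ∨ (z = false ∧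
      ((b = true ∧ ts (row p.n p.F NC t) (Nat.land I (Nat.xor p.F (p.nz NC X))) = true) ∨
        al (Nat.land I (Nat.xor p.F (p.nz NC X))) (row p.n p.F NC t) X ok d = true)) := by
  cases z
  · refine Or.inr ⟨rfl, ?_⟩
    cases b
    · exact Or.inr h
    · exact (if_or h).imp (fun h1 => ⟨rfl, h1⟩) id
  · exact Or.inl h

theorem daG_eq (cz sq : ℕ → ℕ) (lt : ℕ → ℕ → Bool) (ok : ℕ → Bool) (F rw Nm : ℕ) {X R : ℕ} (e2 : Nat.xor F rw = X)
    (e3 : Nat.land (Nat.land Nm rw) (sq X) = R) :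
    daG cz sq lt ok F rw Nm = ite' (Nat.beq R 0) D2.z (sel (lt X Nm) X (cz R) (ok (cz R))) := by
  subst e2 e3
  rfl

theorem vis_dat {p : Pre} (hN : Nat.ble 1 p.N = true) {lev : Bool} {c NC Q I w : ℕ} {d : ℕ × List (ℕ × ℕ)}
    (h : vis p lev c NC Q I w (dat p NC (row p.n p.F NC d.1) d) = true) : p.cls lev c NC Q I w d = true := by
  generalize e1 : row p.n p.F NC d.1 = rw at h
  generalize e2 : Nat.xor p.F rw = X
  generalize e3 : Nat.land (Nat.land (p.orN NC rw d.2) rw) (p.sqin X) = R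
  have e4 : da2 p rw (p.orN NC rw d.2) = ite' (Nat.beq R 0) D2.z
      (sel (plt X (p.orN NC rw d.2)) X (ctz R) (okT p (ctz R))) := daG_eq _ _ _ _ _ _ _ e2 e3
  have e5 : dat p NC rw d = dat2 p NC d (da2 p rw (p.orN NC rw d.2)) := rfl
  rw [e5, e4] at h
  rcases visG_sel h with h1 | ⟨hR, ⟨hb, h1⟩ | h1⟩
  · exact h1
  · rw [cls_eq]
    subst e1 e2 e3
    exact bor_r _ (bor_r _ (bor_l _ (band_of hb (anyM_of hN hR h1))))
  · exact alt_cls e1.symm e2.symm e3.symm hR h1

theorem foldG_cons {Q vb : ℕ} {v : Dt → Bool} {e : Dt} {A : LL} (h : foldG Q v (LL.cons vb e A) = true) :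
    foldG Q v A = true ∧ (Nat.beq (Nat.land vb Q) 0 = false ∨ v e = true) := by
  have h4 : (ifB Nat.beq (Nat.land vb Q) 0 then (ifB v e then foldG Q v A else false) else foldG Q v A) = true := h
  revert h4
  cases Nat.beq (Nat.land vb Q) 0
  · exact fun h4 => ⟨h4, Or.inl rfl⟩
  · exact fun h4 => ⟨(if_and h4).2, Or.inr (if_and h4).1⟩

theorem fold_lst {p : Pre} (hN : Nat.ble 1 p.N = true) {lev : Bool} {c NC Q I w : ℕ} :
    ∀ (C : List (ℕ × List (ℕ × ℕ))) (A : LL), foldG Q (vis p lev c NC Q I w) (lst p NC C A) = true →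
      foldG Q (vis p lev c NC Q I w) A = true ∧ Pre.allL (p.cls lev c NC Q I w) C = true
  | [], _, h => ⟨h, rfl⟩
  | d :: C, A, h => by
    have e : lst p NC (d :: C) A = @Bool.rec (fun _ => LL)
        (lst p NC C (LL.cons (Nat.shiftLeft 1 d.1) (dat p NC (row p.n p.F NC d.1) d) A)) (lst p NC C A)
        (Nat.beq (row p.n p.F NC d.1) 0) := rfl
    rw [e] at h
    cases h0 : Nat.beq (row p.n p.F NC d.1) 0
    · rw [h0] at h
      obtain ⟨h2, h3⟩ := fold_lst hN C _ h
      obtain ⟨h4, h5 | h5⟩ := foldG_cons h2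
      · refine ⟨h4, band_of ?_ h3⟩
        rw [cls_eq]
        refine bor_l _ ?_
        rw [tb_eq]
        cases h6 : Q.testBit d.1
        · have h7 : Nat.land (Nat.shiftLeft 1 d.1) Q = 0 := by
            show 1 <<< d.1 &&& Q = 0
            rw [Nat.one_shiftLeft, Nat.two_pow_and, h6]
            rfl
          rw [h7] at h5
          cases h5
        · rfl
      · exact ⟨h4, band_of (vis_dat hN h5) h3⟩
    · rw [h0] at h
      obtain ⟨h2, h3⟩ := fold_lst hN C _ h
      refine ⟨h2, band_of ?_ h3⟩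
      rw [cls_eq]
      exact bor_r _ (bor_l _ h0)

theorem allF_spec {p : Pre} (hN : Nat.ble 1 p.N = true) {lev : Bool} {c NC Q I w : ℕ}
    (h : fold p lev c NC Q I w (lsF p NC) = true) : Pre.allL (p.cls lev c NC Q I w) p.C = true :=
  (fold_lst hN p.C LL.nil h).2

theorem allL_mono {α : Type} {f g : α → Bool} (h : ∀ a, f a = true → g a = true) :
    ∀ L : List α, Pre.allL f L = true → Pre.allL g L = true
  | [], _ => rfl
  | a :: L, h1 => band_of (h a (band_spec h1).1) (allL_mono h L (band_spec h1).2)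

theorem colM_mono {f : ℕ → Bool} {k k' : List ℕ → Bool} (h : ∀ L, k L = true → k' L = true) :
    ∀ (n M : ℕ) (L : List ℕ), Pre.colM f false k n M L = true → Pre.colM f false k' n M L = true
  | 0, _, _, h1 => h1
  | n + 1, M, L, h1 => by
    have e : ∀ k : List ℕ → Bool, Pre.colM f false k (n + 1) M L = ite' (Nat.beq M 0) (k L)
        (frc (ctz M) fun x => frc (Nat.shiftLeft x 1) fun a => frc (Nat.succ a) fun a' =>
          frc (Nat.xor M (Nat.shiftLeft 1 x)) fun M' =>
          ite' (f a) (ite' (f a') (Pre.colM f false k n M' (a :: a' :: L)) (Pre.colM f false k n M' (a :: L)))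
            (ite' (f a') (Pre.colM f false k n M' (a' :: L)) (Pre.colM f false k n M' L))) := fun _ => rfl
    rw [e] at h1 ⊢
    simp only [frc_eq] at h1 ⊢
    revert h1
    cases Nat.beq M 0
    · cases f (Nat.shiftLeft (ctz M) 1) <;> cases f (Nat.succ (Nat.shiftLeft (ctz M) 1)) <;> exact colM_mono h n _ _
    · exact h L

theorem conc_eq (p : Pre) (c : ℕ) (k : ℕ → ℕ → ℕ → Bool) {m : ℕ} (hm : okm p.NC0 p.F2 m p.E p.r = true) (a b : ℕ) :
    p.conc c k = (fun Q => k (ncF p (Nat.land c m)) Q (Nat.land (p.sq 0) (Nat.xor p.F Q)))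
      (Nat.xor (xq (p.E.map fun e => Nat.shiftRight e p.N2) p.r (Nat.xor c (Nat.xor a b)))
        (Nat.xor (xq (p.E.map fun e => Nat.shiftRight e p.N2) p.r a) (xq (p.E.map fun e => Nat.shiftRight e p.N2) p.r b))) := by
  have h1 : Nat.lor p.NC0 (Nat.land (xorL p.E c p.r 0) p.F2) = ncF p (Nat.land c m) := xorL_mask c p.E p.r 0 0 hm rfl
  have h2 : Nat.shiftRight (xorL p.E c p.r 0) p.N2 =
      Nat.xor (xq (p.E.map fun e => Nat.shiftRight e p.N2) p.r (Nat.xor c (Nat.xor a b)))
        (Nat.xor (xq (p.E.map fun e => Nat.shiftRight e p.N2) p.r a) (xq (p.E.map fun e => Nat.shiftRight e p.N2) p.r b)) := by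
    refine (xorL_shr c p.N2 p.E p.r 0).trans ?_
    generalize (p.E.map fun e => Nat.shiftRight e p.N2) = L
    show _ = xorL L (c ^^^ (a ^^^ b)) p.r 0 ^^^ (xorL L a p.r 0 ^^^ xorL L b p.r 0)
    rw [← xorL_lin, ← xorL_lin, Nat.xor_assoc, Nat.xor_self, Nat.xor_zero, Nat.zero_shiftRight]
    rfl
  delta Pre.conc
  simp only [frc_eq]
  rw [h1, h2]

theorem s2F_spec {p : Pre} (hN : Nat.ble 1 p.N = true) {c NC Q I w : ℕ} (h : s2F p (lsF p) c NC Q I w = true) :
    (frc (p.cen NC I) fun W => band (Nat.blt 0 w) (band (tb W (Nat.shiftRight w 1))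
      (Pre.colM (fun a => band (Nat.blt 0 a) (p.same true NC Q p.F a w)) false
        (fun L => ite' (Pre.short L) (Pre.allL (p.cls true c NC Q I w) p.C)
          (Pre.allL (fun a => Pre.allL (p.cls true c NC Q I a) p.C) L)) p.N1 W []))) = true := by
  delta s2F at h
  rw [frc_eq] at h ⊢
  obtain ⟨h1, h2⟩ := band_spec h
  obtain ⟨h3, h4⟩ := band_spec h2
  refine band_of h1 (band_of h3 (colM_mono (fun L => ?_) _ _ _ h4))
  cases Pre.short L
  · exact allL_mono (fun a => allF_spec hN) L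
  · exact allF_spec hN

theorem runF_spec {p : Pre} (hN : Nat.ble 1 p.N = true) {m : ℕ} (hm : okm p.NC0 p.F2 m p.E p.r = true) {reps lo : ℕ}
    {outs : List ℕ} : ∀ (k ce : ℕ), runF p (lsF p) (ncF p) (xq (p.E.map fun e => Nat.shiftRight e p.N2) p.r) p.r (msk p.r) m p.F
      (p.sq 0) reps lo k outs ce = true → p.run reps lo k outs ce = true
  | 0, _, _ => rfl
  | j + 1, ce, h => by
    show (frc (Nat.add lo j) fun i => frc (Nat.land (Nat.shiftRight reps (Nat.mul p.r i)) (msk p.r)) fun c =>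
      ite' (Nat.beq (Nat.shiftRight (Nat.land ce 16777215) 9) (Nat.succ i))
        (frc (Nat.land ce 511) fun w =>
          band (ite' (Nat.beq w 0) (bnot (Pre.allL (fun o => bnot (Nat.beq o i)) outs)) (p.s2 c w))
            (frc (Nat.shiftRight ce 24) (p.run reps lo j outs)))
        (band (p.s1 c) (p.run reps lo j outs ce))) = true
    simp only [frc_eq]
    generalize hc : Nat.land (Nat.shiftRight reps (Nat.mul p.r (Nat.add lo j))) (msk p.r) = c
    generalize hQ : Nat.xor (xq (p.E.map fun e => Nat.shiftRight e p.N2) p.r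
        (Nat.xor c (Nat.xor (Nat.land c 15) (Nat.land c 240))))
      (Nat.xor (xq (p.E.map fun e => Nat.shiftRight e p.N2) p.r (Nat.land c 15))
        (xq (p.E.map fun e => Nat.shiftRight e p.N2) p.r (Nat.land c 240))) = Q
    have h1 : (ifB Nat.beq (Nat.shiftRight (Nat.land ce 16777215) 9) (Nat.succ (Nat.add lo j)) then
        (ifB (ifB Nat.beq (Nat.land ce 511) 0 then bnot (Pre.allL (fun o => bnot (Nat.beq o (Nat.add lo j))) outs)
          else s2F p (lsF p) c (ncF p (Nat.land c m)) Q (Nat.land (p.sq 0) (Nat.xor p.F Q)) (Nat.land ce 511))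
        then runF p (lsF p) (ncF p) (xq (p.E.map fun e => Nat.shiftRight e p.N2) p.r) p.r (msk p.r) m p.F
          (p.sq 0) reps lo j outs (Nat.shiftRight ce 24) else false)
        else ifB fold p false c (ncF p (Nat.land c m)) Q (Nat.land (p.sq 0) (Nat.xor p.F Q)) 1
          (lsF p (ncF p (Nat.land c m))) then runF p (lsF p) (ncF p) (xq (p.E.map fun e => Nat.shiftRight e p.N2) p.r) p.r
            (msk p.r) m p.F (p.sq 0) reps lo j outs ce else false) = true := by
      subst hc hQ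
      exact h
    revert h1
    cases Nat.beq (Nat.shiftRight (Nat.land ce 16777215) 9) (Nat.succ (Nat.add lo j))
    · intro h1
      obtain ⟨h2, h3⟩ := if_and h1
      refine band_of ?_ (runF_spec hN hm j ce h3)
      delta Pre.s1
      rw [conc_eq p c _ hm (Nat.land c 15) (Nat.land c 240), hQ]
      exact allF_spec hN h2
    · intro h1
      obtain ⟨h2, h3⟩ := if_and h1
      refine band_of ?_ (runF_spec hN hm j _ h3)
      revert h2
      cases Nat.beq (Nat.land ce 511) 0
      · intro h2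
        show p.s2 c (Nat.land ce 511) = true
        delta Pre.s2
        rw [conc_eq p c _ hm (Nat.land c 15) (Nat.land c 240), hQ]
        exact s2F_spec hN h2
      · exact id

theorem topF_spec {p : Pre} {reps lo k : ℕ} {outs : List ℕ} {ce : ℕ} (h : topF p reps lo k outs ce = true) :
    band p.cover (frc reps fun reps => p.run reps lo k outs ce) = true := by
  obtain ⟨h1, h2⟩ := if_and h
  obtain ⟨h3, h4⟩ := if_and h2
  obtain ⟨h5, h6⟩ := if_and h4
  rw [mkQ_eq] at h6
  rw [frc_eq]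
  exact band_of h1 (runF_spec h3 h5 k ce h6)

theorem mkE_k {α : Type} (n F2 N2 O1 md PM D : ℕ) : ∀ (r : ℕ) (k : List ℕ → α),
    mkE n F2 N2 O1 md PM D r k = k (mkE n F2 N2 O1 md PM D r fun L => L)
  | 0, _ => rfl
  | r + 1, k => by
    have e : ∀ {β : Type} (k : List ℕ → β), mkE n F2 N2 O1 md PM D (r + 1) k = mkE n F2 N2 O1 md PM D r fun L =>
        k (Nat.add (plane n F2 D r) (Nat.shiftLeft (diag O1 md (plane n F2 PM r)) N2) :: L) := fun k =>
      frc_eq (Nat.add (plane n F2 D r) (Nat.shiftLeft (diag O1 md (plane n F2 PM r)) N2)) fun e =>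
        mkE n F2 N2 O1 md PM D r fun L => k (e :: L)
    rw [e, e, mkE_k n F2 N2 O1 md PM D r, mkE_k n F2 N2 O1 md PM D r fun L => _ :: L]

theorem mkU_k {α : Type} (f : ℕ → ℕ) : ∀ (us : List ℕ) (k : List (ℕ × ℕ) → α),
    mkU f us k = k (us.map fun u => (u, f u))
  | [], _ => rfl
  | u :: us, k => by
    have h : mkU f (u :: us) k = frc u fun u => frc (f u) fun m => mkU f us fun L => k ((u, m) :: L) := rfl
    rw [h, frc_eq, frc_eq, mkU_k f us]
    rfl

theorem mkC_k {α : Type} (f : ℕ → ℕ → ℕ) : ∀ (cs : List (ℕ × List ℕ)) (k : List (ℕ × List (ℕ × ℕ)) → α),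
    mkC f cs k = k (cs.map fun c => (c.1, c.2.map fun u => (u, f c.1 u)))
  | [], _ => rfl
  | c :: cs, k => by
    have h : mkC f (c :: cs) k = frc c.1 fun v => mkU (f v) c.2 fun U => mkC f cs fun L => k ((v, U) :: L) := rfl
    rw [h, frc_eq, mkU_k, mkC_k f cs]
    rfl

theorem pre_k (n r w R : ℕ) (cs : List (ℕ × List ℕ)) (k : Pre → Bool) :
    pre n r w R cs k = k (pre n r w R cs fun p => p) := by
  delta pre
  simp only [frc_eq]
  rw [mkE_k, mkC_k, mkE_k (α := Pre), mkC_k]

theorem chkF_spec {n : ℕ} {B : Base} {cd lo k ce : ℕ} {outs : List ℕ} (h : chkF n B cd lo k ce outs = true) :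
    chk n B cd lo k ce outs = true := by
  obtain ⟨h1, h2⟩ := if_and h
  obtain ⟨h3, h4⟩ := if_and h2
  obtain ⟨h5, h6⟩ := if_and h4
  refine band_of h1 (band_of h3 (band_of h5 ?_))
  rw [pre_k]
  exact topF_spec (p := preP n B.r B.w B.rel cd) h6

theorem segF_spec {n : ℕ} {SS : List (List Base)} {B : Base} {cd lo k ce : ℕ} {ics : List (ℕ × Ic)}
    (h : segF n SS B cd lo k ce ics = true) : seg n SS B cd lo k ce ics = true :=
  band_of (chkF_spec (band_spec h).1) (band_spec h).2

theorem look_mono {α : Type} {f g : α → Bool} (h : ∀ a, f a = true → g a = true) :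
    ∀ (L : List α) (k : ℕ), look f L k = true → look g L k = true
  | [], _, h1 => h1
  | a :: _, 0, h1 => h a h1
  | _ :: L, k + 1, h1 => look_mono h L k h1

theorem gallL_mono {α : Type} {f g : α → Bool} (h : ∀ a, f a = true → g a = true) :
    ∀ L : List α, Gen.allL f L = true → Gen.allL g L = true
  | [], _ => rfl
  | a :: L, h1 => band_of (h a (band_spec h1).1) (gallL_mono h L (band_spec h1).2)

theorem jobs_of {n : ℕ} {SS : List (List Base)} {l : List Base} {Js : List Job} (h : jobsF n SS l Js = true) :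
    jobs n SS l Js = true := by
  delta jobsF at h
  delta jobs
  refine gallL_mono (fun J h1 => ?_) Js h
  refine look_mono (fun B h2 => ?_) l J.j h1
  exact segF_spec h2


theorem hd {n : ℕ} {SS : List (List Base)} {l : List Base} {Js : List Job} {L : List (List Job)}
    (h : Gen.allL (jobsF n SS l) (Js :: L) = true) : jobs n SS l Js = true := jobs_of (band_spec h).1

theorem tl {α : Type} {f : α → Bool} {a : α} {L : List α} (h : Gen.allL f (a :: L) = true) : Gen.allL f L = true :=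
  (band_spec h).2
end Fx

end Cfsg.Agent.FS.Sw
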